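import Cfsg.Agent.LyPres.Small

/-!
The presented group on nine letters and its map into the presented Lyons group.
-/

set_option autoImplicit false

namespace Cfsg.Lib.LyPres

open Cfsg.Spor

theorem map_wval {G H : Type*} [Group G] [Group H] (f : G →* H) (im : ℕ → G) :
    ∀ w : List ℕ, f (wval im w) = wval (fun k => f (im k)) w
  | [] => by simp [wval]
  | l :: w => by
    have h := map_wval f im w
    simp only [wval, List.map_cons, List.prod_cons] at h ⊢
    rw [map_mul, h]
    cases l % 2 == 0 <;> simp

theorem wval_congr {G : Type*} [Group G] {im im' : ℕ → G} : ∀ {w : List ℕ},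
    (∀ l ∈ w, im (l / 2) = im' (l / 2)) → wval im w = wval im' w
  | [], _ => rfl
  | l :: w, h => by
    have e := wval_congr (w := w) fun a ha => h a (List.mem_cons_of_mem l ha)
    simp only [wval, List.map_cons, List.prod_cons] at e ⊢
    rw [e, h l List.mem_cons_self]

theorem wval_append {G : Type*} [Group G] (im : ℕ → G) (u w : List ℕ) :
    wval im (u ++ w) = wval im u * wval im w := by
  simp [wval]

/-- The relators of the presented group. -/
abbrev lyRels : Set (FreeGroup Ly.Gen) := coxRelators Ly.edges ∪ {r | r ∈ Ly.extra}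

theorem lyRels_eq : lyRels = {r | r ∈ Ly.extra} := by
  ext r
  refine ⟨fun h => h.elim (fun h => ?_) id, Or.inr⟩
  obtain ⟨a, ha, -⟩ := h
  simp [coxNodes, Ly.edges] at ha

/-- The image of a numbered generator. -/
def g39 (k : ℕ) : Spor.Ly := PresentedGroup.of (genAt k)

theorem g39_rels : ∀ w ∈ relWords, wval g39 w = 1 := by
  intro w hw
  have hm : wval (fun k => FreeGroup.of (genAt k)) w ∈ lyRels :=
    Or.inr (show _ ∈ Ly.extra by rw [extra_eq]; exact List.mem_map_of_mem hw)
  have e := PresentedGroup.one_of_mem hm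
  rw [map_wval] at e
  exact e

theorem c1_eq : g39 10 = g39 2 := by
  have h := g39_rels (relWords.getD 5 []) (by decide +kernel)
  rw [show relWords.getD 5 [] = [20, 5] by decide +kernel] at h
  simp [wval] at h
  exact mul_inv_eq_one.1 h

/-- The relators on nine letters as free words. -/
def relsF : Set (FreeGroup (Fin 9)) := {r | ∃ w ∈ rels9, wval (fun k => FreeGroup.of (Fin.ofNat 9 k)) w = r}

/-- The presented group on nine letters. -/
abbrev F : Type := PresentedGroup relsF

/-- Its generators. -/
def fgen (k : ℕ) : F := PresentedGroup.of (Fin.ofNat 9 k)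

theorem fgen_rels : ∀ w ∈ rels9, wval fgen w = 1 := by
  intro w hw
  have e := PresentedGroup.one_of_mem (rels := relsF) ⟨w, hw, rfl⟩
  rw [map_wval] at e
  exact e

theorem rels9_letters : (rels9.all fun w => w.all fun l => Nat.blt l 18) = true := by decide +kernel

theorem lift_relsF {G : Type*} [Group G] {im : ℕ → G} (h : ∀ w ∈ rels9, wval im w = 1) :
    ∀ r ∈ relsF, FreeGroup.lift (fun i : Fin 9 => im i.val) r = 1 := by
  rintro _ ⟨w, hw, rfl⟩
  rw [map_wval, ← h w hw]
  refine wval_congr fun l hl => ?_
  have h18 := List.all_eq_true.1 (List.all_eq_true.1 rels9_letters w hw) l hl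
  rw [Nat.blt_eq] at h18
  simp [Nat.mod_eq_of_lt (show l / 2 < 9 by omega)]

/-- The map given by nine elements satisfying the relators. -/
def homF {G : Type*} [Group G] {im : ℕ → G} (h : ∀ w ∈ rels9, wval im w = 1) : F →* G :=
  PresentedGroup.toGroup (lift_relsF h)

theorem homF_gen {G : Type*} [Group G] {im : ℕ → G} (h : ∀ w ∈ rels9, wval im w = 1) {k : ℕ} (hk : k < 9) :
    homF h (fgen k) = im k := by
  rw [fgen, homF, PresentedGroup.toGroup.of]
  simp [Nat.mod_eq_of_lt hk]

/-- The nine images in the presented Lyons group. -/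
def ly9 (k : ℕ) : Spor.Ly := g39 (nine.getD k 0)

theorem ly9_rels : ∀ w ∈ rels9, wval ly9 w = 1 := by
  intro w hw
  rw [rels9_eq, List.mem_map] at hw
  obtain ⟨k, hk, rfl⟩ := hw
  have hlt := List.all_eq_true.1 relIdx_lt k hk
  rw [Nat.blt_eq] at hlt
  have hmem : relWords.getD k [] ∈ relWords := by
    rw [List.getD_eq_getElem _ _ hlt]; exact List.getElem_mem hlt
  rw [← g39_rels _ hmem]
  simp only [wval, List.map_map]
  congr 1
  refine List.map_congr_left fun l hl => ?_
  have h := List.all_eq_true.1 (List.all_eq_true.1 up_down k hk) l hl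
  simp only [Bool.and_eq_true] at h
  simp only [Function.comp_apply, ly9, Nat.eq_of_beq_eq_true h.1, Nat.eq_of_beq_eq_true h.2]
  cases hb : l / 2 == 10 with
  | false => rfl
  | true => rw [beq_iff_eq.1 hb, cond_true, c1_eq]

/-- The map into the presented Lyons group. -/
def toLy : F →* Spor.Ly := homF ly9_rels

theorem toLy_gen {k : ℕ} (hk : k < 9) : toLy (fgen k) = ly9 k := homF_gen ly9_rels hk

end Cfsg.Lib.LyPres
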