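import Cfsg.Prelude.Def_LieTypes
import Cfsg.Agent.LyPres.Group
import Cfsg.Agent.LyPres.Packed
import Cfsg.Agent.LyPres.Adjoint14Data

/-!
The group on nine letters maps onto the adjoint group of type G2 over the field with five elements.
-/

set_option autoImplicit false
set_option Elab.async false

namespace Cfsg.Lib.LyPres

open Cfsg.Lie

instance : Fact (Nat.Prime 5) := ⟨by norm_num⟩

/-- A packed product along a word in matrices and their inverses. -/
def wmat (n : ℕ) (A B : List (List ℕ)) : List ℕ → List ℕ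
  | [] => idMat n
  | l :: w => mmul n (bif l % 2 == 0 then A.getD (l / 2) [] else B.getD (l / 2) []) (wmat n A B w)

/-- All the checks of a pair of lists of matrices and their inverses. -/
def gensOK (n k : ℕ) (A B : List (List ℕ)) : Bool :=
  (List.range k).all fun i => matOK n (A.getD i []) && matOK n (B.getD i []) &&
    mmul n (A.getD i []) (B.getD i []) == idMat n && mmul n (B.getD i []) (A.getD i []) == idMat n

/-- The unit of a packed matrix with its inverse. -/
def unitAt (n k : ℕ) (hn : n ≤ 600) (A B : List (List ℕ)) (h : gensOK n k A B = true) (i : ℕ) :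
    (Matrix (Fin n) (Fin n) (ZMod 5))ˣ :=
  if hi : i < k then
    have h' : ((matOK n (A.getD i []) = true ∧ matOK n (B.getD i []) = true) ∧
        mmul n (A.getD i []) (B.getD i []) = idMat n) ∧ mmul n (B.getD i []) (A.getD i []) = idMat n := by
      have := List.all_eq_true.1 h i (List.mem_range.2 hi)
      simpa only [Bool.and_eq_true, beq_iff_eq] using this
    { val := toMat n (A.getD i [])
      inv := toMat n (B.getD i [])
      val_inv := by rw [← toMat_mmul hn h'.1.1.1 h'.1.1.2, h'.1.2, toMat_idMat]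
      inv_val := by rw [← toMat_mmul hn h'.1.1.2 h'.1.1.1, h'.2, toMat_idMat] }
  else 1

theorem wmat_val {n k : ℕ} {hn : n ≤ 600} {A B : List (List ℕ)} (h : gensOK n k A B = true) :
    ∀ w : List ℕ, (∀ l ∈ w, l / 2 < k) →
      matOK n (wmat n A B w) = true ∧
        toMat n (wmat n A B w) = ((wval (unitAt n k hn A B h) w : (Matrix (Fin n) (Fin n) (ZMod 5))ˣ) : Matrix _ _ _)
  | [], _ => ⟨matOK_idMat n, by simp [wmat, wval, toMat_idMat]⟩
  | l :: w, hl => by
    obtain ⟨h1, h2⟩ := wmat_val (hn := hn) h w fun a ha => hl a (List.mem_cons_of_mem l ha)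
    have hk : l / 2 < k := hl l List.mem_cons_self
    have hh := List.all_eq_true.1 h _ (List.mem_range.2 hk)
    simp only [Bool.and_eq_true, beq_iff_eq] at hh
    have hA : matOK n (bif l % 2 == 0 then A.getD (l / 2) [] else B.getD (l / 2) []) = true := by
      cases l % 2 == 0
      · exact hh.1.1.2
      · exact hh.1.1.1
    refine ⟨matOK_mmul hA, ?_⟩
    rw [wmat, toMat_mmul hn hA h1, h2]
    simp only [wval, List.map_cons, List.prod_cons, Units.val_mul]
    congr 1
    cases l % 2 == 0 <;> simp [unitAt, hk]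

theorem gens14_ok : gensOK 14 9 gen14 gen14i = true := by decide +kernel

/-- The nine matrices of degree fourteen. -/
def u14 : ℕ → (Matrix (Fin 14) (Fin 14) (ZMod 5))ˣ := unitAt 14 9 (by norm_num) gen14 gen14i gens14_ok

theorem rels14_ok : (rels9.all fun w => wmat 14 gen14 gen14i w == idMat 14) = true := by decide +kernel

theorem wval14 (w : List ℕ) (hw : ∀ l ∈ w, l < 18) :
    toMat 14 (wmat 14 gen14 gen14i w) = ((wval u14 w : (Matrix (Fin 14) (Fin 14) (ZMod 5))ˣ) : Matrix _ _ _) :=
  (wmat_val (hn := by norm_num) gens14_ok w fun l hl => by have := hw l hl; omega).2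

theorem u14_rels : ∀ w ∈ rels9, wval u14 w = 1 := by
  intro w hw
  refine Units.ext ?_
  have h18 : ∀ l ∈ w, l < 18 := fun l hl => by
    simpa [Nat.blt_eq] using List.all_eq_true.1 (List.all_eq_true.1 rels9_letters w hw) l hl
  have h := List.all_eq_true.1 rels14_ok w hw
  rw [beq_iff_eq] at h
  rw [← wval14 w h18, h, toMat_idMat, Units.val_one]

/-- The roots followed by the two coroots, as numbers. -/
def idx14 : chevG2.Idx ≃ Fin 14 := finSumFinEquiv

/-- The change of the index set. -/
noncomputable def reIdx : (Matrix (Fin 14) (Fin 14) (ZMod 5))ˣ →* GL chevG2.Idx (ZMod 5) :=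
  Units.map (Matrix.reindexAlgEquiv (ZMod 5) (ZMod 5) idx14.symm).toMonoidHom

theorem reIdx_val (u : (Matrix (Fin 14) (Fin 14) (ZMod 5))ˣ) (i j : chevG2.Idx) :
    (reIdx u : Matrix chevG2.Idx chevG2.Idx (ZMod 5)) i j = (u : Matrix _ _ _) (idx14 i) (idx14 j) := by
  simp [reIdx]

/-- The map into the matrices of the Lie algebra. -/
noncomputable def toG2 : F →* GL chevG2.Idx (ZMod 5) := homF (im := fun k => reIdx (u14 k)) (fun w hw => by
  rw [← map_wval, u14_rels w hw, map_one])

theorem toG2_gen {k : ℕ} (hk : k < 9) : toG2 (fgen k) = reIdx (u14 k) := homF_gen _ hk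

/-- An entry of a packed matrix. -/
def ent14 (A : List ℕ) (i j : Fin 14) : ZMod 5 := toMat 14 A i j

/-- A packed matrix is a root element. -/
def isRoot (A : List ℕ) (r : Fin chevG2.nroots) (t : ZMod 5) : Bool :=
  decide (∀ i j : Fin 14, ent14 A i j = chevG2.xMat (ZMod 5) r t (idx14.symm i) (idx14.symm j))

theorem isRoot_apply {A : List ℕ} {r : Fin chevG2.nroots} {t : ZMod 5} (h : isRoot A r t = true) (a b : chevG2.Idx) :
    toMat 14 A (idx14 a) (idx14 b) = chevG2.xMat (ZMod 5) r t a b := by
  have h' : ∀ i j : Fin 14, ent14 A i j = chevG2.xMat (ZMod 5) r t (idx14.symm i) (idx14.symm j) :=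
    of_decide_eq_true h
  have h'' := h' (idx14 a) (idx14 b)
  rw [idx14.symm_apply_apply, idx14.symm_apply_apply] at h''
  exact h''

theorem xMat_zero : ∀ r : Fin chevG2.nroots, ∀ i j : Fin 14, (if i = j then (1 : ZMod 5) else 0) =
    chevG2.xMat (ZMod 5) r 0 (idx14.symm i) (idx14.symm j) := by
  decide +kernel

set_option maxRecDepth 100000 in
theorem roots_ok : ∀ r : Fin chevG2.nroots, ∀ t : Fin 4,
    isRoot (rootMats.getD (4 * r.val + t.val) []) r ((t.val + 1 : ℕ) : ZMod 5) = true := by
  decide +kernel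

theorem rootWords_ok : ∀ k < 48, ((rootWords.getD k []).all fun l => Nat.blt l 18) = true ∧
    wmat 14 gen14 gen14i (rootWords.getD k []) = rootMats.getD k [] := by
  decide +kernel

theorem toG2_wval (w : List ℕ) (hw : ∀ l ∈ w, l < 18) : toG2 (wval fgen w) = reIdx (wval u14 w) := by
  rw [map_wval, map_wval]
  refine wval_congr fun l hl => toG2_gen ?_
  have := hw l hl
  omega

theorem root_mem_range (r : Fin chevG2.nroots) (t : ZMod 5) :
    ∃ x : F, ((toG2 x : GL chevG2.Idx (ZMod 5)) : Matrix chevG2.Idx chevG2.Idx (ZMod 5)) = chevG2.xMat (ZMod 5) r t := by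
  by_cases ht : t = 0
  · refine ⟨1, ?_⟩
    subst ht
    rw [map_one, Units.val_one]
    ext i j
    have h := xMat_zero r (idx14 i) (idx14 j)
    rw [idx14.symm_apply_apply, idx14.symm_apply_apply] at h
    rw [← h, Matrix.one_apply]
    simp only [idx14.injective.eq_iff]
  · obtain ⟨s, rfl⟩ : ∃ s : Fin 4, t = ((s.val + 1 : ℕ) : ZMod 5) := by
      revert ht t
      decide +kernel
    have hk : 4 * r.val + s.val < 48 := by have hr : r.val < 12 := r.isLt; omega
    obtain ⟨h1, h2⟩ := rootWords_ok _ hk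
    have h18 : ∀ l ∈ rootWords.getD (4 * r.val + s.val) [], l < 18 := fun l hl => by
      simpa [Nat.blt_eq] using List.all_eq_true.1 h1 l hl
    refine ⟨wval fgen (rootWords.getD (4 * r.val + s.val) []), ?_⟩
    ext i j
    rw [toG2_wval _ h18, reIdx_val, ← wval14 _ h18, h2]
    exact isRoot_apply (roots_ok r s) i j

theorem group_le_range : chevG2.group (ZMod 5) ≤ toG2.range := by
  refine (Subgroup.closure_le _).2 ?_
  rintro g ⟨r, t, hg⟩
  obtain ⟨x, hx⟩ := root_mem_range r t
  exact ⟨x, Units.ext (hx.trans hg.symm)⟩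

/-- The product of root elements along a word. -/
def rmat : List ℕ → List ℕ
  | [] => idMat 14
  | k :: w => mmul 14 (rootMats.getD k []) (rmat w)

theorem rootMats_ok : rootMats.all (matOK 14) = true := by decide +kernel

theorem genWords_ok : ∀ k < 9, ((genWords.getD k []).all fun l => Nat.blt l 48) = true ∧
    rmat (genWords.getD k []) = gen14.getD k [] := by
  decide +kernel

set_option maxHeartbeats 2000000 in
theorem rmat_mem : ∀ w : List ℕ, (∀ l ∈ w, l < 48) → matOK 14 (rmat w) = true ∧
    ∃ g ∈ chevG2.group (ZMod 5), ∀ i j, (g : Matrix chevG2.Idx chevG2.Idx (ZMod 5)) i j =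
      toMat 14 (rmat w) (idx14 i) (idx14 j)
  | [], _ => ⟨matOK_idMat 14, 1, one_mem _, fun i j => by simp [rmat, toMat_idMat, Matrix.one_apply]⟩
  | k :: w, hl => by
    obtain ⟨h1, g, hg, e⟩ := rmat_mem w fun a ha => hl a (List.mem_cons_of_mem k ha)
    have hk : k < 48 := hl k List.mem_cons_self
    have hA : matOK 14 (rootMats.getD k []) = true := by
      have hlt : k < rootMats.length := hk
      rw [List.getD_eq_getElem _ _ hlt]
      exact List.all_eq_true.1 rootMats_ok _ (List.getElem_mem hlt)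
    refine ⟨matOK_mmul hA, ?_⟩
    obtain ⟨x, hx⟩ := root_mem_range ⟨k / 4, show k / 4 < 12 by omega⟩ ((k % 4 + 1 : ℕ) : ZMod 5)
    refine ⟨toG2 x * g, mul_mem (Subgroup.subset_closure ⟨_, _, hx⟩) hg, fun i j => ?_⟩
    have hr : ∀ a b, chevG2.xMat (ZMod 5) ⟨k / 4, show k / 4 < 12 by omega⟩ ((k % 4 + 1 : ℕ) : ZMod 5) a b =
        toMat 14 (rootMats.getD k []) (idx14 a) (idx14 b) := fun a b => by
      have := isRoot_apply (roots_ok ⟨k / 4, show k / 4 < 12 by omega⟩ ⟨k % 4, by omega⟩) a b
      rw [Nat.div_add_mod] at this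
      exact this.symm
    rw [Units.val_mul, Matrix.mul_apply, rmat, toMat_mmul (by norm_num) hA h1, Matrix.mul_apply,
      ← idx14.sum_comp]
    exact Finset.sum_congr rfl fun m _ => by rw [hx, hr, e]

theorem range_eq : toG2.range = chevG2.group (ZMod 5) := by
  refine le_antisymm ?_ group_le_range
  rw [MonoidHom.range_eq_map, ← PresentedGroup.closure_range_of relsF, MonoidHom.map_closure, Subgroup.closure_le]
  rintro _ ⟨_, ⟨i, rfl⟩, rfl⟩
  obtain ⟨h1, h2⟩ := genWords_ok i.val i.isLt
  obtain ⟨-, g, hg, e⟩ := rmat_mem _ fun l hl => by simpa [Nat.blt_eq] using List.all_eq_true.1 h1 l hl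
  have hi : PresentedGroup.of i = fgen i.val := by simp [fgen]
  rw [hi, toG2_gen i.isLt, SetLike.mem_coe]
  convert hg using 1
  refine Units.ext (Matrix.ext fun a b => ?_)
  rw [e, h2, reIdx_val]
  simp [u14, unitAt, i.isLt]

end Cfsg.Lib.LyPres
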