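import Mathlib

/-!
The nine generators in degree seven.
-/

set_option autoImplicit false

namespace Cfsg.Lib.LyPres

/-- The matrices of the nine generators. -/
def gen7 : List (List ℕ) :=
  [[0x40001, 0x40004, 0x20001000200000000, 0x20000000300000000, 0x20004000200000000, 0x3000200000000000000000000, 0x3000300000000000000000000],
    [0x10001, 0x10000, 0x10002000100000000, 0x10001000000000000, 0x10000000000000000, 0x1000100000000000000000000, 0x1000000000000000000000000],
    [0x400000001, 0x400000002000000010000, 0x100000000, 0x400000001000000000000, 0x1000000010000000000000000, 0x100000000000000000000, 0x1000000000000000000000000],
    [0x100000000000000000000, 0x1000000000000000000000000, 0x100000000, 0x1000000000000, 0x10000000000000000, 0x4, 0x40000],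
    [0x1000100020004000400030004, 0x4000200020002000300000000, 0x2000300000001000000020000, 0x3000100020001000000000000, 0x4000200000000000000000000, 0x2000000030000000000000000, 0x4000000000000000000000000],
    [0x4000100020002000100000001, 0x4000100040003000300010000, 0x3000400000000000100000000, 0x1000100000001000000000000, 0x4000300010000000000000000, 0x100000000000000000000, 0x1000000000000000000000000],
    [0x1000100020001000400000001, 0x4000400020002000000010000, 0x3000200000000000100000000, 0x3000400000001000000000000, 0x1000000010000000000000000, 0x100000000000000000000, 0x1000000000000000000000000],
    [0x1000400020004000400000001, 0x1000400030002000000010000, 0x3000300000000000100000000, 0x2000400000001000000000000, 0x1000000010000000000000000, 0x100000000000000000000, 0x1000000000000000000000000],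
    [0x300000000000000000001, 0x3000000000000000000010000, 0x100000000, 0x1000000000000, 0x10000000000000000, 0x100000000000000000000, 0x1000000000000000000000000]]

/-- Their inverses. -/
def gen7i : List (List ℕ) :=
  [[0x20003, 0x20002, 0x20001000200000000, 0x20000000300000000, 0x20004000200000000, 0x1000400000000000000000000, 0x1000100000000000000000000],
    [0x40001, 0x10000, 0x10003000100000000, 0x40001000000000000, 0x10000000000000000, 0x4000100000000000000000000, 0x1000000000000000000000000],
    [0x100000001, 0x400000003000000010000, 0x100000000, 0x100000001000000000000, 0x4000000010000000000000000, 0x100000000000000000000, 0x1000000000000000000000000],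
    [0x400000000000000000000, 0x4000000000000000000000000, 0x100000000, 0x1000000000000, 0x10000000000000000, 0x1, 0x10000],
    [0x1000100020004000400030004, 0x4000200020002000300000000, 0x2000300000001000000020000, 0x3000100020001000000000000, 0x4000200000000000000000000, 0x2000000030000000000000000, 0x4000000000000000000000000],
    [0x4000100030003000400000001, 0x4000100010002000200010000, 0x2000100000000000100000000, 0x4000400000001000000000000, 0x1000200010000000000000000, 0x100000000000000000000, 0x1000000000000000000000000],
    [0x1000100030004000100000001, 0x4000400030003000000010000, 0x2000300000000000100000000, 0x2000100000001000000000000, 0x4000000010000000000000000, 0x100000000000000000000, 0x1000000000000000000000000],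
    [0x1000400030001000100000001, 0x1000400020003000000010000, 0x2000200000000000100000000, 0x3000100000001000000000000, 0x4000000010000000000000000, 0x100000000000000000000, 0x1000000000000000000000000],
    [0x200000000000000000001, 0x2000000000000000000010000, 0x100000000, 0x1000000000000, 0x10000000000000000, 0x100000000000000000000, 0x1000000000000000000000000]]

end Cfsg.Lib.LyPres
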