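import Cfsg.Agent.LyPres.Iso
import Cfsg.Agent.LyPres.Seven7Data

/-!
The faithful matrices of degree seven, and conjugation by z in the presented Lyons group.
-/

set_option autoImplicit false
set_option Elab.async false

namespace Cfsg.Lib.LyPres

open Cfsg.Spor

theorem gens7_ok : gensOK 7 9 gen7 gen7i = true := by decide +kernel

/-- The nine matrices of degree seven. -/
def u7 : ℕ → (Matrix (Fin 7) (Fin 7) (ZMod 5))ˣ := unitAt 7 9 (by norm_num) gen7 gen7i gens7_ok

theorem rels7_ok : (rels9.all fun w => wmat 7 gen7 gen7i w == idMat 7) = true := by decide +kernel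

/-- The product along a word in degree seven. -/
def m7 (w : List ℕ) : List ℕ := wmat 7 gen7 gen7i w

theorem lt18 {w : List ℕ} (h : (w.all fun l => Nat.blt l 18) = true) : ∀ l ∈ w, l < 18 := fun l hl => by
  simpa [Nat.blt_eq] using List.all_eq_true.1 h l hl

theorem wval7 (w : List ℕ) (hw : ∀ l ∈ w, l < 18) : matOK 7 (m7 w) = true ∧
    toMat 7 (m7 w) = ((wval u7 w : (Matrix (Fin 7) (Fin 7) (ZMod 5))ˣ) : Matrix _ _ _) :=
  wmat_val (hn := by norm_num) gens7_ok w fun l hl => by have := hw l hl; omega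

theorem u7_rels : ∀ w ∈ rels9, wval u7 w = 1 := by
  intro w hw
  refine Units.ext ?_
  have h18 := lt18 (List.all_eq_true.1 rels9_letters w hw)
  have h := List.all_eq_true.1 rels7_ok w hw
  rw [beq_iff_eq] at h
  rw [← (wval7 w h18).2, m7, h, toMat_idMat,
    Units.val_one]

/-- The representation of degree seven. -/
def rho7 : F →* (Matrix (Fin 7) (Fin 7) (ZMod 5))ˣ := homF u7_rels

theorem b7_ne : gen7.getD 1 [] ≠ idMat 7 := by decide +kernel

theorem toMat_inj {n : ℕ} {A B : List ℕ} (hA : matOK n A = true) (hB : matOK n B = true)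
    (h : toMat n A = toMat n B) : A = B := by
  simp only [matOK, Bool.and_eq_true, beq_iff_eq, List.all_eq_true] at hA hB
  refine List.ext_getElem (hA.1.trans hB.1.symm) fun i h1 h2 => ?_
  have hi : i < n := hA.1 ▸ h1
  have key : ∀ (k x y : ℕ), rowOK k x = true → rowOK k y = true → (∀ j < k, fld x j = fld y j) → x = y := by
    intro k
    induction k with
    | zero => intro x y hx hy _; simp [rowOK] at hx hy; omega
    | succ k ih =>
      intro x y hx hy e
      simp [rowOK] at hx hy
      have e0 := e 0 (Nat.succ_pos k)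
      simp [fld] at e0
      have e1 := ih (x / 65536) (y / 65536) hx.2 hy.2 fun j hj => by simpa [fld] using e (j + 1) (by omega)
      omega
  refine key n _ _ (hA.2 _ (List.getElem_mem h1)) (hB.2 _ (List.getElem_mem h2)) fun j hj => ?_
  have e := congrFun (congrFun h ⟨i, hi⟩) ⟨j, hj⟩
  simp only [toMat, Matrix.of_apply, List.getD_eq_getElem _ _ h1, List.getD_eq_getElem _ _ h2] at e
  rw [ZMod.natCast_eq_natCast_iff'] at e
  have a1 := fld_lt j (hA.2 _ (List.getElem_mem h1))
  have a2 := fld_lt j (hB.2 _ (List.getElem_mem h2))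
  omega

theorem rho7_wval (w : List ℕ) (hw : ∀ l ∈ w, l < 18) :
    ((rho7 (wval fgen w) : (Matrix (Fin 7) (Fin 7) (ZMod 5))ˣ) : Matrix _ _ _) = toMat 7 (m7 w) := by
  rw [map_wval, (wval7 w hw).2]
  congr 1
  refine wval_congr fun l hl => homF_gen u7_rels ?_
  have := hw l hl
  omega

theorem rho7_injective : Function.Injective rho7 := by
  haveI := simple_F
  rw [← MonoidHom.ker_eq_bot_iff]
  refine (Subgroup.Normal.eq_bot_or_eq_top (MonoidHom.normal_ker rho7)).resolve_right fun h => ?_
  have h1 : rho7 (fgen 1) = 1 := MonoidHom.mem_ker.1 (by rw [h]; exact Subgroup.mem_top _)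
  have e := rho7_wval [2] (by simp)
  rw [show wval fgen [2] = fgen 1 by simp [wval], h1, Units.val_one, ← toMat_idMat] at e
  exact b7_ne ((show m7 [2] = gen7.getD 1 [] by decide +kernel) ▸
    (toMat_inj (matOK_idMat 7) (by decide +kernel) e).symm)

/-- A packed matrix stands for an element. -/
def El (A : List ℕ) (a : F) : Prop :=
  matOK 7 A = true ∧ toMat 7 A = ((rho7 a : (Matrix (Fin 7) (Fin 7) (ZMod 5))ˣ) : Matrix _ _ _)

theorem El.one : El (idMat 7) 1 := ⟨matOK_idMat 7, by rw [map_one, Units.val_one, toMat_idMat]⟩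

theorem El.mul {A B : List ℕ} {a b : F} (ha : El A a) (hb : El B b) : El (mmul 7 A B) (a * b) :=
  ⟨matOK_mmul ha.1, by rw [map_mul, Units.val_mul, toMat_mmul (by norm_num) ha.1 hb.1, ha.2, hb.2]⟩

theorem El.unique {A : List ℕ} {a b : F} (ha : El A a) (hb : El A b) : a = b :=
  rho7_injective (Units.ext (ha.2.symm.trans hb.2))

theorem El.eq_of {A B : List ℕ} {a : F} (ha : El A a) (hb : El B a) : A = B :=
  toMat_inj ha.1 hb.1 (ha.2.trans hb.2.symm)

theorem El.word (w : List ℕ) (hw : (w.all fun l => Nat.blt l 18) = true) : El (m7 w) (wval fgen w) :=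
  ⟨(wval7 w (lt18 hw)).1,
    (rho7_wval w (lt18 hw)).symm⟩

theorem El.inv {A B : List ℕ} {a : F} (ha : El A a) (hB : matOK 7 B = true) (h : mmul 7 B A = idMat 7) :
    El B a⁻¹ := by
  refine ⟨hB, ?_⟩
  have e : toMat 7 B * toMat 7 A = 1 := by rw [← toMat_mmul (by norm_num) hB ha.1, h, toMat_idMat]
  rw [ha.2] at e
  rw [map_inv]
  exact left_inv_eq_right_inv e (by rw [← Units.val_mul, mul_inv_cancel, Units.val_one])

/-- The eight elements normalised by z. -/
def lgW : List (List ℕ) := [[4], [10], [12], [14], [16], [0], [2, 0, 3], [2, 2, 0, 3, 3]]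

/-- Their images under z. -/
def imW : List (List ℕ) :=
  [[1, 3, 1, 2, 5, 3, 0, 5, 2, 0], [3, 3, 0, 4, 1, 2, 4, 2], [1, 3, 1, 4, 0, 2, 0], [3, 1, 2, 4, 3, 0, 2],
    [2, 2, 1, 3, 4, 2, 0, 4, 3, 3, 5], [1, 1, 1], [2, 1, 3, 1, 1], [0, 2, 2, 0, 3, 3, 1]]

/-- A letter of the nine as a letter of the thirty-nine. -/
def up (l : ℕ) : ℕ := 2 * nine.getD (l / 2) 0 + l % 2

/-- The inverse of a word. -/
def winv (w : List ℕ) : List ℕ := (w.map fun l => bif l % 2 == 0 then l + 1 else l - 1).reverse

theorem wval_winv {G : Type*} [Group G] (im : ℕ → G) : ∀ w : List ℕ, wval im (winv w) = (wval im w)⁻¹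
  | [] => by simp [winv, wval]
  | l :: w => by
    have e : winv (l :: w) = winv w ++ [bif l % 2 == 0 then l + 1 else l - 1] := by simp [winv]
    rw [e, wval_append, wval_winv im w]
    simp only [wval, List.map_cons, List.map_nil, List.prod_cons, List.prod_nil, mul_one, mul_inv_rev]
    congr 1
    rcases Nat.mod_two_eq_zero_or_one l with h | h
    · simp [h, show (l + 1) % 2 = 1 by omega, show (l + 1) / 2 = l / 2 by omega]
    · simp [h, show (l - 1) % 2 = 0 by omega, show (l - 1) / 2 = l / 2 by omega]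

/-- A generator is defined by a word. -/
def defOK (g : ℕ) (w : List ℕ) : Bool :=
  w.map up == [2 * g] || (g == 10 && w == [4]) || relWords.any fun r => r == 2 * g :: winv (w.map up)

theorem toLy_wval (w : List ℕ) (hw : ∀ l ∈ w, l < 18) : toLy (wval fgen w) = wval g39 (w.map up) := by
  rw [map_wval]
  simp only [wval, List.map_map]
  congr 1
  refine List.map_congr_left fun l hl => ?_
  have := hw l hl
  simp only [Function.comp_apply, up]
  rw [toLy_gen (show l / 2 < 9 by omega), ly9, show (2 * nine.getD (l / 2) 0 + l % 2) % 2 = l % 2 by omega,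
    show (2 * nine.getD (l / 2) 0 + l % 2) / 2 = nine.getD (l / 2) 0 by omega]

theorem defOK_val {g : ℕ} {w : List ℕ} (h : defOK g w = true) (hw : ∀ l ∈ w, l < 18) :
    g39 g = toLy (wval fgen w) := by
  rw [toLy_wval w hw]
  simp only [defOK, Bool.or_eq_true, Bool.and_eq_true, beq_iff_eq, List.any_eq_true] at h
  rcases h with (h | ⟨rfl, rfl⟩) | ⟨r, hr, rfl⟩
  · rw [h]
    simp [wval]
  · simp [wval, up, nine, c1_eq]
  · have e := g39_rels _ hr
    rw [show 2 * g :: winv (w.map up) = [2 * g] ++ winv (w.map up) from rfl, wval_append, wval_winv] at e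
    simpa [wval] using mul_inv_eq_one.1 e

/-- The z of the presented group. -/
def zL : Spor.Ly := g39 4

theorem conj_ok : (List.range 8).all (fun i => match relWords.getD (72 + i) [] with
    | [9, g, 8, x] => g % 2 == 0 && x % 2 == 1 && defOK (g / 2) (lgW.getD i []) && defOK (x / 2) (imW.getD i [])
    | _ => false) = true := by
  decide +kernel

theorem lgW_lt : (lgW ++ imW).all (fun w => w.all fun l => Nat.blt l 18) = true := by decide +kernel

theorem z_conj {i : ℕ} (hi : i < 8) :
    toLy (wval fgen (lgW.getD i [])) * zL = zL * toLy (wval fgen (imW.getD i [])) := by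
  have h := List.all_eq_true.1 conj_ok i (List.mem_range.2 hi)
  have hlt : 72 + i < relWords.length := by
    have : relWords.length = 86 := by decide +kernel
    omega
  have h1 : ∀ w ∈ lgW ++ imW, ∀ l ∈ w, l < 18 := fun w hw => lt18 (List.all_eq_true.1 lgW_lt w hw)
  split at h
  · rename_i g x hg
    simp only [Bool.and_eq_true, beq_iff_eq] at h
    obtain ⟨⟨⟨hg2, hx2⟩, hd1⟩, hd2⟩ := h
    have e := g39_rels _ (hg ▸ (List.getD_eq_getElem _ _ hlt ▸ List.getElem_mem hlt))
    have l1 : lgW.getD i [] ∈ lgW ++ imW := by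
      have : i < lgW.length := hi
      rw [List.getD_eq_getElem _ _ this]; exact List.mem_append_left _ (List.getElem_mem this)
    have l2 : imW.getD i [] ∈ lgW ++ imW := by
      have : i < imW.length := hi
      rw [List.getD_eq_getElem _ _ this]; exact List.mem_append_right _ (List.getElem_mem this)
    rw [← defOK_val hd1 (h1 _ l1), ← defOK_val hd2 (h1 _ l2)]
    simp [wval, hg2, hx2] at e
    have e' : zL⁻¹ * g39 (g / 2) * zL = g39 (x / 2) := by
      rw [← mul_inv_eq_one]
      simpa [zL, mul_assoc] using e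
    rw [← e']
    group
  · simp at h

theorem z_sq : zL * zL = toLy (wval fgen [0, 0]) := by
  have hu : g39 15 = toLy (wval fgen [0, 0]) := defOK_val (by decide +kernel) (by simp)
  have h : [8, 8, 31] ∈ relWords := by decide +kernel
  have e := g39_rels _ h
  simp [wval] at e
  rw [← hu, ← mul_inv_eq_one]
  simpa [zL, mul_assoc] using e

end Cfsg.Lib.LyPres
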