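import Cfsg.Agent.LyPres.RepGens
import Cfsg.Agent.LyPres.Seven7

/-!
The representation of degree 111 of the presented Lyons group.
-/

set_option autoImplicit false
set_option Elab.async false

namespace Cfsg.Lib.LyPres

open Cfsg.Spor

theorem rel111_0 : triv111 (relWords.getD 0 []) = true := by decide +kernel

theorem rel111_1 : triv111 (relWords.getD 1 []) = true := by decide +kernel

theorem rel111_2 : triv111 (relWords.getD 2 []) = true := by decide +kernel

theorem rel111_3 : triv111 (relWords.getD 3 []) = true := by decide +kernel

theorem rel111_4 : triv111 (relWords.getD 4 []) = true := by decide +kernel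

theorem rel111_5 : triv111 (relWords.getD 5 []) = true := by decide +kernel

theorem rel111_6 : triv111 (relWords.getD 6 []) = true := by decide +kernel

theorem rel111_7 : triv111 (relWords.getD 7 []) = true := by decide +kernel

theorem rel111_8 : triv111 (relWords.getD 8 []) = true := by decide +kernel

theorem rel111_9 : triv111 (relWords.getD 9 []) = true := by decide +kernel

theorem rel111_10 : triv111 (relWords.getD 10 []) = true := by decide +kernel

theorem rel111_11 : triv111 (relWords.getD 11 []) = true := by decide +kernel

theorem rel111_12 : triv111 (relWords.getD 12 []) = true := by decide +kernel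

theorem rel111_13 : triv111 (relWords.getD 13 []) = true := by decide +kernel

theorem rel111_14 : triv111 (relWords.getD 14 []) = true := by decide +kernel

theorem rel111_15 : triv111 (relWords.getD 15 []) = true := by decide +kernel

theorem rel111_16 : triv111 (relWords.getD 16 []) = true := by decide +kernel

theorem rel111_17 : triv111 (relWords.getD 17 []) = true := by decide +kernel

theorem rel111_18 : triv111 (relWords.getD 18 []) = true := by decide +kernel

theorem rel111_19 : triv111 (relWords.getD 19 []) = true := by decide +kernel

theorem rel111_20 : triv111 (relWords.getD 20 []) = true := by decide +kernel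

theorem rel111_21 : triv111 (relWords.getD 21 []) = true := by decide +kernel

theorem rel111_22 : triv111 (relWords.getD 22 []) = true := by decide +kernel

theorem rel111_23 : triv111 (relWords.getD 23 []) = true := by decide +kernel

theorem rel111_24 : triv111 (relWords.getD 24 []) = true := by decide +kernel

theorem rel111_25 : triv111 (relWords.getD 25 []) = true := by decide +kernel

theorem rel111_26 : triv111 (relWords.getD 26 []) = true := by decide +kernel

theorem rel111_27 : triv111 (relWords.getD 27 []) = true := by decide +kernel

theorem rel111_28 : triv111 (relWords.getD 28 []) = true := by decide +kernel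

theorem rel111_29 : triv111 (relWords.getD 29 []) = true := by decide +kernel

theorem rel111_30 : triv111 (relWords.getD 30 []) = true := by decide +kernel

theorem rel111_31 : triv111 (relWords.getD 31 []) = true := by decide +kernel

theorem rel111_32 : triv111 (relWords.getD 32 []) = true := by decide +kernel

theorem rel111_33 : triv111 (relWords.getD 33 []) = true := by decide +kernel

theorem rel111_34 : triv111 (relWords.getD 34 []) = true := by decide +kernel

theorem rel111_35 : triv111 (relWords.getD 35 []) = true := by decide +kernel

theorem rel111_36 : triv111 (relWords.getD 36 []) = true := by decide +kernel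

theorem rel111_37 : triv111 (relWords.getD 37 []) = true := by decide +kernel

theorem rel111_38 : triv111 (relWords.getD 38 []) = true := by decide +kernel

theorem rel111_39 : triv111 (relWords.getD 39 []) = true := by decide +kernel

theorem rel111_40 : triv111 (relWords.getD 40 []) = true := by decide +kernel

theorem rel111_41 : triv111 (relWords.getD 41 []) = true := by decide +kernel

theorem rel111_42 : triv111 (relWords.getD 42 []) = true := by decide +kernel

theorem rel111_43 : triv111 (relWords.getD 43 []) = true := by decide +kernel

theorem rel111_44 : triv111 (relWords.getD 44 []) = true := by decide +kernel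

theorem rel111_45 : triv111 (relWords.getD 45 []) = true := by decide +kernel

theorem rel111_46 : triv111 (relWords.getD 46 []) = true := by decide +kernel

theorem rel111_47 : triv111 (relWords.getD 47 []) = true := by decide +kernel

theorem rel111_48 : triv111 (relWords.getD 48 []) = true := by decide +kernel

theorem rel111_49 : triv111 (relWords.getD 49 []) = true := by decide +kernel

theorem rel111_50 : triv111 (relWords.getD 50 []) = true := by decide +kernel

theorem rel111_51 : triv111 (relWords.getD 51 []) = true := by decide +kernel

theorem rel111_52 : triv111 (relWords.getD 52 []) = true := by decide +kernel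

theorem rel111_53 : triv111 (relWords.getD 53 []) = true := by decide +kernel

theorem rel111_54 : triv111 (relWords.getD 54 []) = true := by decide +kernel

theorem rel111_55 : triv111 (relWords.getD 55 []) = true := by decide +kernel

theorem rel111_56 : triv111 (relWords.getD 56 []) = true := by decide +kernel

theorem rel111_57 : triv111 (relWords.getD 57 []) = true := by decide +kernel

theorem rel111_58 : triv111 (relWords.getD 58 []) = true := by decide +kernel

theorem rel111_59 : triv111 (relWords.getD 59 []) = true := by decide +kernel

theorem rel111_60 : triv111 (relWords.getD 60 []) = true := by decide +kernel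

theorem rel111_61 : triv111 (relWords.getD 61 []) = true := by decide +kernel

theorem rel111_62 : triv111 (relWords.getD 62 []) = true := by decide +kernel

theorem rel111_63 : triv111 (relWords.getD 63 []) = true := by decide +kernel

theorem rel111_64 : triv111 (relWords.getD 64 []) = true := by decide +kernel

theorem rel111_65 : triv111 (relWords.getD 65 []) = true := by decide +kernel

theorem rel111_66 : triv111 (relWords.getD 66 []) = true := by decide +kernel

theorem rel111_67 : triv111 (relWords.getD 67 []) = true := by decide +kernel

theorem rel111_68 : triv111 (relWords.getD 68 []) = true := by decide +kernel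

theorem rel111_69 : triv111 (relWords.getD 69 []) = true := by decide +kernel

theorem rel111_70 : triv111 (relWords.getD 70 []) = true := by decide +kernel

theorem rel111_71 : triv111 (relWords.getD 71 []) = true := by decide +kernel

theorem rel111_72 : triv111 (relWords.getD 72 []) = true := by decide +kernel

theorem rel111_73 : triv111 (relWords.getD 73 []) = true := by decide +kernel

theorem rel111_74 : triv111 (relWords.getD 74 []) = true := by decide +kernel

theorem rel111_75 : triv111 (relWords.getD 75 []) = true := by decide +kernel

theorem rel111_76 : triv111 (relWords.getD 76 []) = true := by decide +kernel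

theorem rel111_77 : triv111 (relWords.getD 77 []) = true := by decide +kernel

theorem rel111_78 : triv111 (relWords.getD 78 []) = true := by decide +kernel

theorem rel111_79 : triv111 (relWords.getD 79 []) = true := by decide +kernel

theorem rel111_80 : triv111 (relWords.getD 80 []) = true := by decide +kernel

theorem rel111_81 : triv111 (relWords.getD 81 []) = true := by decide +kernel

theorem rel111_82 : triv111 (relWords.getD 82 []) = true := by decide +kernel

theorem rel111_83 : triv111 (relWords.getD 83 []) = true := by decide +kernel

theorem rel111_84 : triv111 (relWords.getD 84 []) = true := by decide +kernel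

theorem rel111_85 : triv111 (relWords.getD 85 []) = true := by decide +kernel

theorem rel111_all : ∀ k < 86, triv111 (relWords.getD k []) = true := by
  intro k hk
  interval_cases k
  · exact rel111_0
  · exact rel111_1
  · exact rel111_2
  · exact rel111_3
  · exact rel111_4
  · exact rel111_5
  · exact rel111_6
  · exact rel111_7
  · exact rel111_8
  · exact rel111_9
  · exact rel111_10
  · exact rel111_11
  · exact rel111_12
  · exact rel111_13
  · exact rel111_14
  · exact rel111_15
  · exact rel111_16
  · exact rel111_17
  · exact rel111_18
  · exact rel111_19
  · exact rel111_20
  · exact rel111_21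
  · exact rel111_22
  · exact rel111_23
  · exact rel111_24
  · exact rel111_25
  · exact rel111_26
  · exact rel111_27
  · exact rel111_28
  · exact rel111_29
  · exact rel111_30
  · exact rel111_31
  · exact rel111_32
  · exact rel111_33
  · exact rel111_34
  · exact rel111_35
  · exact rel111_36
  · exact rel111_37
  · exact rel111_38
  · exact rel111_39
  · exact rel111_40
  · exact rel111_41
  · exact rel111_42
  · exact rel111_43
  · exact rel111_44
  · exact rel111_45
  · exact rel111_46
  · exact rel111_47
  · exact rel111_48
  · exact rel111_49
  · exact rel111_50
  · exact rel111_51
  · exact rel111_52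
  · exact rel111_53
  · exact rel111_54
  · exact rel111_55
  · exact rel111_56
  · exact rel111_57
  · exact rel111_58
  · exact rel111_59
  · exact rel111_60
  · exact rel111_61
  · exact rel111_62
  · exact rel111_63
  · exact rel111_64
  · exact rel111_65
  · exact rel111_66
  · exact rel111_67
  · exact rel111_68
  · exact rel111_69
  · exact rel111_70
  · exact rel111_71
  · exact rel111_72
  · exact rel111_73
  · exact rel111_74
  · exact rel111_75
  · exact rel111_76
  · exact rel111_77
  · exact rel111_78
  · exact rel111_79
  · exact rel111_80
  · exact rel111_81
  · exact rel111_82
  · exact rel111_83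
  · exact rel111_84
  · exact rel111_85

theorem relWords_length : relWords.length = 86 := by decide +kernel

/-- The unit of a generator. -/
def genU (g : Ly.Gen) : (Matrix (Fin 111) (Fin 111) (ZMod 5))ˣ := u111 (genList.idxOf g)

theorem genU_at : ∀ k < 39, genList.idxOf (genAt k) = k := by decide +kernel

theorem relWords_lt : (relWords.all fun w => w.all fun l => Nat.blt l 78) = true := by decide +kernel

theorem rep_rels : ∀ r ∈ lyRels, FreeGroup.lift genU r = 1 := by
  intro r hr
  rw [lyRels_eq] at hr
  replace hr : r ∈ Ly.extra := hr
  rw [extra_eq, List.mem_map] at hr
  obtain ⟨w, hw, rfl⟩ := hr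
  rw [map_wval, show wval (fun k => FreeGroup.lift genU (FreeGroup.of (genAt k))) w = wval u111 w from
    wval_congr fun l hl => by
      have h78 := List.all_eq_true.1 (List.all_eq_true.1 relWords_lt w hw) l hl
      rw [Nat.blt_eq] at h78
      rw [FreeGroup.lift_apply_of, genU, genU_at _ (by omega)]]
  obtain ⟨k, hk, rfl⟩ := List.getElem_of_mem hw
  rw [← List.getD_eq_getElem _ [] hk]
  exact triv111_sound (rel111_all k (relWords_length ▸ hk))

/-- The representation of the presented group. -/
def rho111 : Spor.Ly →* (Matrix (Fin 111) (Fin 111) (ZMod 5))ˣ := PresentedGroup.toGroup rep_rels

theorem rho111_gen {k : ℕ} (hk : k < 39) : rho111 (g39 k) = u111 k := by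
  rw [g39, rho111, PresentedGroup.toGroup.of, genU, genU_at k hk]

theorem b111_ne : (let111 2 == one111) = false := by decide +kernel

theorem toLy_injective : Function.Injective toLy := by
  haveI := simple_F
  rw [← MonoidHom.ker_eq_bot_iff]
  refine (Subgroup.Normal.eq_bot_or_eq_top (MonoidHom.normal_ker toLy)).resolve_right fun h => ?_
  have h1 : toLy (fgen 1) = 1 := MonoidHom.mem_ker.1 (by rw [h]; exact Subgroup.mem_top _)
  have h2 : rho111 (g39 1) = 1 := by
    rw [toLy_gen (by norm_num : 1 < 9), ly9] at h1
    rw [show (1 : ℕ) = nine.getD 1 0 by decide, h1, map_one]
  rw [rho111_gen (by norm_num)] at h2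
  have e := ok1_let (l := 2) (by norm_num)
  simp only [Nat.reduceMod, Nat.reduceDiv, beq_self_eq_true, cond_true, h2] at e
  have e' : let111 2 = one111 := by
    refine ext_dig fun m => ?_
    rcases lt_or_ge m digs with hm | hm
    · have hi : m / 111 < 111 := by simp only [digs] at hm; omega
      have hj : m % 111 < 111 := Nat.mod_lt _ (by norm_num)
      have := congrFun (congrFun (e.2.trans ok1_one.2.symm) ⟨m / 111, hi⟩) ⟨m % 111, hj⟩
      simp only [toM, Matrix.of_apply, ent, Nat.div_add_mod, ZMod.natCast_eq_natCast_iff'] at this
      rwa [Nat.mod_eq_of_lt (e.1.1 m), Nat.mod_eq_of_lt (ok1_one.1.1 m)] at this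
    · rw [e.1.2 m hm, ok1_one.1.2 m hm]
  have := b111_ne
  rw [e', beq_self_eq_true] at this
  exact Bool.noConfusion this

end Cfsg.Lib.LyPres
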