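import Cfsg.Agent.LyPres.Orb0Data
import Cfsg.Agent.LyPres.Orb1Data

/-!
The checks of the orbits.
-/

set_option autoImplicit false
set_option maxRecDepth 100000
set_option maxHeartbeats 4000000
set_option Elab.async false

namespace Cfsg.Lib.LyPres

theorem orb0_ok0 : orb0.okRange 0 1000 = true := by decide +kernel

theorem orb0_ok1 : orb0.okRange 1000 1000 = true := by decide +kernel

theorem orb0_ok2 : orb0.okRange 2000 1000 = true := by decide +kernel

theorem orb0_ok3 : orb0.okRange 3000 1000 = true := by decide +kernel

theorem orb0_ok4 : orb0.okRange 4000 1000 = true := by decide +kernel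

theorem orb0_ok5 : orb0.okRange 5000 1000 = true := by decide +kernel

theorem orb0_ok6 : orb0.okRange 6000 1000 = true := by decide +kernel

theorem orb0_ok7 : orb0.okRange 7000 1000 = true := by decide +kernel

theorem orb0_ok8 : orb0.okRange 8000 1000 = true := by decide +kernel

theorem orb0_ok9 : orb0.okRange 9000 1000 = true := by decide +kernel

theorem orb0_ok10 : orb0.okRange 10000 1000 = true := by decide +kernel

theorem orb0_ok11 : orb0.okRange 11000 1000 = true := by decide +kernel

theorem orb0_ok12 : orb0.okRange 12000 1000 = true := by decide +kernel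

theorem orb0_ok13 : orb0.okRange 13000 1000 = true := by decide +kernel

theorem orb0_ok14 : orb0.okRange 14000 1000 = true := by decide +kernel

theorem orb0_ok15 : orb0.okRange 15000 624 = true := by decide +kernel

theorem orb0_all : orb0.okRange 0 15624 = true :=
  (okRange_cat orb0 (a := 0) (b := 1000) (k := 1000) (c := 14624) (n := 15624) (by decide +kernel) (by decide +kernel) orb0_ok0 (okRange_cat orb0 (a := 1000) (b := 1000) (k := 2000) (c := 13624) (n := 14624) (by decide +kernel) (by decide +kernel) orb0_ok1 (okRange_cat orb0 (a := 2000) (b := 1000) (k := 3000) (c := 12624) (n := 13624) (by decide +kernel) (by decide +kernel) orb0_ok2 (okRange_cat orb0 (a := 3000) (b := 1000) (k := 4000) (c := 11624) (n := 12624) (by decide +kernel) (by decide +kernel) orb0_ok3 (okRange_cat orb0 (a := 4000) (b := 1000) (k := 5000) (c := 10624) (n := 11624) (by decide +kernel) (by decide +kernel) orb0_ok4 (okRange_cat orb0 (a := 5000) (b := 1000) (k := 6000) (c := 9624) (n := 10624) (by decide +kernel) (by decide +kernel) orb0_ok5 (okRange_cat orb0 (a := 6000) (b := 1000) (k := 7000) (c := 8624) (n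 := 9624) (by decide +kernel) (by decide +kernel) orb0_ok6 (okRange_cat orb0 (a := 7000) (b := 1000) (k := 8000) (c := 7624) (n := 8624) (by decide +kernel) (by decide +kernel) orb0_ok7 (okRange_cat orb0 (a := 8000) (b := 1000) (k := 9000) (c := 6624) (n := 7624) (by decide +kernel) (by decide +kernel) orb0_ok8 (okRange_cat orb0 (a := 9000) (b := 1000) (k := 10000) (c := 5624) (n := 6624) (by decide +kernel) (by decide +kernel) orb0_ok9 (okRange_cat orb0 (a := 10000) (b := 1000) (k := 11000) (c := 4624) (n := 5624) (by decide +kernel) (by decide +kernel) orb0_ok10 (okRange_cat orb0 (a := 11000) (b := 1000) (k := 12000) (c := 3624) (n := 4624) (by decide +kernel) (by decide +kernel) orb0_ok11 (okRange_cat orb0 (a := 12000) (b := 1000) (k := 13000) (c := 2624) (n := 3624) (by decide +kernel) (by decide +kernel) orb0_ok12 (okRange_cat orb0 (a := 13000) (b := 1000) (k := 14000) (c := 1624) (n := 2624) (by decide +kernel) (by decide +kernel) orb0_ok13 (okRange_cat orb0 (a := 14000) (b := 1000) (k := 15000) (c := 624) (n := 1624) (by decide +kernel) (by decide +kernel) orb0_ok14 orb0_ok15)))))))))))))))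

theorem orb0_distinct : orb0.colsDistinct 15624 0 = true := by decide +kernel

theorem orb1_ok0 : orb1.okRange 0 120 = true := by decide +kernel

theorem orb1_all : orb1.okRange 0 120 = true :=
  orb1_ok0

theorem orb1_distinct : orb1.colsDistinct 120 0 = true := by decide +kernel

theorem orbL_ok0 : orbL.okRange 0 96 = true := by decide +kernel

theorem orbL_all : orbL.okRange 0 96 = true :=
  orbL_ok0

end Cfsg.Lib.LyPres
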