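import Cfsg.Agent.LyPres.Seven7

/-!
Lists of distinct images of a matrix bound orders of subgroups of the group on nine letters.
-/

set_option autoImplicit false

namespace Cfsg.Lib.LyPres

/-- The matrices of degree seven. -/
abbrev M7 : Type := Matrix (Fin 7) (Fin 7) (ZMod 5)

/-- The action on matrices from the left. -/
def img (s : F) (X : M7) : M7 := ((rho7 s : M7ˣ) : M7) * X

theorem img_mul (s t : F) (X : M7) : img (s * t) X = img s (img t X) := by
  rw [img, img, img, map_mul, Units.val_mul, mul_assoc]

theorem img_one (X : M7) : img 1 X = X := by rw [img, map_one, Units.val_one, one_mul]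

theorem img_inj (s : F) {X Y : M7} (h : img s X = img s Y) : X = Y := by
  have := congrArg (img s⁻¹) h
  rwa [← img_mul, ← img_mul, inv_mul_cancel, img_one, img_one] at this

theorem img_el {A : List ℕ} {a : F} (ha : El A a) {X : List ℕ} (hX : matOK 7 X = true) :
    img a (toMat 7 X) = toMat 7 (mmul 7 A X) := by
  rw [img, ← ha.2, toMat_mmul (by norm_num) ha.1 hX]

/-- The elements fixing a matrix. -/
def fixer (X : M7) : Subgroup F where
  carrier := {s | img s X = X}
  one_mem' := img_one X
  mul_mem' {a b} (ha : img a X = X) (hb : img b X = X) := by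
    show img (a * b) X = X
    rw [img_mul, hb, ha]
  inv_mem' {a} (ha : img a X = X) := by
    show img a⁻¹ X = X
    conv_lhs => rw [← ha, ← img_mul, inv_mul_cancel, img_one]

/-- The data of an orbit: the matrices of some elements, the start and the images with parent and element. -/
structure Orb where
  gens : List (List ℕ)
  start : List ℕ
  pts : List (List (List ℕ × ℕ × ℕ))

/-- The number of blocks holds this many images each. -/
def orbW : ℕ := 125

/-- An image by number. -/
def Orb.at' (O : Orb) (k : ℕ) : List ℕ × ℕ × ℕ := (O.pts.getD (k / orbW) []).getD (k % orbW) ([], 0, 0)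

/-- The check of one image. -/
def Orb.ptOK (O : Orb) (k : ℕ) : Bool :=
  let p := O.at' k
  bif Nat.beq k 0 then p.1 == O.start
  else Nat.blt p.2.1 k && Nat.blt p.2.2 O.gens.length &&
    p.1 == mmul 7 (O.gens.getD p.2.2 []) (O.at' p.2.1).1

/-- A range of images is checked. -/
def Orb.okRange (O : Orb) (lo n : ℕ) : Bool := (List.range' lo n).all O.ptOK

/-- The code of the first column. -/
def colCode : List ℕ → ℕ
  | [] => 0
  | r :: A => r % 65536 + 5 * colCode A

/-- The codes of the first columns differ. -/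
def Orb.colsDistinct (O : Orb) : ℕ → ℕ → Bool
  | 0, _ => true
  | k + 1, seen =>
    let c := colCode (O.at' k).1
    !seen.testBit c && O.colsDistinct k (seen ||| 2 ^ c)

theorem colsDistinct_sound (O : Orb) : ∀ (n seen : ℕ), O.colsDistinct n seen = true →
    (∀ i < n, seen.testBit (colCode (O.at' i).1) = false) ∧
      ∀ i < n, ∀ j < n, colCode (O.at' i).1 = colCode (O.at' j).1 → i = j
  | 0, _, _ => ⟨fun i hi => absurd hi (Nat.not_lt_zero i), fun i hi => absurd hi (Nat.not_lt_zero i)⟩
  | n + 1, seen, h => by
    simp only [Orb.colsDistinct, Bool.and_eq_true, Bool.not_eq_true'] at h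
    obtain ⟨h1, h2⟩ := colsDistinct_sound O n _ h.2
    have h3 : ∀ i < n, colCode (O.at' i).1 ≠ colCode (O.at' n).1 ∧ seen.testBit (colCode (O.at' i).1) = false := by
      intro i hi
      have := h1 i hi
      rw [Nat.testBit_or, Bool.or_eq_false_iff, Nat.testBit_two_pow] at this
      exact ⟨fun e => by simp [e] at this, this.1⟩
    refine ⟨fun i hi => ?_, fun i hi j hj e => ?_⟩
    · rcases Nat.lt_succ_iff_lt_or_eq.1 hi with hi | rfl
      · exact (h3 i hi).2
      · exact h.1
    · rcases Nat.lt_succ_iff_lt_or_eq.1 hi with hi | hi <;> rcases Nat.lt_succ_iff_lt_or_eq.1 hj with hj | hj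
      · exact h2 i hi j hj e
      · exact absurd (hj ▸ e) (h3 i hi).1
      · exact absurd (hi ▸ e.symm) (h3 j hj).1
      · rw [hi, hj]

theorem Orb.reach (O : Orb) (S : Subgroup F) (hg : ∀ g < O.gens.length, ∃ a ∈ S, El (O.gens.getD g []) a)
    (h0 : matOK 7 O.start = true) {n : ℕ} (h : O.okRange 0 n = true) :
    ∀ k < n, matOK 7 (O.at' k).1 = true ∧ ∃ s ∈ S, img s (toMat 7 O.start) = toMat 7 (O.at' k).1 := by
  intro k
  induction k using Nat.strong_induction_on with
  | _ k ih =>
    intro hk
    have hp := List.all_eq_true.1 h k (List.mem_range'_1.2 ⟨Nat.zero_le k, by omega⟩)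
    simp only [Orb.ptOK] at hp
    cases hb : Nat.beq k 0 with
    | true =>
      rw [hb, cond_true, beq_iff_eq] at hp
      rw [hp]
      exact ⟨h0, 1, one_mem _, img_one _⟩
    | false =>
      rw [hb, cond_false] at hp
      simp only [Bool.and_eq_true, Nat.blt_eq, beq_iff_eq] at hp
      obtain ⟨⟨hpar, hlt⟩, he⟩ := hp
      obtain ⟨hok, s, hs, e⟩ := ih _ hpar (hpar.trans hk)
      obtain ⟨a, ha, hA⟩ := hg _ hlt
      rw [he]
      exact ⟨matOK_mmul hA.1, a * s, mul_mem ha hs, by rw [img_mul, e, img_el hA hok]⟩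

/-- An orbit with distinct images bounds the order from below. -/
theorem orbit_le (S T : Subgroup F) [Finite S] (hT : T ≤ S) (X : M7) (hfix : T ≤ fixer X) (n : ℕ) (f : ℕ → F)
    (hf : ∀ k < n, f k ∈ S) (hinj : ∀ i < n, ∀ j < n, img (f i) X = img (f j) X → i = j) :
    n * Nat.card T ≤ Nat.card S := by
  haveI : Finite T := Finite.of_injective _ (Subgroup.inclusion_injective hT)
  let φ : Fin n × T → S := fun z => ⟨f z.1 * z.2, mul_mem (hf _ z.1.isLt) (hT z.2.2)⟩
  have hφ : Function.Injective φ := by
    rintro ⟨i, t⟩ ⟨j, u⟩ e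
    have e' : f i * (t : F) = f j * (u : F) := congrArg Subtype.val e
    have e2 := congrArg (fun g => img g X) e'
    simp only [img_mul, show img (t : F) X = X from hfix t.2, show img (u : F) X = X from hfix u.2] at e2
    obtain rfl : i = j := Fin.ext (hinj _ i.isLt _ j.isLt e2)
    simp only [Prod.mk.injEq, true_and]
    exact Subtype.ext (mul_left_cancel e')
  have := Nat.card_le_card_of_injective φ hφ
  rwa [Nat.card_prod, Nat.card_eq_fintype_card (α := Fin n), Fintype.card_fin] at this

theorem Orb.card_ge (O : Orb) (S T : Subgroup F) [Finite S]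
    (hg : ∀ g < O.gens.length, ∃ a ∈ S, El (O.gens.getD g []) a) (h0 : matOK 7 O.start = true) {n : ℕ}
    (h : O.okRange 0 n = true) (hd : O.colsDistinct n 0 = true) (hT : T ≤ S)
    (hfix : T ≤ fixer (toMat 7 O.start)) : n * Nat.card T ≤ Nat.card S := by
  classical
  have hr := O.reach S hg h0 h
  refine orbit_le S T hT _ hfix n (fun k => if hk : k < n then (hr k hk).2.choose else 1)
    (fun k hk => by rw [dif_pos hk]; exact (hr k hk).2.choose_spec.1) fun i hi j hj e => ?_
  rw [dif_pos hi, dif_pos hj, (hr i hi).2.choose_spec.2, (hr j hj).2.choose_spec.2] at e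
  exact (colsDistinct_sound O n 0 hd).2 i hi j hj (congrArg colCode (toMat_inj (hr i hi).1 (hr j hj).1 e))

theorem okRange_cat (O : Orb) {a b k c n : ℕ} (hk : a + b = k) (hn : b + c = n) (h1 : O.okRange a b = true)
    (h2 : O.okRange k c = true) : O.okRange a n = true := by
  subst hk hn
  rw [Orb.okRange] at *
  rw [← List.range'_append_1, List.all_append, h1, h2]
  rfl

end Cfsg.Lib.LyPres
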