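import Cfsg.Agent.LyPres.Cert
import Cfsg.Agent.LyPres.Orbit
import Cfsg.Agent.LyPres.CoverOrbData

/-!
The subgroup normalised by z: it is everything mapping the frame of two vectors into its orbit.
-/

set_option autoImplicit false
set_option Elab.async false

namespace Cfsg.Lib.LyPres

/-- The projection on the first two vectors. -/
def frameP : List ℕ := [1, 65536, 0, 0, 0, 0, 0]

/-- The first vector. -/
def colP0 : List ℕ := [1, 0, 0, 0, 0, 0, 0]

/-- The second vector. -/
def colP1 : List ℕ := [0, 1, 0, 0, 0, 0, 0]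

/-- The subgroup normalised by z. -/
def Lsub : Subgroup F := Subgroup.closure {g | ∃ i < 8, wval fgen (lgW.getD i []) = g}

/-- The elements fixing the frame. -/
def Fx : Subgroup F := fixer (toMat 7 frameP)

/-- The elements of the first orbit come from the four generators. -/
theorem gen7_el : ∀ g < 4, El (gen7.getD g []) (fgen g) := fun g hg => by
  have h := El.word [2 * g] (by simp only [List.all_cons, List.all_nil, Bool.and_true, Nat.blt_eq]; omega)
  have e : m7 [2 * g] = gen7.getD g [] := by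
    interval_cases g <;> decide +kernel
  rw [e] at h
  simpa [wval] using h

theorem first_orbit_ok : orb0.okRange 0 15624 = true ∧ orb0.colsDistinct 15624 0 = true :=
  ⟨orb0_all, orb0_distinct⟩

theorem fx_le_fix0 : Fx ≤ fixer (toMat 7 colP0) := by
  intro s (hs : img s (toMat 7 frameP) = toMat 7 frameP)
  show img s (toMat 7 colP0) = toMat 7 colP0
  have e : toMat 7 colP0 = toMat 7 frameP * toMat 7 colP0 := by
    rw [← toMat_mmul (by norm_num) (by decide +kernel) (by decide +kernel)]
    exact congrArg (toMat 7) (show colP0 = mmul 7 frameP colP0 by decide +kernel)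
  conv_lhs => rw [e, img, ← mul_assoc]
  rw [← img, hs, ← e]

theorem fx_le_fix1 : Fx ≤ fixer (toMat 7 colP1) := by
  intro s (hs : img s (toMat 7 frameP) = toMat 7 frameP)
  show img s (toMat 7 colP1) = toMat 7 colP1
  have e : toMat 7 colP1 = toMat 7 frameP * toMat 7 colP1 := by
    rw [← toMat_mmul (by norm_num) (by decide +kernel) (by decide +kernel)]
    exact congrArg (toMat 7) (show colP1 = mmul 7 frameP colP1 by decide +kernel)
  conv_lhs => rw [e, img, ← mul_assoc]
  rw [← img, hs, ← e]

theorem orb1_gens_ok : (orb1Words.all fun w => w.all fun l => Nat.blt l 18) = true ∧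
    orb1.gens = orb1Words.map m7 ∧ (orb1Words.all fun w => mmul 7 (m7 w) colP0 == colP0) = true ∧
    orb0.start = colP0 ∧ orb1.start = colP1 ∧ orb0.gens = gen7.take 4 := by
  decide +kernel

theorem card_Fx : Nat.card Fx ≤ 3125 := by
  haveI := card_F.1
  obtain ⟨hw, hg, hfix, hs0, hs1, hg0⟩ := orb1_gens_ok
  have h0 : 15624 * Nat.card (fixer (toMat 7 colP0)) ≤ Nat.card (⊤ : Subgroup F) := by
    refine orb0.card_ge ⊤ _ (fun g hg' => ⟨fgen g, Subgroup.mem_top _, ?_⟩) (by rw [hs0]; decide) first_orbit_ok.1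
      first_orbit_ok.2 le_top (by rw [hs0])
    rw [hg0] at hg' ⊢
    have h4 : g < 4 := lt_of_lt_of_le hg' (List.length_take_le 4 gen7)
    have := gen7_el g h4
    rw [List.getD_eq_getElem _ _ hg', List.getElem_take, ← List.getD_eq_getElem gen7 []]
    exact this
  have h1 : 120 * Nat.card Fx ≤ Nat.card (fixer (toMat 7 colP0)) := by
    refine orb1.card_ge _ _ (fun g hg' => ?_) (by rw [hs1]; decide) orb1_all orb1_distinct fx_le_fix0
      (by rw [hs1]; exact fx_le_fix1)
    rw [hg, List.length_map] at hg'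
    rw [hg, List.getD_eq_getElem _ _ (by rw [List.length_map]; exact hg'), List.getElem_map]
    refine ⟨_, ?_, El.word _ (List.all_eq_true.1 hw _ (List.getElem_mem hg'))⟩
    show img _ (toMat 7 colP0) = toMat 7 colP0
    have := List.all_eq_true.1 hfix _ (List.getElem_mem hg')
    rw [beq_iff_eq] at this
    rw [img_el (El.word _ (List.all_eq_true.1 hw _ (List.getElem_mem hg'))) (by decide), this]
  rw [Subgroup.card_top, card_F_eq] at h0
  omega

theorem card_Qc_ge : 3125 ≤ Nat.card Qc := by
  have h := card_F_Par.2.trans (Nat.mul_le_mul le_rfl card_Par_le)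
  rw [card_F_eq] at h
  omega

theorem qc_fix : (([[4], [10], [12], [14], [16]] : List (List ℕ)).all fun w => mmul 7 (m7 w) frameP == frameP) = true := by
  decide +kernel

theorem Qc_le_Fx : Qc ≤ Fx := by
  refine (Subgroup.closure_le _).2 ?_
  rintro _ ⟨k, hk, rfl⟩
  have h : El (m7 [2 * k]) (fgen k) := by
    have h := El.word [2 * k] (by
      simp only [cSet, List.mem_cons, List.not_mem_nil, or_false] at hk
      rcases hk with rfl | rfl | rfl | rfl | rfl <;> decide)
    simpa [wval] using h
  show img _ (toMat 7 frameP) = toMat 7 frameP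
  rw [img_el h (by decide)]
  have := List.all_eq_true.1 qc_fix [2 * k] (by
    simp only [cSet, List.mem_cons, List.not_mem_nil, or_false] at hk
    rcases hk with rfl | rfl | rfl | rfl | rfl <;> simp)
  rw [beq_iff_eq] at this
  rw [this]

theorem Fx_eq : Fx = Qc := by
  haveI := card_F.1
  exact (Subgroup.eq_of_le_of_card_ge Qc_le_Fx (card_Fx.trans card_Qc_ge)).symm

theorem Qc_le_Lsub : Qc ≤ Lsub := by
  refine (Subgroup.closure_le _).2 ?_
  rintro _ ⟨k, hk, rfl⟩
  refine Subgroup.subset_closure ⟨cSet.idxOf k, ?_, ?_⟩ <;>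
    simp only [cSet, List.mem_cons, List.not_mem_nil, or_false] at hk <;>
    rcases hk with rfl | rfl | rfl | rfl | rfl <;>
    simp [cSet, lgW, wval, List.idxOf, List.findIdx, List.findIdx.go]

/-- The frames of the subgroup normalised by z. -/
def lbAt (m : ℕ) : List ℕ := (orbL.at' m).1

theorem orbL_ok : orbL.gens = lgMats ∧ orbL.start = frameP ∧
    ((List.range 96).all fun m => mmul 7 frameP (lbAt m) == lbAt m) = true ∧
    ((List.range 96).map lbAt).Nodup := by
  decide +kernel

theorem lb_reach : ∀ m < 96, matOK 7 (lbAt m) = true ∧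
    ∃ s ∈ Lsub, img s (toMat 7 frameP) = toMat 7 (lbAt m) := by
  obtain ⟨hg, hs, -, -⟩ := orbL_ok
  intro m hm
  have h := orbL.reach Lsub (fun g hlt => ?_) (by rw [hs]; decide) orbL_all m hm
  · rw [hs] at h
    exact h
  · rw [hg] at hlt ⊢
    simp only [lgMats, List.length_map] at hlt
    exact ⟨_, Subgroup.subset_closure ⟨g, hlt, rfl⟩, tables_el.1 g hlt⟩

theorem lsub_of_fix {h : F} (hh : img h (toMat 7 frameP) = toMat 7 frameP) : h ∈ Lsub := by
  have : h ∈ Fx := hh
  exact Qc_le_Lsub (Fx_eq ▸ this)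

theorem lsub_of_lb {e h : F} {X : List ℕ} {m : ℕ} (hm : m < 96) (hX : matOK 7 X = true)
    (he : img e (toMat 7 frameP) = toMat 7 X) (hh : img h (toMat 7 frameP) = toMat 7 (mmul 7 X (lbAt m))) :
    e⁻¹ * h ∈ Lsub := by
  obtain ⟨hok, s, hs, es⟩ := lb_reach m hm
  have hp := List.all_eq_true.1 orbL_ok.2.2.1 m (List.mem_range.2 hm)
  rw [beq_iff_eq] at hp
  have e1 : img (e * s) (toMat 7 frameP) = img h (toMat 7 frameP) := by
    rw [hh, img_mul, es, toMat_mmul (by norm_num) hX hok, ← he]
    have : toMat 7 (lbAt m) = toMat 7 frameP * toMat 7 (lbAt m) := by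
      rw [← toMat_mmul (by norm_num) (by decide) hok, hp]
    conv_lhs => rw [this]
    simp only [img, mul_assoc]
  have h2 : (e * s)⁻¹ * h ∈ Lsub := lsub_of_fix (by rw [img_mul, ← e1, ← img_mul, inv_mul_cancel, img_one])
  have := mul_mem hs h2
  rwa [mul_inv_rev, ← mul_assoc, ← mul_assoc, mul_inv_cancel, one_mul] at this

theorem lsub_conj : ∀ s ∈ Lsub, ∃ b : F, toLy s * zL = zL * toLy b := by
  intro s hs
  induction hs using Subgroup.closure_induction with
  | mem x hx => obtain ⟨i, hi, rfl⟩ := hx; exact ⟨_, z_conj hi⟩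
  | one => exact ⟨1, by simp⟩
  | mul x y _ _ hx hy =>
    obtain ⟨a, ha⟩ := hx
    obtain ⟨b, hb⟩ := hy
    exact ⟨a * b, by rw [map_mul, mul_assoc, hb, ← mul_assoc, ha, mul_assoc, map_mul]⟩
  | inv x _ hx =>
    obtain ⟨a, ha⟩ := hx
    refine ⟨a⁻¹, ?_⟩
    rw [map_inv, map_inv, eq_mul_inv_iff_mul_eq, mul_assoc, inv_mul_eq_iff_eq_mul, ha]

end Cfsg.Lib.LyPres
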