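import Cfsg.Agent.LyPres.Seven7

/-!
Certificates of equations between cosets of the subgroup on the nine letters in the presented Lyons group.

A state is a numbered coset representative with a matrix standing for an element of the subgroup. A fact says that
two states, or a state times z and a state, give the same coset.
-/

set_option autoImplicit false
set_option linter.unusedVariables false

namespace Cfsg.Lib.LyPres

open Cfsg.Spor

/-- A fact: `d` sends the first matrix to the second, `di` is its inverse. -/
structure Fct where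
  i : ℕ
  j : ℕ
  z : Bool
  x : List ℕ
  y : List ℕ
  d : List ℕ
  di : List ℕ
deriving Inhabited

/-- One step of a path. -/
inductive Op where
  | fwd (k : ℕ)
  | back (k : ℕ)
  | zz (k : ℕ) (w : List ℕ)
  | set (w : List ℕ)

/-- A token of a relation: a word in the nine letters, or z. -/
inductive Tok where
  | h (w : List ℕ)
  | z

/-- Where a fact comes from. -/
inductive Src where
  | dfn (wx : List ℕ)
  | inv (a : ℕ)
  | eqn (e si : ℕ) (sh : List ℕ) (A B : List Op)
  | norm (sh wx w : List ℕ) (A : List Op)

/-- The word of a product of the eight elements. -/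
def lWord (w : List ℕ) : List ℕ := w.flatMap fun i => lgW.getD i []

/-- The word of the image of a product of the eight elements. -/
def iWord (w : List ℕ) : List ℕ := w.flatMap fun i => imW.getD i []

/-- The matrices of the eight elements. -/
def lgMats : List (List ℕ) := lgW.map m7

/-- The matrices of the eight images. -/
def imMats : List (List ℕ) := imW.map m7

/-- The matrices of the inverses of the eight images. -/
def imInvs : List (List ℕ) := imW.map fun w => m7 (winv w)

/-- A product of matrices from a list. -/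
def tmat (T : List (List ℕ)) : List ℕ → List ℕ
  | [] => idMat 7
  | i :: w => mmul 7 (T.getD i []) (tmat T w)

/-- The adjustments at the head of a path. -/
def adj (F' : ℕ → Fct) (bd : ℕ) : List Op → ℕ × List ℕ → Option ((ℕ × List ℕ) × List Op)
  | .fwd k :: ops, (n, h) =>
    bif Nat.blt k bd && !(F' k).z && Nat.beq n (F' k).i then adj F' bd ops ((F' k).j, mmul 7 (F' k).d h) else none
  | .back k :: ops, (n, h) =>
    bif Nat.blt k bd && !(F' k).z && Nat.beq n (F' k).j then adj F' bd ops ((F' k).i, mmul 7 (F' k).di h) else none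
  | .set w :: ops, (n, h) =>
    bif Nat.beq n 0 && w.all (fun l => Nat.blt l 18) then adj F' bd ops (0, m7 w) else none
  | ops, s => some (s, ops)

/-- Follow tokens along a path. -/
def walk (F' : ℕ → Fct) (bd : ℕ) : List Tok → List Op → ℕ × List ℕ → Option (ℕ × List ℕ)
  | [], ops, s =>
    match adj F' bd ops s with
    | some (s', []) => some s'
    | _ => none
  | .h w :: t, ops, s =>
    bif w.all (fun l => Nat.blt l 18) then walk F' bd t ops (s.1, mmul 7 s.2 (m7 w)) else none
  | .z :: t, ops, s =>
    match adj F' bd ops s with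
    | some ((n, h), .zz k w :: ops') =>
      bif Nat.blt k bd && (F' k).z && Nat.beq n (F' k).i && w.all (fun i => Nat.blt i 8) &&
          h == mmul 7 (F' k).x (tmat lgMats w) then
        walk F' bd t ops' ((F' k).j, mmul 7 (F' k).y (tmat imMats w))
      else none
    | _ => none

/-- A walk ends at the given state. -/
def endsAt (r : Option (ℕ × List ℕ)) (n : ℕ) (h : List ℕ) : Bool :=
  match r with
  | some (m, g) => Nat.beq m n && g == h
  | none => false

/-- The data of a certificate. -/
structure Crt where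
  fact : ℕ → Fct
  src : ℕ → Src
  defs : List (ℕ × List ℕ)
  eqs : List (List Tok × List Tok)

/-- The check of a fact. -/
def Crt.okAt (C : Crt) (k : ℕ) : Bool :=
  let f := C.fact k
  match C.src k with
  | .dfn wx => f.z && Nat.blt 0 f.j && Nat.ble f.j C.defs.length && Nat.blt f.i f.j &&
      (C.defs.getD (f.j - 1) (0, []) == (f.i, wx)) && wx.all (fun l => Nat.blt l 18) && f.x == m7 wx && f.y == idMat 7
  | .inv a => Nat.blt a k && (C.fact a).z && f.z && Nat.beq f.i (C.fact a).j && Nat.beq f.j (C.fact a).i &&
      f.x == (C.fact a).y && f.y == mmul 7 (C.fact a).x (m7 [0, 0])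
  | .eqn e si sh A B =>
      let p := C.eqs.getD e ([], [])
      Nat.blt e C.eqs.length && sh.all (fun l => Nat.blt l 18) &&
        (bif f.z then
          match p.1.reverse with
          | .z :: r => endsAt (walk C.fact k r.reverse A (si, m7 sh)) f.i f.x
          | _ => false
        else endsAt (walk C.fact k p.1 A (si, m7 sh)) f.i f.x && matOK 7 f.d && matOK 7 f.di &&
          mmul 7 f.d f.x == f.y && mmul 7 f.di f.d == idMat 7) &&
        endsAt (walk C.fact k p.2 B (si, m7 sh)) f.j f.y
  | .norm sh wx w A =>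
      f.z && sh.all (fun l => Nat.blt l 18) && wx.all (fun l => Nat.blt l 18) && w.all (fun i => Nat.blt i 8) &&
        f.x == m7 wx && mmul 7 f.x (tmat lgMats w) == m7 sh &&
        (match walk C.fact k [.z] A (f.i, m7 sh) with
          | some (m, g) => Nat.beq m f.j && mmul 7 g (tmat imInvs w.reverse) == f.y
          | none => false)

/-- The checks of a range. -/
def Crt.okRange (C : Crt) (lo n : ℕ) : Bool := (List.range' lo n).all C.okAt

/-- The representatives of the numbered cosets. -/
def Crt.vals (C : Crt) : List Spor.Ly :=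
  C.defs.foldl (fun vs d => vs ++ [vs.getD d.1 1 * toLy (wval fgen d.2) * zL]) [1]

/-- The representative of a numbered coset. -/
def Crt.v (C : Crt) (n : ℕ) : Spor.Ly := C.vals.getD n 1

/-- The subgroup on a, b, c, d. -/
def KL : Subgroup Spor.Ly := toLy.range

/-- The same coset. -/
def Eqv (g h : Spor.Ly) : Prop := g * h⁻¹ ∈ KL

theorem Eqv.refl (g : Spor.Ly) : Eqv g g := by
  show g * g⁻¹ ∈ KL
  rw [mul_inv_cancel]
  exact one_mem _

theorem Eqv.symm {g h : Spor.Ly} (e : Eqv g h) : Eqv h g := by
  have := KL.inv_mem e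
  rwa [mul_inv_rev, inv_inv] at this

theorem Eqv.trans {g h k : Spor.Ly} (e : Eqv g h) (e' : Eqv h k) : Eqv g k := by
  have h2 := KL.mul_mem e e'
  rwa [mul_assoc, inv_mul_cancel_left] at h2

theorem Eqv.mul_right {g h : Spor.Ly} (e : Eqv g h) (k : Spor.Ly) : Eqv (g * k) (h * k) := by
  show g * k * (h * k)⁻¹ ∈ KL
  rwa [mul_inv_rev, mul_assoc, mul_inv_cancel_left]

/-- A fact holds. -/
def Crt.FOK (C : Crt) (f : Fct) : Prop :=
  ∃ a b : F, El f.x a ∧ El f.y b ∧
    Eqv (C.v f.i * toLy a * (bif f.z then zL else 1)) (C.v f.j * toLy b) ∧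
      (f.z = false → El f.d (b * a⁻¹) ∧ El f.di (a * b⁻¹))

/-- A state stands for the coset of an element. -/
def Crt.At (C : Crt) (s : ℕ × List ℕ) (g : Spor.Ly) : Prop :=
  ∃ a : F, El s.2 a ∧ Eqv g (C.v s.1 * toLy a)

theorem Crt.vals_spec (C : Crt) (hd : ∀ m < C.defs.length, (C.defs.getD m (0, [])).1 ≤ m) :
    C.v 0 = 1 ∧ ∀ m < C.defs.length,
      C.v (m + 1) = C.v (C.defs.getD m (0, [])).1 * toLy (wval fgen (C.defs.getD m (0, [])).2) * zL := by
  have key : ∀ (l : List (ℕ × List ℕ)) (vs : List Spor.Ly), vs ≠ [] →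
      (∀ m < l.length, (l.getD m (0, [])).1 < vs.length + m) →
      let out := l.foldl (fun vs d => vs ++ [vs.getD d.1 1 * toLy (wval fgen d.2) * zL]) vs
      (∀ k < vs.length, out.getD k 1 = vs.getD k 1) ∧ ∀ m < l.length,
        out.getD (vs.length + m) 1 =
          out.getD (l.getD m (0, [])).1 1 * toLy (wval fgen (l.getD m (0, [])).2) * zL := by
    intro l
    induction l with
    | nil => intro vs _ _; exact ⟨fun k _ => rfl, fun m hm => absurd hm (Nat.not_lt_zero m)⟩
    | cons d l ih =>
      intro vs hne hlt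
      obtain ⟨i1, i2⟩ := ih (vs ++ [vs.getD d.1 1 * toLy (wval fgen d.2) * zL]) (by simp) fun m hm => by
        have := hlt (m + 1) (by simp; omega)
        simpa [Nat.add_assoc, Nat.add_comm 1] using this
      refine ⟨fun k hk => ?_, fun m hm => ?_⟩
      · rw [List.foldl_cons, i1 k (by simp; omega), List.getD_append _ _ _ _ hk]
      · rw [List.foldl_cons]
        cases m with
        | zero =>
          have h0 : d.1 < vs.length := by simpa using hlt 0 (by simp)
          rw [add_zero, i1 _ (by simp), List.getD_cons_zero, i1 d.1 (by simp; omega), List.getD_append _ _ _ _ h0,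
            List.getD_append_right _ _ _ _ le_rfl]
          simp
        | succ m =>
          have := i2 m (by simpa using hm)
          rw [List.length_append, List.length_singleton, Nat.add_assoc, Nat.add_comm 1] at this
          rw [List.getD_cons_succ]
          exact this
  obtain ⟨k1, k2⟩ := key C.defs [1] (by simp) fun m hm => by have := hd m hm; rw [List.length_singleton]; omega
  refine ⟨k1 0 (by simp), fun m hm => ?_⟩
  have := k2 m hm
  rwa [List.length_singleton, Nat.add_comm 1] at this

theorem tmat_el {T : List (List ℕ)} {W : List (List ℕ)} {c : ℕ}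
    (hT : ∀ i < c, El (T.getD i []) (wval fgen (W.getD i []))) : ∀ w : List ℕ, (∀ i ∈ w, i < c) →
    El (tmat T w) (wval fgen (w.flatMap fun i => W.getD i []))
  | [], _ => by simpa [tmat, wval] using El.one
  | i :: w, h => by
    rw [tmat, List.flatMap_cons, wval_append]
    exact (hT i (h i List.mem_cons_self)).mul (tmat_el hT w fun a ha => h a (List.mem_cons_of_mem i ha))

theorem tables_el : (∀ i < 8, El (lgMats.getD i []) (wval fgen (lgW.getD i []))) ∧
    (∀ i < 8, El (imMats.getD i []) (wval fgen (imW.getD i []))) ∧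
    (∀ i < 8, El (imInvs.getD i []) (wval fgen ((imW.map winv).getD i []))) := by
  have h1 : ∀ W : List (List ℕ), W.length = 8 → (W.all fun w => w.all fun l => Nat.blt l 18) = true →
      ∀ i < 8, El ((W.map m7).getD i []) (wval fgen (W.getD i [])) := by
    intro W hW h i hi
    rw [List.getD_eq_getElem _ _ (by rw [List.length_map, hW]; exact hi), List.getElem_map,
      List.getD_eq_getElem _ _ (hW ▸ hi)]
    exact El.word _ (List.all_eq_true.1 h _ (List.getElem_mem _))
  refine ⟨h1 _ rfl (by decide +kernel), h1 _ rfl (by decide +kernel), ?_⟩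
  have h := h1 (imW.map winv) (by decide +kernel) (by decide +kernel)
  rwa [List.map_map] at h

theorem lWord_conj : ∀ w : List ℕ, (∀ i ∈ w, i < 8) →
    toLy (wval fgen (lWord w)) * zL = zL * toLy (wval fgen (iWord w))
  | [], _ => by simp [lWord, iWord, wval]
  | i :: w, h => by
    have e := lWord_conj w fun a ha => h a (List.mem_cons_of_mem i ha)
    simp only [lWord, iWord, List.flatMap_cons, wval_append, map_mul] at e ⊢
    rw [mul_assoc, e, ← mul_assoc, z_conj (h i List.mem_cons_self), mul_assoc]

theorem imInv_val : ∀ w : List ℕ, (∀ i ∈ w, i < 8) →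
    wval fgen (w.reverse.flatMap fun i => (imW.map winv).getD i []) = (wval fgen (iWord w))⁻¹
  | [], _ => by simp [iWord, wval]
  | i :: w, h => by
    have e := imInv_val w fun a ha => h a (List.mem_cons_of_mem i ha)
    have hi : i < imW.length := h i List.mem_cons_self
    rw [List.reverse_cons, List.flatMap_append, wval_append, e]
    simp only [iWord, List.flatMap_cons, List.flatMap_nil, List.append_nil, wval_append, mul_inv_rev]
    congr 1
    rw [List.getD_eq_getElem _ _ (by rw [List.length_map]; exact hi), List.getElem_map, wval_winv,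
      List.getD_eq_getElem _ _ hi]

variable {C : Crt} {k : ℕ}

theorem adj_sound (hk : ∀ m < k, C.FOK (C.fact m)) (h0 : C.v 0 = 1) : ∀ (ops : List Op) (s s' : ℕ × List ℕ)
    (rest : List Op), adj C.fact k ops s = some (s', rest) → ∀ g, C.At s g → C.At s' g
  | [], s, s', rest, h, g, hg => by simp [adj] at h; exact h.1 ▸ hg
  | .fwd m :: ops, (n, A), s', rest, h, g, hg => by
    simp only [adj] at h
    cases hb : (Nat.blt m k && !(C.fact m).z && Nat.beq n (C.fact m).i) with
    | false => simp [hb] at h
    | true =>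
      rw [hb, cond_true] at h
      simp only [Bool.and_eq_true, Nat.blt_eq, Bool.not_eq_true'] at hb
      obtain ⟨⟨hm, hz⟩, hn⟩ := hb
      obtain ⟨a, b, -, -, hE, hd⟩ := hk m hm
      obtain ⟨c, hc, hgc⟩ := hg
      refine adj_sound hk h0 ops _ s' rest h g ⟨b * a⁻¹ * c, (hd hz).1.mul hc, hgc.trans ?_⟩
      rw [hz, cond_false, mul_one, ← Nat.eq_of_beq_eq_true hn] at hE
      have := hE.mul_right (toLy (a⁻¹ * c))
      simp only [mul_assoc, ← map_mul, mul_inv_cancel_left] at this ⊢
      exact this
  | .back m :: ops, (n, A), s', rest, h, g, hg => by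
    simp only [adj] at h
    cases hb : (Nat.blt m k && !(C.fact m).z && Nat.beq n (C.fact m).j) with
    | false => simp [hb] at h
    | true =>
      rw [hb, cond_true] at h
      simp only [Bool.and_eq_true, Nat.blt_eq, Bool.not_eq_true'] at hb
      obtain ⟨⟨hm, hz⟩, hn⟩ := hb
      obtain ⟨a, b, -, -, hE, hd⟩ := hk m hm
      obtain ⟨c, hc, hgc⟩ := hg
      refine adj_sound hk h0 ops _ s' rest h g ⟨a * b⁻¹ * c, (hd hz).2.mul hc, hgc.trans ?_⟩
      rw [hz, cond_false, mul_one, ← Nat.eq_of_beq_eq_true hn] at hE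
      have := (hE.mul_right (toLy (b⁻¹ * c))).symm
      simp only [mul_assoc, ← map_mul, mul_inv_cancel_left] at this ⊢
      exact this
  | .set w :: ops, (n, A), s', rest, h, g, hg => by
    simp only [adj] at h
    cases hb : (Nat.beq n 0 && w.all (fun l => Nat.blt l 18)) with
    | false => simp [hb] at h
    | true =>
      rw [hb, cond_true] at h
      simp only [Bool.and_eq_true] at hb
      obtain ⟨c, hc, hgc⟩ := hg
      refine adj_sound hk h0 ops _ s' rest h g ⟨wval fgen w, El.word w hb.2, hgc.trans ?_⟩
      simp only [Nat.eq_of_beq_eq_true hb.1, h0, one_mul]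
      exact ⟨c * (wval fgen w)⁻¹, by rw [map_mul, map_inv]⟩
  | .zz m w :: ops, s, s', rest, h, g, hg => by simp [adj] at h; exact h.1 ▸ hg

/-- The value of tokens. -/
def tval : List Tok → Spor.Ly
  | [] => 1
  | .h w :: t => toLy (wval fgen w) * tval t
  | .z :: t => zL * tval t

theorem tval_append : ∀ u t : List Tok, tval (u ++ t) = tval u * tval t
  | [], t => by simp [tval]
  | .h w :: u, t => by simp [tval, tval_append u t, mul_assoc]
  | .z :: u, t => by simp [tval, tval_append u t, mul_assoc]

theorem walk_sound (hk : ∀ m < k, C.FOK (C.fact m)) (h0 : C.v 0 = 1) : ∀ (t : List Tok) (ops : List Op)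
    (s s' : ℕ × List ℕ), walk C.fact k t ops s = some s' → ∀ g, C.At s g → C.At s' (g * tval t)
  | [], ops, s, s', h, g, hg => by
    simp only [walk] at h
    split at h
    · rename_i q hq
      rw [Option.some.injEq] at h
      subst h
      rw [tval, mul_one]
      exact adj_sound hk h0 ops s _ _ hq g hg
    · simp at h
  | .h w :: t, ops, s, s', h, g, hg => by
    simp only [walk] at h
    cases hb : w.all (fun l => Nat.blt l 18) with
    | false => simp [hb] at h
    | true =>
      rw [hb, cond_true] at h
      obtain ⟨a, ha, hE⟩ := hg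
      have := walk_sound hk h0 t ops _ s' h (g * toLy (wval fgen w))
        ⟨a * wval fgen w, ha.mul (El.word w hb), by rw [map_mul, ← mul_assoc]; exact hE.mul_right _⟩
      rw [tval, ← mul_assoc]
      exact this
  | .z :: t, ops, s, s', h, g, hg => by
    simp only [walk] at h
    split at h
    · rename_i n A m w ops' hq
      obtain ⟨a, ha, hE⟩ := adj_sound hk h0 ops s _ _ hq g hg
      cases hb : (Nat.blt m k && (C.fact m).z && Nat.beq n (C.fact m).i && w.all (fun i => Nat.blt i 8) &&
          A == mmul 7 (C.fact m).x (tmat lgMats w)) with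
      | false => simp [hb] at h
      | true =>
        rw [hb, cond_true] at h
        simp only [Bool.and_eq_true, Nat.blt_eq, beq_iff_eq, List.all_eq_true] at hb
        obtain ⟨⟨⟨⟨hm, hz⟩, hn⟩, hw⟩, hA⟩ := hb
        obtain ⟨x, y, hx, hy, hF, -⟩ := hk m hm
        have hl := tmat_el tables_el.1 w hw
        have hi := tmat_el tables_el.2.1 w hw
        simp only [hA] at ha
        have hau : a = x * wval fgen (lWord w) := El.unique ha (hx.mul hl)
        have := walk_sound hk h0 t ops' _ s' h (g * zL) ⟨y * wval fgen (iWord w), hy.mul hi, ?_⟩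
        · rw [tval, ← mul_assoc]
          exact this
        · refine (hE.mul_right zL).trans ?_
          simp only [hau, map_mul, Nat.eq_of_beq_eq_true hn]
          rw [hz, cond_true] at hF
          have := hF.mul_right (toLy (wval fgen (iWord w)))
          simp only [mul_assoc] at this ⊢
          rw [lWord_conj w hw]
          exact this
    · simp at h

theorem endsAt_eq {r : Option (ℕ × List ℕ)} {n : ℕ} {A : List ℕ} (h : endsAt r n A = true) : r = some (n, A) := by
  rcases r with _ | ⟨m, g⟩
  · simp [endsAt] at h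
  · simp only [endsAt, Bool.and_eq_true, beq_iff_eq] at h
    rw [Nat.eq_of_beq_eq_true h.1, h.2]

theorem step_sound (hd : ∀ m < C.defs.length, (C.defs.getD m (0, [])).1 ≤ m)
    (heq : ∀ p ∈ C.eqs, tval p.1 = tval p.2) (hk : ∀ m < k, C.FOK (C.fact m)) (h : C.okAt k = true) :
    C.FOK (C.fact k) := by
  obtain ⟨h0, hv⟩ := C.vals_spec hd
  simp only [Crt.okAt] at h
  split at h
  · rename_i wx _
    simp only [Bool.and_eq_true, Nat.blt_eq, Nat.ble_eq, beq_iff_eq] at h
    obtain ⟨⟨⟨⟨⟨⟨⟨hz, hj0⟩, hjl⟩, -⟩, hdef⟩, hw⟩, hx⟩, hy⟩ := h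
    refine ⟨wval fgen wx, 1, hx ▸ El.word wx hw, hy ▸ El.one, ?_, by simp [hz]⟩
    obtain ⟨m, hm⟩ := Nat.exists_eq_succ_of_ne_zero (by omega : (C.fact k).j ≠ 0)
    rw [hm, Nat.succ_sub_one] at hdef
    rw [hz, cond_true, map_one, mul_one, hm, hv m (by omega), hdef]
    exact Eqv.refl _
  · rename_i a _
    simp only [Bool.and_eq_true, Nat.blt_eq, beq_iff_eq] at h
    obtain ⟨⟨⟨⟨⟨⟨ha, haz⟩, hz⟩, hi⟩, hj⟩, hx⟩, hy⟩ := h
    obtain ⟨x, y, hX, hY, hE, -⟩ := hk a ha
    refine ⟨y, x * wval fgen [0, 0], hx ▸ hY, hy ▸ hX.mul (El.word _ (by decide)), ?_, by simp [hz]⟩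
    rw [haz, cond_true] at hE
    rw [hz, cond_true, Nat.eq_of_beq_eq_true hi, Nat.eq_of_beq_eq_true hj, map_mul, ← z_sq, ← mul_assoc, ← mul_assoc]
    exact (hE.mul_right zL).symm
  · rename_i e si sh A B _
    simp only [Bool.and_eq_true, Nat.blt_eq] at h
    obtain ⟨⟨⟨he, hsh⟩, h1⟩, h2⟩ := h
    have hp : tval (C.eqs.getD e ([], [])).1 = tval (C.eqs.getD e ([], [])).2 := by
      rw [List.getD_eq_getElem _ _ he]
      exact heq _ (List.getElem_mem he)
    have hs : C.At (si, m7 sh) (C.v si * toLy (wval fgen sh)) := ⟨_, El.word sh hsh, Eqv.refl _⟩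
    obtain ⟨b, hb, hBE⟩ := walk_sound hk h0 _ B _ _ (endsAt_eq h2) _ hs
    cases hz : (C.fact k).z with
    | true =>
      rw [hz, cond_true] at h1
      split at h1
      · rename_i r hr
        obtain ⟨a, ha, hAE⟩ := walk_sound hk h0 _ A _ _ (endsAt_eq h1) _ hs
        refine ⟨a, b, ha, hb, ?_, by simp [hz]⟩
        rw [List.reverse_eq_cons_iff] at hr
        rw [hz, cond_true]
        refine ((hAE.mul_right zL).symm.trans ?_).trans hBE
        rw [← hp, hr, tval_append]
        simp only [tval, mul_one, mul_assoc]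
        exact Eqv.refl _
      · simp at h1
    | false =>
      rw [hz, cond_false] at h1
      simp only [Bool.and_eq_true, beq_iff_eq] at h1
      obtain ⟨⟨⟨⟨h1, hd1⟩, hd2⟩, hd3⟩, hd4⟩ := h1
      obtain ⟨a, ha, hAE⟩ := walk_sound hk h0 _ A _ _ (endsAt_eq h1) _ hs
      have hD : El (C.fact k).d (b * a⁻¹) := by
        have hM : toMat 7 (C.fact k).d * toMat 7 (C.fact k).x = toMat 7 (C.fact k).y := by
          rw [← toMat_mmul (by norm_num) hd1 ha.1, hd3]
        rw [ha.2, hb.2] at hM
        refine ⟨hd1, ?_⟩
        rw [map_mul, Units.val_mul, map_inv, ← hM, mul_assoc, ← Units.val_mul, mul_inv_cancel, Units.val_one, mul_one]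
      refine ⟨a, b, ha, hb, ?_, fun _ => ⟨hD, ?_⟩⟩
      · rw [hz, cond_false, mul_one]
        exact (hAE.symm.trans (hp ▸ Eqv.refl _)).trans hBE
      · have := hD.inv hd2 hd4
        rwa [mul_inv_rev, inv_inv] at this
  · rename_i sh wx w A _
    simp only [Bool.and_eq_true, beq_iff_eq] at h
    obtain ⟨⟨⟨⟨⟨⟨hz, hsh⟩, hwx⟩, hw⟩, hx⟩, hxl⟩, h⟩ := h
    split at h
    · rename_i m g hwalk
      simp only [Bool.and_eq_true, beq_iff_eq] at h
      have hw8 : ∀ i ∈ w, i < 8 := fun i hi => by simpa [Nat.blt_eq] using List.all_eq_true.1 hw i hi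
      obtain ⟨b, hb, hE⟩ := walk_sound hk h0 _ A _ _ hwalk (C.v (C.fact k).i * toLy (wval fgen sh))
        ⟨_, El.word sh hsh, Eqv.refl _⟩
      have hX : El (C.fact k).x (wval fgen wx) := hx ▸ El.word wx hwx
      have hshv : wval fgen sh = wval fgen wx * wval fgen (lWord w) := by
        have := hX.mul (tmat_el tables_el.1 w hw8)
        rw [hxl] at this
        exact El.unique (El.word sh hsh) this
      have hI := tmat_el tables_el.2.2 w.reverse fun i hi => hw8 i (List.mem_reverse.1 hi)
      rw [imInv_val w hw8] at hI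
      refine ⟨_, _, hX, h.2 ▸ hb.mul hI, ?_, by simp [hz]⟩
      rw [hz, cond_true, ← Nat.eq_of_beq_eq_true h.1]
      simp only [tval, mul_one, hshv, map_mul, mul_assoc, lWord_conj w hw8] at hE
      have := hE.mul_right (toLy (wval fgen (iWord w)))⁻¹
      simp only [mul_assoc, mul_inv_cancel, mul_one] at this
      simpa only [map_mul, map_inv, mul_assoc] using this
    · simp at h

theorem facts_sound (hd : ∀ m < C.defs.length, (C.defs.getD m (0, [])).1 ≤ m)
    (heq : ∀ p ∈ C.eqs, tval p.1 = tval p.2) {N : ℕ} (h : C.okRange 0 N = true) : ∀ m < N, C.FOK (C.fact m) := by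
  intro m
  induction m using Nat.strong_induction_on with
  | _ m ih =>
    exact fun hm => step_sound hd heq (fun j hj => ih j hj (hj.trans hm))
      (List.all_eq_true.1 h m (List.mem_range'_1.2 ⟨Nat.zero_le m, by omega⟩))

end Cfsg.Lib.LyPres
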