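import Cfsg.Agent.LyPres.RepHom
import Cfsg.Agent.LyPres.Cert

/-!
The subgroup on a, b, c, d of the presented Lyons group.
-/

set_option autoImplicit false

namespace Cfsg.Lib.LyPres

open Cfsg.Spor

theorem gen_nine : ∀ i < 9, i < 4 ∨ i ∈ [4, 5, 6, 7, 8] := by decide

theorem closure_four : Subgroup.closure {fgen 0, fgen 1, fgen 2, fgen 3} = (⊤ : Subgroup F) := by
  set S : Subgroup F := Subgroup.closure {fgen 0, fgen 1, fgen 2, fgen 3}
  have ha : fgen 0 ∈ S := Subgroup.subset_closure (by simp)
  have hb : fgen 1 ∈ S := Subgroup.subset_closure (by simp)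
  have hc : fgen 2 ∈ S := Subgroup.subset_closure (by simp)
  have hd : fgen 3 ∈ S := Subgroup.subset_closure (by simp)
  have h5 : fgen 5 ∈ S := by rw [c2_eq]; exact mul_mem (mul_mem (inv_mem ha) hc) ha
  have h6 : fgen 6 ∈ S := by rw [c3_eq]; exact mul_mem (mul_mem (inv_mem hb) hc) hb
  have h7 : fgen 7 ∈ S := by rw [c4_eq]; exact mul_mem (mul_mem hb hc) (inv_mem hb)
  have h8 : fgen 8 ∈ S := by
    have h : [16, 11, 5, 10, 4] ∈ rels9 := by decide +kernel
    have e := fgen_rels _ h
    simp [wval] at e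
    rw [eq_inv_of_mul_eq_one_left e]
    exact inv_mem (mul_mem (inv_mem h5) (mul_mem (inv_mem hc) (mul_mem h5 hc)))
  have hw : ∀ w : List ℕ, (∀ l ∈ w, l / 2 ∈ [0, 1, 2, 3, 5, 6, 7, 8]) → wval fgen w ∈ S := by
    intro w hl
    refine list_prod_mem fun g hg => ?_
    obtain ⟨l, hl', rfl⟩ := List.mem_map.1 hg
    have h := hl l hl'
    simp only [List.mem_cons, List.not_mem_nil, or_false] at h
    have hm : fgen (l / 2) ∈ S := by
      rcases h with h | h | h | h | h | h | h | h <;> rw [h] <;> assumption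
    cases l % 2 == 0
    · exact inv_mem hm
    · exact hm
  have h4 : fgen 4 ∈ S := by
    have hr : rels9.getD 27 [] ∈ rels9 := by decide +kernel
    have e := fgen_rels _ hr
    rw [show rels9.getD 27 [] = [8] ++ (rels9.getD 27 []).tail by decide +kernel, wval_append] at e
    rw [show fgen 4 = wval fgen [8] by simp [wval], eq_inv_of_mul_eq_one_left e]
    exact inv_mem (hw _ (by decide +kernel))
  rw [eq_top_iff, ← closure_fgen, Subgroup.closure_le]
  rintro _ ⟨k, hk, rfl⟩
  interval_cases k <;> assumption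

/-- The subgroup of the statements. -/
abbrev abcd : Subgroup Spor.Ly :=
  (Subgroup.closure ({Ly.a, Ly.b, Ly.c, Ly.d} : Set (FreeGroup Ly.Gen))).map (PresentedGroup.mk lyRels)

theorem abcd_eq : abcd = KL := by
  rw [KL, MonoidHom.range_eq_map, ← closure_four, abcd, MonoidHom.map_closure, MonoidHom.map_closure]
  congr 1
  simp only [Set.image_insert_eq, Set.image_singleton, toLy_gen (show 0 < 9 by norm_num),
    toLy_gen (show 1 < 9 by norm_num), toLy_gen (show 2 < 9 by norm_num), toLy_gen (show 3 < 9 by norm_num)]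
  rfl

/-- The subgroup on a, b, c, d is G2(5). -/
noncomputable def equivAbcd : abcd ≃* F :=
  (MulEquiv.subgroupCongr abcd_eq).trans (MonoidHom.ofInjective toLy_injective).symm

end Cfsg.Lib.LyPres
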