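import Cfsg.Agent.LyPres.CertCheck
import Cfsg.Agent.LyPres.LSub
import Cfsg.Agent.LyPres.FrameData
import Cfsg.Agent.LyPres.Sub

/-!
The cosets of the subgroup normalised by z, and closure of a set of cosets under z.
-/

set_option autoImplicit false
set_option Elab.async false

namespace Cfsg.Lib.LyPres

open Cfsg.Spor

/-- The frame of a coset of the subgroup normalised by z. -/
def frAt (x : ℕ) : List ℕ := (orbFR.at' x).1

/-- The closure step of a coset under a generator. -/
def closeOK (x : ℕ) : Bool :=
  (List.range 4).all fun g =>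
    let p := (frClose.getD (x / orbW) []).getD (x % orbW) 0
    let t := (p >>> (24 * g)) % 2 ^ 24
    Nat.blt (t % 2 ^ 16) 19530 && Nat.blt (t / 2 ^ 16) 96 &&
      mmul 7 (gen7.getD g []) (frAt x) == mmul 7 (frAt (t % 2 ^ 16)) (lbAt (t / 2 ^ 16))

/-- A range of closure steps. -/
def closeRange (lo n : ℕ) : Bool := (List.range' lo n).all closeOK

theorem closeRange_cat {a b k c n : ℕ} (hk : a + b = k) (hn : b + c = n) (h1 : closeRange a b = true)
    (h2 : closeRange k c = true) : closeRange a n = true := by
  subst hk hn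
  rw [closeRange] at *
  rw [← List.range'_append_1, List.all_append, h1, h2]
  rfl

/-- A class of the cosets is in the listed classes. -/
def InO (live : List ℕ) (g : Spor.Ly) : Prop := ∃ n ∈ live, ∃ a : F, Eqv g (crt.v n * toLy a)

theorem InO.mul_f {live : List ℕ} {g : Spor.Ly} (h : InO live g) (b : F) : InO live (g * toLy b) := by
  obtain ⟨n, hn, a, e⟩ := h
  exact ⟨n, hn, a * b, by rw [map_mul, ← mul_assoc]; exact e.mul_right _⟩

theorem InO.congr {live : List ℕ} {g g' : Spor.Ly} (h : InO live g) (e : Eqv g' g) : InO live g' := by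
  obtain ⟨n, hn, a, e'⟩ := h
  exact ⟨n, hn, a, e.trans e'⟩

/-- The data of the covering at a numbered coset: steps, and the paths from the roots to listed cosets. -/
structure NodeCov where
  node : ℕ
  gens : List ℕ
  steps : List (List ℕ)
  roots : List (ℕ × List Op)

/-- The coset of a step. -/
def stX (e : ℕ) : ℕ := e % 2 ^ 16
/-- Zero for a root, or the earlier coset plus one. -/
def stS (e : ℕ) : ℕ := e / 2 ^ 16 % 2 ^ 16
/-- The number of the root or of the generator. -/
def stK (e : ℕ) : ℕ := e / 2 ^ 32 % 2 ^ 8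
/-- The element of the subgroup normalised by z. -/
def stM (e : ℕ) : ℕ := e / 2 ^ 40

/-- The check of a step given the cosets reached before. -/
def NodeCov.stepOK (N : NodeCov) (mask e : ℕ) : Bool :=
  Nat.blt (stM e) 96 &&
    bif Nat.beq (stS e) 0 then
      let k := (N.roots.getD (stK e) (0, [])).1
      Nat.blt (stK e) N.roots.length && mmul 7 (mmul 7 (crt.fact k).x frameP) (lbAt (stM e)) == frAt (stX e)
    else
      let f := crt.fact (N.gens.getD (stK e) 0)
      Nat.blt (stK e) N.gens.length && Nat.blt (stS e - 1) 19530 && mask.testBit (stS e - 1) &&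
        mmul 7 (mmul 7 f.d (frAt (stS e - 1))) (lbAt (stM e)) == frAt (stX e)

/-- Follow the steps. -/
def NodeCov.run (N : NodeCov) : List ℕ → ℕ → Option ℕ
  | [], mask => some mask
  | e :: l, mask => bif N.stepOK mask e && Nat.blt (stX e) 19530 then N.run l (mask ||| 2 ^ stX e) else none

/-- Follow the blocks of steps. -/
def NodeCov.runAll (N : NodeCov) : List (List ℕ) → ℕ → Option ℕ
  | [], mask => some mask
  | b :: l, mask =>
    match N.run b mask with
    | some m => N.runAll l m
    | none => none

/-- All cosets are reached. -/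
def NodeCov.covers (N : NodeCov) : Bool :=
  match N.runAll N.steps 0 with
  | some m => Nat.beq m (2 ^ 19530 - 1)
  | none => false

/-- The roots and generators are facts at the coset, and the roots land in listed cosets. -/
def NodeCov.factsOK (N : NodeCov) (live : List ℕ) : Bool :=
  (N.gens.all fun k => Nat.blt k certN && !(crt.fact k).z && Nat.beq (crt.fact k).i N.node &&
      Nat.beq (crt.fact k).j N.node) &&
    N.roots.all fun r => Nat.blt r.1 certN && (crt.fact r.1).z && Nat.beq (crt.fact r.1).i N.node &&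
      match adj crt.fact certN r.2 ((crt.fact r.1).j, (crt.fact r.1).y) with
      | some ((n, _), []) => live.contains n
      | _ => false

theorem stab_fact {k n : ℕ} (hk : k < certN) (hz : (crt.fact k).z = false) (hi : (crt.fact k).i = n)
    (hj : (crt.fact k).j = n) : ∃ s : F, El (crt.fact k).d s ∧ Eqv (crt.v n * toLy s) (crt.v n) := by
  obtain ⟨a, b, -, -, hE, hd⟩ := crt_fok k hk
  refine ⟨b * a⁻¹, (hd hz).1, ?_⟩
  rw [hz, cond_false, mul_one, hi, hj] at hE
  have := (hE.mul_right (toLy a⁻¹)).symm
  simp only [mul_assoc, ← map_mul, mul_inv_cancel, map_one, mul_one] at this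
  exact this

/-- Good cosets at a numbered coset. -/
def Good (live : List ℕ) (n : ℕ) (e : ℕ → F) (x : ℕ) : Prop :=
  ∀ l ∈ Lsub, InO live (crt.v n * toLy (e x * l) * zL)

variable {N : NodeCov} {live : List ℕ} {e : ℕ → F}

theorem step_good (hf : N.factsOK live = true)
    (he : ∀ x < 19530, matOK 7 (frAt x) = true ∧ img (e x) (toMat 7 frameP) = toMat 7 (frAt x)) {mask s : ℕ}
    (h : N.stepOK mask s = true) (hx : stX s < 19530)
    (hm : ∀ y < 19530, mask.testBit y = true → Good live N.node e y) : Good live N.node e (stX s) := by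
  simp only [NodeCov.factsOK, Bool.and_eq_true, List.all_eq_true, Nat.blt_eq, Bool.not_eq_true'] at hf
  simp only [NodeCov.stepOK, Bool.and_eq_true, Nat.blt_eq] at h
  obtain ⟨hM, h⟩ := h
  intro l hl
  cases hb : Nat.beq (stS s) 0 with
  | true =>
    rw [hb, cond_true] at h
    simp only [Bool.and_eq_true, Nat.blt_eq, beq_iff_eq] at h
    obtain ⟨hk, heq⟩ := h
    have hmem : N.roots.getD (stK s) (0, []) ∈ N.roots := by
      rw [List.getD_eq_getElem _ _ hk]; exact List.getElem_mem hk
    generalize N.roots.getD (stK s) (0, []) = r at hmem heq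
    obtain ⟨k, ops⟩ := r
    obtain ⟨⟨⟨hkN, hz⟩, hi⟩, hland⟩ := hf.2 _ hmem
    obtain ⟨a, b, ha, hb', hE, -⟩ := crt_fok k hkN
    rw [hz, cond_true, Nat.eq_of_beq_eq_true hi] at hE
    have hla : a⁻¹ * e (stX s) ∈ Lsub := lsub_of_lb hM (matOK_mmul ha.1) (img_el ha (by decide))
      (by rw [(he _ hx).2, ← heq])
    obtain ⟨c, hc⟩ := lsub_conj _ (mul_mem hla hl)
    have hland' : InO live (crt.v (crt.fact k).j * toLy b) := by
      split at hland
      · rename_i n A hadj
        obtain ⟨c', hc', hE'⟩ := adj_sound (fun m hm' => crt_fok m hm') crt_v0 ops _ _ _ hadj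
          (crt.v (crt.fact k).j * toLy b) ⟨b, hb', Eqv.refl _⟩
        exact ⟨n, List.contains_iff_mem.1 hland, c', hE'⟩
      · exact Bool.noConfusion hland
    refine ((hland'.congr hE).mul_f c).congr ?_
    rw [show e (stX s) * l = a * (a⁻¹ * e (stX s) * l) by group, map_mul, mul_assoc _ _ zL, mul_assoc _ _ zL, hc]
    simp only [mul_assoc]
    exact Eqv.refl _
  | false =>
    rw [hb, cond_false] at h
    simp only [Bool.and_eq_true, Nat.blt_eq, beq_iff_eq] at h
    obtain ⟨⟨⟨hk, hy⟩, hbit⟩, heq⟩ := h
    have hmem : N.gens.getD (stK s) 0 ∈ N.gens := by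
      rw [List.getD_eq_getElem _ _ hk]; exact List.getElem_mem hk
    generalize N.gens.getD (stK s) 0 = k at hmem heq
    obtain ⟨⟨⟨hkN, hz⟩, hi⟩, hj⟩ := hf.1 k hmem
    obtain ⟨t, ht, hstab⟩ := stab_fact hkN hz (Nat.eq_of_beq_eq_true hi) (Nat.eq_of_beq_eq_true hj)
    obtain ⟨hyok, hye⟩ := he _ hy
    have hla : (t * e (stS s - 1))⁻¹ * e (stX s) ∈ Lsub := lsub_of_lb hM (matOK_mmul ht.1)
      (by rw [img_mul, hye, img_el ht hyok]) (by rw [(he _ hx).2, ← heq])
    refine (hm _ hy hbit _ (mul_mem hla hl)).congr ?_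
    rw [show e (stX s) * l = t * (e (stS s - 1) * ((t * e (stS s - 1))⁻¹ * e (stX s) * l)) by group, map_mul,
      ← mul_assoc]
    exact (hstab.mul_right _).mul_right _

theorem run_good (hf : N.factsOK live = true)
    (he : ∀ x < 19530, matOK 7 (frAt x) = true ∧ img (e x) (toMat 7 frameP) = toMat 7 (frAt x)) :
    ∀ (l : List ℕ) (mask out : ℕ), N.run l mask = some out →
      (∀ y < 19530, mask.testBit y = true → Good live N.node e y) →
      ∀ y < 19530, out.testBit y = true → Good live N.node e y
  | [], mask, out, h, hm => by simp only [NodeCov.run, Option.some.injEq] at h; exact h ▸ hm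
  | s :: l, mask, out, h, hm => by
    simp only [NodeCov.run] at h
    cases hb : (N.stepOK mask s && Nat.blt (stX s) 19530) with
    | false => simp [hb] at h
    | true =>
      rw [hb, cond_true] at h
      simp only [Bool.and_eq_true, Nat.blt_eq] at hb
      refine run_good hf he l _ out h fun y hy hbit => ?_
      rw [Nat.testBit_or, Bool.or_eq_true, Nat.testBit_two_pow] at hbit
      rcases hbit with hbit | hbit
      · exact hm y hy hbit
      · rw [decide_eq_true_eq] at hbit
        exact hbit ▸ step_good hf he hb.1 hb.2 hm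

theorem runAll_good (hf : N.factsOK live = true)
    (he : ∀ x < 19530, matOK 7 (frAt x) = true ∧ img (e x) (toMat 7 frameP) = toMat 7 (frAt x)) :
    ∀ (L : List (List ℕ)) (mask out : ℕ), N.runAll L mask = some out →
      (∀ y < 19530, mask.testBit y = true → Good live N.node e y) →
      ∀ y < 19530, out.testBit y = true → Good live N.node e y
  | [], mask, out, h, hm => by simp only [NodeCov.runAll, Option.some.injEq] at h; exact h ▸ hm
  | b :: L, mask, out, h, hm => by
    simp only [NodeCov.runAll] at h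
    cases hr : N.run b mask with
    | none => simp [hr] at h
    | some m =>
      simp only [hr] at h
      exact runAll_good hf he L m out h (run_good hf he b mask m hr hm)

theorem covers_good (hf : N.factsOK live = true) (hc : N.covers = true)
    (he : ∀ x < 19530, matOK 7 (frAt x) = true ∧ img (e x) (toMat 7 frameP) = toMat 7 (frAt x)) :
    ∀ x < 19530, Good live N.node e x := by
  simp only [NodeCov.covers] at hc
  split at hc
  · rename_i m hm
    intro x hx
    refine runAll_good hf he _ 0 m hm (fun y _ h => by simp at h) x hx ?_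
    rw [Nat.eq_of_beq_eq_true hc, Nat.testBit_two_pow_sub_one]
    exact decide_eq_true hx
  · exact Bool.noConfusion hc

/-- Every element is in a coset of a listed frame. -/
theorem frames_total (hclose : closeRange 0 19530 = true) (h0 : e 0 ∈ Lsub)
    (he : ∀ x < 19530, matOK 7 (frAt x) = true ∧ img (e x) (toMat 7 frameP) = toMat 7 (frAt x)) (h : F) :
    ∃ x < 19530, (e x)⁻¹ * h ∈ Lsub := by
  haveI := card_F.1
  let C : Set F := {h | ∃ x < 19530, (e x)⁻¹ * h ∈ Lsub}
  have hg : ∀ g < 4, ∀ h ∈ C, fgen g * h ∈ C := by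
    rintro g hg h ⟨x, hx, hl⟩
    have hc := List.all_eq_true.1 (List.all_eq_true.1 hclose x (List.mem_range'_1.2 ⟨Nat.zero_le x, by omega⟩)) g
      (List.mem_range.2 hg)
    simp only [Bool.and_eq_true, Nat.blt_eq, beq_iff_eq] at hc
    obtain ⟨⟨ht, hm⟩, heq⟩ := hc
    obtain ⟨hxok, hxe⟩ := he x hx
    have hlt : (e _)⁻¹ * (fgen g * e x) ∈ Lsub := lsub_of_lb hm (he _ ht).1 (he _ ht).2
      (by rw [img_mul, hxe, img_el (gen7_el g hg) hxok, heq])
    refine ⟨_, ht, ?_⟩
    have := mul_mem hlt hl
    simpa [mul_assoc] using this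
  have hinv : ∀ g : F, (∀ h ∈ C, g * h ∈ C) → ∀ h ∈ C, g⁻¹ * h ∈ C := fun g hgC h hh => by
    have hpow : ∀ n : ℕ, g ^ n * h ∈ C := fun n => by
      induction n with
      | zero => rwa [pow_zero, one_mul]
      | succ n ih => rw [pow_succ', mul_assoc]; exact hgC _ ih
    have ho := orderOf_pos g
    have := hpow (orderOf g - 1)
    rwa [show g ^ (orderOf g - 1) = g⁻¹ from eq_inv_of_mul_eq_one_left (by
      rw [← pow_succ, Nat.sub_add_cancel ho, pow_orderOf_eq_one])] at this
  let S : Subgroup F :=
    { carrier := {g | ∀ h ∈ C, g * h ∈ C}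
      one_mem' := fun h hh => by rwa [one_mul]
      mul_mem' := fun {a b} ha hb h hh => by rw [mul_assoc]; exact ha _ (hb h hh)
      inv_mem' := fun {a} ha => hinv a ha }
  have hS : (⊤ : Subgroup F) ≤ S := by
    rw [← closure_four, Subgroup.closure_le]
    rintro g (rfl | rfl | rfl | rfl)
    · exact hg 0 (by norm_num)
    · exact hg 1 (by norm_num)
    · exact hg 2 (by norm_num)
    · exact hg 3 (by norm_num)
  have := hS (Subgroup.mem_top h) 1 ⟨0, by norm_num, by rw [mul_one]; exact inv_mem h0⟩
  rwa [mul_one] at this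

theorem closed_of_good (hclose : closeRange 0 19530 = true) (h0 : e 0 ∈ Lsub)
    (he : ∀ x < 19530, matOK 7 (frAt x) = true ∧ img (e x) (toMat 7 frameP) = toMat 7 (frAt x)) {n : ℕ}
    (hgood : ∀ x < 19530, Good live n e x) (a : F) : InO live (crt.v n * toLy a * zL) := by
  obtain ⟨x, hx, hl⟩ := frames_total hclose h0 he a
  have := hgood x hx _ hl
  rwa [mul_inv_cancel_left] at this

end Cfsg.Lib.LyPres
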