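import Mathlib.Init

/-!
Data for a Sylow two-subgroup of the presented Lyons group above eleven letters.
-/

set_option autoImplicit false
set_option maxRecDepth 100000

namespace Cfsg.Lib.LyPres

/-- The continuation of the program, for two conjugating elements. -/
def progFus : List (Nat × Nat) :=
  [(21,31),
   (32,22),
   (328,27),
   (28,329),
   (330,31),
   (32,331),
   (332,35),
   (36,333),
   (31,35),
   (36,32),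
   (334,336),
   (337,335),
   (338,43),
   (44,339),
   (31,7),
   (8,32),
   (340,342),
   (343,341),
   (5,342),
   (343,6),
   (344,346),
   (347,345),
   (348,55),
   (56,349),
   (336,1),
   (2,337),
   (350,352),
   (353,351),
   (354,63),
   (64,355),
   (356,67),
   (68,357),
   (358,71),
   (72,359),
   (360,75),
   (76,361),
   (362,79),
   (80,363),
   (352,7),
   (8,353),
   (364,366),
   (367,365),
   (366,71),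
   (72,367),
   (368,370),
   (371,369),
   (75,352),
   (353,76),
   (372,374),
   (375,373),
   (342,370),
   (371,343),
   (376,378),
   (379,377),
   (13,380),
   (381,14),
   (14,381),
   (380,13),
   (384,382),
   (383,385),
   (386,386),
   (387,387),
   (388,388),
   (389,389),
   (388,390),
   (391,389),
   (390,390),
   (391,391),
   (392,394),
   (395,393),
   (380,366),
   (367,381),
   (13,398),
   (399,14),
   (14,399),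
   (398,13),
   (402,400),
   (401,403),
   (404,404),
   (405,405),
   (404,406),
   (407,405),
   (398,408),
   (409,399),
   (43,366),
   (367,44),
   (398,412),
   (413,399),
   (13,414),
   (415,14),
   (14,415),
   (414,13),
   (418,416),
   (417,419),
   (420,420),
   (421,421),
   (422,422),
   (423,423),
   (424,424),
   (425,425),
   (426,426),
   (427,427),
   (422,428),
   (429,423),
   (414,430),
   (431,415),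
   (412,366),
   (367,413),
   (414,434),
   (435,415),
   (13,436),
   (437,14),
   (14,437),
   (436,13),
   (440,438),
   (439,441),
   (442,442),
   (443,443),
   (444,444),
   (445,445),
   (446,446),
   (447,447),
   (444,448),
   (449,445),
   (432,410),
   (396,452),
   (410,396),
   (453,454),
   (396,450),
   (455,456),
   (456,450),
   (457,458),
   (396,410),
   (459,460),
   (450,460),
   (461,462),
   (450,450),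
   (463,464),
   (465,452),
   (462,432),
   (466,467),
   (462,467),
   (468,469),
   (452,450),
   (470,471),
   (432,462),
   (472,473),
   (469,452),
   (474,475),
   (454,458),
   (476,477),
   (464,450),
   (478,479),
   (475,477),
   (480,481),
   (452,475),
   (482,483),
   (458,410),
   (484,485),
   (450,483),
   (486,487),
   (483,479),
   (488,489),
   (481,473),
   (490,491),
   (485,410),
   (492,493),
   (410,475),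
   (494,495),
   (489,491),
   (496,497),
   (493,495),
   (498,499),
   (462,410),
   (500,501),
   (452,499),
   (502,503),
   (497,473),
   (504,505),
   (479,505),
   (506,507),
   (505,503),
   (508,509),
   (491,473),
   (510,511),
   (501,507),
   (512,513),
   (473,462),
   (514,515),
   (495,503),
   (516,517),
   (507,515),
   (518,519),
   (511,410),
   (520,521),
   (521,471),
   (522,523),
   (515,473),
   (524,525),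
   (487,471),
   (526,527),
   (525,523),
   (528,529),
   (511,495),
   (530,531),
   (529,517),
   (532,533),
   (509,513),
   (534,535),
   (529,519),
   (536,537),
   (537,535),
   (538,539),
   (539,473),
   (540,541),
   (535,519),
   (542,543),
   (544,544),
   (545,545),
   (545,546),
   (546,546),
   (547,548),
   (397,549),
   (550,396),
   (411,549),
   (552,410),
   (433,549),
   (554,432),
   (451,549),
   (556,450),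
   (433,551),
   (558,432),
   (451,551),
   (560,450),
   (433,553),
   (562,432),
   (397,555),
   (564,396),
   (433,557),
   (566,432),
   (411,559),
   (568,410),
   (411,561),
   (570,410),
   (411,563),
   (572,410),
   (411,565),
   (574,410),
   (397,569),
   (576,396),
   (451,571),
   (578,450),
   (433,573),
   (580,432),
   (397,575),
   (582,396),
   (411,577),
   (584,410),
   (585,583),
   (583,585),
   (587,586),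
   (581,579),
   (579,581),
   (590,589),
   (567,549),
   (549,567),
   (593,592),
   (594,591),
   (595,588),
   (596,13),
   (15,7),
   (8,16),
   (17,598),
   (599,18),
   (5,1),
   (2,6),
   (600,602),
   (603,601),
   (9,15),
   (16,10),
   (604,606),
   (607,605),
   (5,606),
   (607,6),
   (608,610),
   (611,609),
   (7,9),
   (10,8),
   (612,614),
   (615,613),
   (602,1),
   (2,603),
   (616,618),
   (619,617),
   (610,614),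
   (615,611),
   (620,622),
   (623,621),
   (3,9),
   (10,4),
   (624,626),
   (627,625),
   (9,622),
   (623,10),
   (628,630),
   (631,629),
   (606,5),
   (6,607),
   (632,634),
   (635,633),
   (618,630),
   (631,619),
   (636,638),
   (639,637),
   (634,630),
   (631,635),
   (640,642),
   (643,641),
   (602,638),
   (639,603),
   (644,646),
   (647,645),
   (626,9),
   (10,627),
   (648,650),
   (651,649),
   (610,602),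
   (603,611),
   (652,654),
   (655,653),
   (642,650),
   (651,643),
   (656,658),
   (659,657),
   (658,642),
   (643,659),
   (660,662),
   (663,661),
   (662,598),
   (599,663),
   (664,666),
   (667,665),
   (669,13),
   (670,668),
   (13,671),
   (672,672),
   (673,673),
   (674,674),
   (675,675),
   (671,596),
   (677,677),
   (678,678),
   (679,679),
   (680,680),
   (676,681),
   (662,630),
   (631,663),
   (668,683),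
   (684,669),
   (666,9),
   (10,667),
   (685,687),
   (688,686),
   (683,654),
   (655,684),
   (689,691),
   (692,690),
   (5,9),
   (10,6),
   (693,695),
   (696,694),
   (654,691),
   (692,655),
   (697,699),
   (700,698),
   (602,646),
   (647,603),
   (701,703),
   (704,702),
   (706,13),
   (707,705),
   (13,708),
   (709,709),
   (710,710),
   (711,711),
   (712,712),
   (708,597),
   (714,714),
   (714,715),
   (715,715),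
   (717,717),
   (718,718),
   (716,719),
   (713,720)]

/-- The two conjugating elements. -/
def witFus : List Nat := [682, 721]

/-- The three generators in the nine elements. -/
def sylW : List (List Nat) := [[7], [0, 0, 1, 0], [2, 1, 0, 0, 3, 2, 1, 0, 4, 3, 2, 1, 5, 4, 3, 2]]

/-- The elements in the three generators. -/
def sylEls : List (List Nat) :=
  [[],
   [0],
   [1],
   [2],
   [0, 1],
   [0, 2],
   [1, 0],
   [1, 2],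
   [2, 0],
   [2, 1],
   [0, 1, 0],
   [0, 1, 2],
   [0, 2, 0],
   [0, 2, 1],
   [1, 0, 1],
   [1, 0, 2],
   [1, 2, 0],
   [1, 2, 1],
   [2, 0, 1],
   [2, 0, 2],
   [2, 1, 0],
   [2, 1, 2],
   [0, 1, 0, 1],
   [0, 1, 0, 2],
   [0, 1, 2, 0],
   [0, 1, 2, 1],
   [0, 2, 0, 1],
   [0, 2, 0, 2],
   [0, 2, 1, 0],
   [0, 2, 1, 2],
   [1, 0, 1, 2],
   [1, 0, 2, 0],
   [1, 0, 2, 1],
   [1, 2, 0, 1],
   [1, 2, 0, 2],
   [1, 2, 1, 0],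
   [1, 2, 1, 2],
   [2, 0, 1, 0],
   [2, 0, 1, 2],
   [2, 1, 0, 1],
   [2, 1, 0, 2],
   [0, 1, 0, 1, 2],
   [0, 1, 0, 2, 0],
   [0, 1, 0, 2, 1],
   [0, 1, 2, 0, 1],
   [0, 1, 2, 0, 2],
   [0, 1, 2, 1, 0],
   [0, 1, 2, 1, 2],
   [0, 2, 0, 1, 0],
   [0, 2, 0, 1, 2],
   [0, 2, 1, 0, 1],
   [0, 2, 1, 0, 2],
   [1, 0, 1, 2, 0],
   [1, 0, 1, 2, 1],
   [1, 0, 2, 0, 1],
   [1, 0, 2, 0, 2],
   [1, 0, 2, 1, 0],
   [1, 0, 2, 1, 2],
   [1, 2, 0, 1, 0],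
   [1, 2, 0, 1, 2],
   [1, 2, 1, 0, 1],
   [1, 2, 1, 0, 2],
   [2, 0, 1, 0, 1],
   [2, 0, 1, 0, 2],
   [2, 1, 0, 1, 2],
   [0, 1, 0, 1, 2, 0],
   [0, 1, 0, 1, 2, 1],
   [0, 1, 0, 2, 0, 1],
   [0, 1, 0, 2, 0, 2],
   [0, 1, 0, 2, 1, 0],
   [0, 1, 0, 2, 1, 2],
   [0, 1, 2, 0, 1, 0],
   [0, 1, 2, 0, 1, 2],
   [0, 1, 2, 1, 0, 1],
   [0, 1, 2, 1, 0, 2],
   [0, 2, 0, 1, 0, 1],
   [0, 2, 0, 1, 0, 2],
   [0, 2, 1, 0, 1, 2],
   [1, 0, 1, 2, 0, 1],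
   [1, 0, 1, 2, 0, 2],
   [1, 0, 1, 2, 1, 0],
   [1, 0, 1, 2, 1, 2],
   [1, 0, 2, 0, 1, 0],
   [1, 0, 2, 0, 1, 2],
   [1, 0, 2, 1, 0, 1],
   [1, 0, 2, 1, 0, 2],
   [1, 2, 0, 1, 0, 1],
   [1, 2, 0, 1, 0, 2],
   [1, 2, 1, 0, 1, 2],
   [2, 0, 1, 0, 1, 2],
   [0, 1, 0, 1, 2, 0, 1],
   [0, 1, 0, 1, 2, 0, 2],
   [0, 1, 0, 1, 2, 1, 0],
   [0, 1, 0, 1, 2, 1, 2],
   [0, 1, 0, 2, 0, 1, 0],
   [0, 1, 0, 2, 0, 1, 2],
   [0, 1, 0, 2, 1, 0, 1],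
   [0, 1, 0, 2, 1, 0, 2],
   [0, 1, 2, 0, 1, 0, 1],
   [0, 1, 2, 0, 1, 0, 2],
   [0, 1, 2, 1, 0, 1, 2],
   [0, 2, 0, 1, 0, 1, 2],
   [1, 0, 1, 2, 0, 1, 0],
   [1, 0, 1, 2, 0, 1, 2],
   [1, 0, 1, 2, 1, 0, 1],
   [1, 0, 1, 2, 1, 0, 2],
   [1, 0, 2, 0, 1, 0, 1],
   [1, 0, 2, 0, 1, 0, 2],
   [1, 0, 2, 1, 0, 1, 2],
   [1, 2, 0, 1, 0, 1, 2],
   [0, 1, 0, 1, 2, 0, 1, 0],
   [0, 1, 0, 1, 2, 0, 1, 2],
   [0, 1, 0, 1, 2, 1, 0, 1],
   [0, 1, 0, 1, 2, 1, 0, 2],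
   [0, 1, 0, 2, 0, 1, 0, 1],
   [0, 1, 0, 2, 0, 1, 0, 2],
   [0, 1, 0, 2, 1, 0, 1, 2],
   [0, 1, 2, 0, 1, 0, 1, 2],
   [1, 0, 1, 2, 0, 1, 0, 1],
   [1, 0, 1, 2, 0, 1, 0, 2],
   [1, 0, 1, 2, 1, 0, 1, 2],
   [1, 0, 2, 0, 1, 0, 1, 2],
   [0, 1, 0, 1, 2, 0, 1, 0, 1],
   [0, 1, 0, 1, 2, 0, 1, 0, 2],
   [0, 1, 0, 1, 2, 1, 0, 1, 2],
   [0, 1, 0, 2, 0, 1, 0, 1, 2],
   [1, 0, 1, 2, 0, 1, 0, 1, 2],
   [0, 1, 0, 1, 2, 0, 1, 0, 1, 2]]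

/-- The images of the elements. -/
def sylImgs : List (List Nat) :=
  [[0, 1, 2, 3, 4, 5, 6, 7, 8, 9, 10],
   [1, 0, 2, 3, 4, 5, 6, 7, 9, 8, 10],
   [2, 3, 0, 1, 4, 5, 6, 7, 8, 9, 10],
   [4, 5, 6, 7, 0, 1, 2, 3, 8, 9, 10],
   [2, 3, 1, 0, 4, 5, 6, 7, 9, 8, 10],
   [4, 5, 6, 7, 1, 0, 2, 3, 9, 8, 10],
   [3, 2, 0, 1, 4, 5, 6, 7, 9, 8, 10],
   [4, 5, 6, 7, 2, 3, 0, 1, 8, 9, 10],
   [5, 4, 6, 7, 0, 1, 2, 3, 9, 8, 10],
   [6, 7, 4, 5, 0, 1, 2, 3, 8, 9, 10],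
   [3, 2, 1, 0, 4, 5, 6, 7, 8, 9, 10],
   [4, 5, 6, 7, 2, 3, 1, 0, 9, 8, 10],
   [5, 4, 6, 7, 1, 0, 2, 3, 8, 9, 10],
   [6, 7, 4, 5, 1, 0, 2, 3, 9, 8, 10],
   [0, 1, 3, 2, 4, 5, 6, 7, 9, 8, 10],
   [4, 5, 6, 7, 3, 2, 0, 1, 9, 8, 10],
   [5, 4, 6, 7, 2, 3, 0, 1, 9, 8, 10],
   [6, 7, 4, 5, 2, 3, 0, 1, 8, 9, 10],
   [6, 7, 5, 4, 0, 1, 2, 3, 9, 8, 10],
   [0, 1, 2, 3, 5, 4, 6, 7, 9, 8, 10],
   [7, 6, 4, 5, 0, 1, 2, 3, 9, 8, 10],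
   [0, 1, 2, 3, 6, 7, 4, 5, 8, 9, 10],
   [1, 0, 3, 2, 4, 5, 6, 7, 8, 9, 10],
   [4, 5, 6, 7, 3, 2, 1, 0, 8, 9, 10],
   [5, 4, 6, 7, 2, 3, 1, 0, 8, 9, 10],
   [6, 7, 4, 5, 2, 3, 1, 0, 9, 8, 10],
   [6, 7, 5, 4, 1, 0, 2, 3, 8, 9, 10],
   [1, 0, 2, 3, 5, 4, 6, 7, 8, 9, 10],
   [7, 6, 4, 5, 1, 0, 2, 3, 8, 9, 10],
   [1, 0, 2, 3, 6, 7, 4, 5, 9, 8, 10],
   [4, 5, 6, 7, 0, 1, 3, 2, 9, 8, 10],
   [5, 4, 6, 7, 3, 2, 0, 1, 8, 9, 10],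
   [6, 7, 4, 5, 3, 2, 0, 1, 9, 8, 10],
   [6, 7, 5, 4, 2, 3, 0, 1, 9, 8, 10],
   [2, 3, 0, 1, 5, 4, 6, 7, 9, 8, 10],
   [7, 6, 4, 5, 2, 3, 0, 1, 9, 8, 10],
   [2, 3, 0, 1, 6, 7, 4, 5, 8, 9, 10],
   [7, 6, 5, 4, 0, 1, 2, 3, 8, 9, 10],
   [0, 1, 2, 3, 6, 7, 5, 4, 9, 8, 10],
   [4, 5, 7, 6, 0, 1, 2, 3, 9, 8, 10],
   [0, 1, 2, 3, 7, 6, 4, 5, 9, 8, 10],
   [4, 5, 6, 7, 1, 0, 3, 2, 8, 9, 10],
   [5, 4, 6, 7, 3, 2, 1, 0, 9, 8, 10],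
   [6, 7, 4, 5, 3, 2, 1, 0, 8, 9, 10],
   [6, 7, 5, 4, 2, 3, 1, 0, 8, 9, 10],
   [2, 3, 1, 0, 5, 4, 6, 7, 8, 9, 10],
   [7, 6, 4, 5, 2, 3, 1, 0, 8, 9, 10],
   [2, 3, 1, 0, 6, 7, 4, 5, 9, 8, 10],
   [7, 6, 5, 4, 1, 0, 2, 3, 9, 8, 10],
   [1, 0, 2, 3, 6, 7, 5, 4, 8, 9, 10],
   [4, 5, 7, 6, 1, 0, 2, 3, 8, 9, 10],
   [1, 0, 2, 3, 7, 6, 4, 5, 8, 9, 10],
   [5, 4, 6, 7, 0, 1, 3, 2, 8, 9, 10],
   [6, 7, 4, 5, 0, 1, 3, 2, 9, 8, 10],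
   [6, 7, 5, 4, 3, 2, 0, 1, 8, 9, 10],
   [3, 2, 0, 1, 5, 4, 6, 7, 8, 9, 10],
   [7, 6, 4, 5, 3, 2, 0, 1, 8, 9, 10],
   [3, 2, 0, 1, 6, 7, 4, 5, 9, 8, 10],
   [7, 6, 5, 4, 2, 3, 0, 1, 8, 9, 10],
   [2, 3, 0, 1, 6, 7, 5, 4, 9, 8, 10],
   [4, 5, 7, 6, 2, 3, 0, 1, 9, 8, 10],
   [2, 3, 0, 1, 7, 6, 4, 5, 9, 8, 10],
   [5, 4, 7, 6, 0, 1, 2, 3, 8, 9, 10],
   [0, 1, 2, 3, 7, 6, 5, 4, 8, 9, 10],
   [0, 1, 2, 3, 4, 5, 7, 6, 9, 8, 10],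
   [5, 4, 6, 7, 1, 0, 3, 2, 9, 8, 10],
   [6, 7, 4, 5, 1, 0, 3, 2, 8, 9, 10],
   [6, 7, 5, 4, 3, 2, 1, 0, 9, 8, 10],
   [3, 2, 1, 0, 5, 4, 6, 7, 9, 8, 10],
   [7, 6, 4, 5, 3, 2, 1, 0, 9, 8, 10],
   [3, 2, 1, 0, 6, 7, 4, 5, 8, 9, 10],
   [7, 6, 5, 4, 2, 3, 1, 0, 9, 8, 10],
   [2, 3, 1, 0, 6, 7, 5, 4, 8, 9, 10],
   [4, 5, 7, 6, 2, 3, 1, 0, 8, 9, 10],
   [2, 3, 1, 0, 7, 6, 4, 5, 8, 9, 10],
   [5, 4, 7, 6, 1, 0, 2, 3, 9, 8, 10],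
   [1, 0, 2, 3, 7, 6, 5, 4, 9, 8, 10],
   [1, 0, 2, 3, 4, 5, 7, 6, 8, 9, 10],
   [6, 7, 5, 4, 0, 1, 3, 2, 8, 9, 10],
   [0, 1, 3, 2, 5, 4, 6, 7, 8, 9, 10],
   [7, 6, 4, 5, 0, 1, 3, 2, 8, 9, 10],
   [0, 1, 3, 2, 6, 7, 4, 5, 9, 8, 10],
   [7, 6, 5, 4, 3, 2, 0, 1, 9, 8, 10],
   [3, 2, 0, 1, 6, 7, 5, 4, 8, 9, 10],
   [4, 5, 7, 6, 3, 2, 0, 1, 8, 9, 10],
   [3, 2, 0, 1, 7, 6, 4, 5, 8, 9, 10],
   [5, 4, 7, 6, 2, 3, 0, 1, 8, 9, 10],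
   [2, 3, 0, 1, 7, 6, 5, 4, 8, 9, 10],
   [2, 3, 0, 1, 4, 5, 7, 6, 9, 8, 10],
   [0, 1, 2, 3, 5, 4, 7, 6, 8, 9, 10],
   [6, 7, 5, 4, 1, 0, 3, 2, 9, 8, 10],
   [1, 0, 3, 2, 5, 4, 6, 7, 9, 8, 10],
   [7, 6, 4, 5, 1, 0, 3, 2, 9, 8, 10],
   [1, 0, 3, 2, 6, 7, 4, 5, 8, 9, 10],
   [7, 6, 5, 4, 3, 2, 1, 0, 8, 9, 10],
   [3, 2, 1, 0, 6, 7, 5, 4, 9, 8, 10],
   [4, 5, 7, 6, 3, 2, 1, 0, 9, 8, 10],
   [3, 2, 1, 0, 7, 6, 4, 5, 9, 8, 10],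
   [5, 4, 7, 6, 2, 3, 1, 0, 9, 8, 10],
   [2, 3, 1, 0, 7, 6, 5, 4, 9, 8, 10],
   [2, 3, 1, 0, 4, 5, 7, 6, 8, 9, 10],
   [1, 0, 2, 3, 5, 4, 7, 6, 9, 8, 10],
   [7, 6, 5, 4, 0, 1, 3, 2, 9, 8, 10],
   [0, 1, 3, 2, 6, 7, 5, 4, 8, 9, 10],
   [4, 5, 7, 6, 0, 1, 3, 2, 8, 9, 10],
   [0, 1, 3, 2, 7, 6, 4, 5, 8, 9, 10],
   [5, 4, 7, 6, 3, 2, 0, 1, 9, 8, 10],
   [3, 2, 0, 1, 7, 6, 5, 4, 9, 8, 10],
   [3, 2, 0, 1, 4, 5, 7, 6, 8, 9, 10],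
   [2, 3, 0, 1, 5, 4, 7, 6, 8, 9, 10],
   [7, 6, 5, 4, 1, 0, 3, 2, 8, 9, 10],
   [1, 0, 3, 2, 6, 7, 5, 4, 9, 8, 10],
   [4, 5, 7, 6, 1, 0, 3, 2, 9, 8, 10],
   [1, 0, 3, 2, 7, 6, 4, 5, 9, 8, 10],
   [5, 4, 7, 6, 3, 2, 1, 0, 8, 9, 10],
   [3, 2, 1, 0, 7, 6, 5, 4, 8, 9, 10],
   [3, 2, 1, 0, 4, 5, 7, 6, 9, 8, 10],
   [2, 3, 1, 0, 5, 4, 7, 6, 9, 8, 10],
   [5, 4, 7, 6, 0, 1, 3, 2, 9, 8, 10],
   [0, 1, 3, 2, 7, 6, 5, 4, 9, 8, 10],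
   [0, 1, 3, 2, 4, 5, 7, 6, 8, 9, 10],
   [3, 2, 0, 1, 5, 4, 7, 6, 9, 8, 10],
   [5, 4, 7, 6, 1, 0, 3, 2, 8, 9, 10],
   [1, 0, 3, 2, 7, 6, 5, 4, 8, 9, 10],
   [1, 0, 3, 2, 4, 5, 7, 6, 9, 8, 10],
   [3, 2, 1, 0, 5, 4, 7, 6, 8, 9, 10],
   [0, 1, 3, 2, 5, 4, 7, 6, 9, 8, 10],
   [1, 0, 3, 2, 5, 4, 7, 6, 8, 9, 10]]

/-- The products with the generators. -/
def sylSucc : List (List Nat) :=
  [[1, 2, 3],
   [0, 4, 5],
   [6, 0, 7],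
   [8, 9, 0],
   [10, 1, 11],
   [12, 13, 1],
   [2, 14, 15],
   [16, 17, 2],
   [3, 18, 19],
   [20, 3, 21],
   [4, 22, 23],
   [24, 25, 4],
   [5, 26, 27],
   [28, 5, 29],
   [22, 6, 30],
   [31, 32, 6],
   [7, 33, 34],
   [35, 7, 36],
   [37, 8, 38],
   [27, 34, 8],
   [9, 39, 40],
   [29, 36, 9],
   [14, 10, 41],
   [42, 43, 10],
   [11, 44, 45],
   [46, 11, 47],
   [48, 12, 49],
   [19, 45, 12],
   [13, 50, 51],
   [21, 47, 13],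
   [52, 53, 14],
   [15, 54, 55],
   [56, 15, 57],
   [58, 16, 59],
   [55, 19, 16],
   [17, 60, 61],
   [57, 21, 17],
   [18, 62, 63],
   [49, 59, 18],
   [62, 20, 64],
   [51, 61, 20],
   [65, 66, 22],
   [23, 67, 68],
   [69, 23, 70],
   [71, 24, 72],
   [68, 27, 24],
   [25, 73, 74],
   [70, 29, 25],
   [26, 75, 76],
   [38, 72, 26],
   [75, 28, 77],
   [40, 74, 28],
   [30, 78, 79],
   [80, 30, 81],
   [82, 31, 83],
   [34, 79, 31],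
   [32, 84, 85],
   [36, 81, 32],
   [33, 86, 87],
   [83, 38, 33],
   [86, 35, 88],
   [85, 40, 35],
   [39, 37, 89],
   [76, 87, 37],
   [77, 88, 39],
   [41, 90, 91],
   [92, 41, 93],
   [94, 42, 95],
   [45, 91, 42],
   [43, 96, 97],
   [47, 93, 43],
   [44, 98, 99],
   [95, 49, 44],
   [98, 46, 100],
   [97, 51, 46],
   [50, 48, 101],
   [63, 99, 48],
   [64, 100, 50],
   [102, 52, 103],
   [91, 55, 52],
   [53, 104, 105],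
   [93, 57, 53],
   [54, 106, 107],
   [59, 103, 54],
   [106, 56, 108],
   [61, 105, 56],
   [60, 58, 109],
   [107, 63, 58],
   [108, 64, 60],
   [101, 109, 62],
   [110, 65, 111],
   [79, 68, 65],
   [66, 112, 113],
   [81, 70, 66],
   [67, 114, 115],
   [72, 111, 67],
   [114, 69, 116],
   [74, 113, 69],
   [73, 71, 117],
   [115, 76, 71],
   [116, 77, 73],
   [89, 117, 75],
   [78, 118, 119],
   [111, 83, 78],
   [118, 80, 120],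
   [113, 85, 80],
   [84, 82, 121],
   [87, 119, 82],
   [88, 120, 84],
   [121, 89, 86],
   [90, 122, 123],
   [103, 95, 90],
   [122, 92, 124],
   [105, 97, 92],
   [96, 94, 125],
   [99, 123, 94],
   [100, 124, 96],
   [125, 101, 98],
   [104, 102, 126],
   [123, 107, 102],
   [124, 108, 104],
   [109, 126, 106],
   [112, 110, 127],
   [119, 115, 110],
   [120, 116, 112],
   [117, 127, 114],
   [127, 121, 118],
   [126, 125, 122]]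

/-- The generators as products of elements moving eight letters. -/
def sylInv : List (List Nat) := [[81, 93], [68, 91], [3]]

end Cfsg.Lib.LyPres
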