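import Cfsg.Agent.Fusion.AltSimple.Two
import Cfsg.Agent.LyPres.FusData

/-!
A Sylow two-subgroup of the alternating group on eleven letters by a list of its elements: its centre has two
elements and it is its own normaliser.
-/

set_option autoImplicit false
set_option maxRecDepth 100000
set_option maxHeartbeats 4000000
set_option Elab.async false

namespace Cfsg.Lib.LyPres.Eleven

open Equiv

/-- A transposition of neighbours. -/
def sPerm (a : ℕ) : Perm (Fin 11) := swap (Fin.ofNat 11 a) (Fin.ofNat 11 (a + 1))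

/-- One of the nine generators. -/
def gPerm (i : ℕ) : Perm (Fin 11) := sPerm 0 * sPerm (i + 1)

/-- The permutation of a word. -/
def wPerm (w : List ℕ) : Perm (Fin 11) := (w.map gPerm).prod

theorem wPerm_append (u w : List ℕ) : wPerm (u ++ w) = wPerm u * wPerm w := by simp [wPerm]

theorem wPerm_cons (i : ℕ) (w : List ℕ) : wPerm (i :: w) = gPerm i * wPerm w := rfl

/-- A transposition on numbers. -/
def sN (a x : ℕ) : ℕ := bif Nat.beq x a then a + 1 else bif Nat.beq x (a + 1) then a else x

/-- A word on numbers. -/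
def evN : List ℕ → ℕ → ℕ
  | [], x => x
  | i :: w, x => sN 0 (sN (i + 1) (evN w x))

/-- The images of a word. -/
def imgsN (w : List ℕ) : List ℕ := (List.range 11).map (evN w)

theorem sN_spec : ∀ a : Fin 10, ∀ x : Fin 11, (sPerm a.val x).val = sN a.val x.val := by decide +kernel

theorem evN_spec : ∀ (w : List ℕ) (x : Fin 11), (w.all fun i => Nat.blt i 9) = true → (wPerm w x).val = evN w x.val
  | [], x, _ => rfl
  | i :: w, x, h => by
    simp only [List.all_cons, Bool.and_eq_true, Nat.blt_eq] at h
    rw [wPerm_cons, gPerm, Perm.mul_apply, Perm.mul_apply, evN, ← evN_spec w x h.2,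
      sN_spec ⟨0, by norm_num⟩, sN_spec ⟨i + 1, by omega⟩]

theorem perm_ext {u w : List ℕ} (hu : (u.all fun i => Nat.blt i 9) = true) (hw : (w.all fun i => Nat.blt i 9) = true)
    (h : imgsN u = imgsN w) : wPerm u = wPerm w := by
  refine Equiv.ext fun x => Fin.ext ?_
  rw [evN_spec u x hu, evN_spec w x hw]
  exact List.map_inj_left.1 h x.val (List.mem_range.2 x.isLt)

theorem sign_gPerm {i : ℕ} (hi : i < 9) : Perm.sign (gPerm i) = 1 := by
  revert i; decide +kernel

theorem sign_wPerm : ∀ (w : List ℕ), (w.all fun i => Nat.blt i 9) = true → Perm.sign (wPerm w) = 1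
  | [], _ => rfl
  | i :: w, h => by
    simp only [List.all_cons, Bool.and_eq_true, Nat.blt_eq] at h
    rw [wPerm_cons, map_mul, sign_gPerm h.1, sign_wPerm w h.2, one_mul]

/-- A generator of the Sylow subgroup as a word. -/
def genW (j : ℕ) : List ℕ := sylW.getD j []

/-- An element of the Sylow subgroup as a word. -/
def elW (k : ℕ) : List ℕ := (sylEls.getD k []).flatMap genW

theorem el_data : ((List.range 128).all fun k => ((elW k).all fun i => Nat.blt i 9) &&
      imgsN (elW k) == sylImgs.getD k [] && (sylEls.getD k []).all fun j => Nat.blt j 3) = true ∧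
    ((List.range 3).all fun j => (genW j).all fun i => Nat.blt i 9) = true ∧
    sylImgs.Nodup ∧ sylImgs.length = 128 ∧ elW 0 = [] ∧
    ((List.range 128).all fun k => (List.range 3).all fun j => Nat.blt ((sylSucc.getD k []).getD j 128) 128 &&
      imgsN (elW k ++ genW j) == sylImgs.getD ((sylSucc.getD k []).getD j 128) []) = true := by
  decide +kernel

theorem elW_ok {k : ℕ} (hk : k < 128) : ((elW k).all fun i => Nat.blt i 9) = true := by
  have := List.all_eq_true.1 el_data.1 k (List.mem_range.2 hk)
  simp only [Bool.and_eq_true] at this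
  exact this.1.1

theorem genW_ok {j : ℕ} (hj : j < 3) : ((genW j).all fun i => Nat.blt i 9) = true :=
  List.all_eq_true.1 el_data.2.1 j (List.mem_range.2 hj)

theorem el_img {k : ℕ} (hk : k < 128) : imgsN (elW k) = sylImgs.getD k [] := by
  have := List.all_eq_true.1 el_data.1 k (List.mem_range.2 hk)
  simp only [Bool.and_eq_true, beq_iff_eq] at this
  exact this.1.2

/-- The Sylow subgroup of permutations. -/
def P11 : Subgroup (Perm (Fin 11)) := Subgroup.closure {p | ∃ j < 3, wPerm (genW j) = p}

theorem mem_P11 {k : ℕ} (hk : k < 128) : wPerm (elW k) ∈ P11 := by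
  have h := List.all_eq_true.1 el_data.1 k (List.mem_range.2 hk)
  simp only [Bool.and_eq_true] at h
  have hl := h.2
  rw [elW]
  generalize sylEls.getD k [] = l at hl
  induction l with
  | nil => exact one_mem _
  | cons j l ih =>
    simp only [List.all_cons, Bool.and_eq_true, Nat.blt_eq] at hl
    rw [List.flatMap_cons, wPerm_append]
    exact mul_mem (Subgroup.subset_closure ⟨j, hl.1, rfl⟩) (ih hl.2)

theorem exhaust {p : Perm (Fin 11)} (hp : p ∈ P11) : ∃ k < 128, p = wPerm (elW k) := by
  have step : ∀ k < 128, ∀ j < 3, ∃ l < 128, wPerm (elW k) * wPerm (genW j) = wPerm (elW l) := by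
    intro k hk j hj
    have h := List.all_eq_true.1 (List.all_eq_true.1 el_data.2.2.2.2.2 k (List.mem_range.2 hk)) j (List.mem_range.2 hj)
    simp only [Bool.and_eq_true, Nat.blt_eq, beq_iff_eq] at h
    refine ⟨_, h.1, ?_⟩
    rw [← wPerm_append]
    exact perm_ext (by rw [List.all_append, elW_ok hk, genW_ok hj]; rfl) (elW_ok h.1) (by rw [h.2, el_img h.1])
  have hmul : ∀ q ∈ P11, ∀ r, (∃ k < 128, r = wPerm (elW k)) → ∃ k < 128, r * q = wPerm (elW k) := by
    intro q hq
    rw [← Subgroup.mem_toSubmonoid, P11, Subgroup.closure_toSubmonoid_of_finite] at hq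
    induction hq using Submonoid.closure_induction with
    | mem x hx =>
      obtain ⟨j, hj, rfl⟩ := hx
      rintro r ⟨k, hk, rfl⟩
      exact step k hk j hj
    | one => intro r hr; rwa [mul_one]
    | mul x y _ _ hx hy =>
      intro r hr
      rw [← mul_assoc]
      exact hy _ (hx r hr)
  obtain ⟨k, hk, h⟩ := hmul p hp 1 ⟨0, by norm_num, by rw [el_data.2.2.2.2.1]; rfl⟩
  exact ⟨k, hk, by rwa [one_mul] at h⟩

theorem P11_even {p : Perm (Fin 11)} (hp : p ∈ P11) : Perm.sign p = 1 := by
  obtain ⟨k, hk, rfl⟩ := exhaust hp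
  exact sign_wPerm _ (elW_ok hk)

theorem card_P11 : Nat.card P11 = 128 := by
  let φ : Fin 128 → P11 := fun k => ⟨wPerm (elW k), mem_P11 k.isLt⟩
  have hb : Function.Bijective φ := by
    constructor
    · intro i j e
      have e' : wPerm (elW i) = wPerm (elW j) := congrArg Subtype.val e
      have h : imgsN (elW i) = imgsN (elW j) := by
        refine List.map_inj_left.2 fun x hx => ?_
        have hx' := List.mem_range.1 hx
        rw [← evN_spec _ ⟨x, hx'⟩ (elW_ok i.isLt), ← evN_spec _ ⟨x, hx'⟩ (elW_ok j.isLt), e']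
      rw [el_img i.isLt, el_img j.isLt] at h
      have hl := el_data.2.2.2.1
      rw [List.getD_eq_getElem _ _ (by omega), List.getD_eq_getElem _ _ (by omega)] at h
      exact Fin.ext (el_data.2.2.1.getElem_inj_iff.1 h)
    · rintro ⟨p, hp⟩
      obtain ⟨k, hk, rfl⟩ := exhaust hp
      exact ⟨⟨k, hk⟩, rfl⟩
  rw [← Nat.card_eq_of_bijective φ hb, Nat.card_eq_fintype_card, Fintype.card_fin]

theorem central_data : ((List.range 128).all fun k => Nat.beq k 0 || Nat.beq k 127 ||
    (List.range 3).any fun j => !(imgsN (elW k ++ genW j) == imgsN (genW j ++ elW k))) = true := by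
  decide +kernel

theorem center_P11 {p : Perm (Fin 11)} (hp : p ∈ P11) (h : ∀ j < 3, p * wPerm (genW j) = wPerm (genW j) * p) :
    p = 1 ∨ p = wPerm (elW 127) := by
  obtain ⟨k, hk, rfl⟩ := exhaust hp
  have hc := List.all_eq_true.1 central_data k (List.mem_range.2 hk)
  simp only [Bool.or_eq_true, List.any_eq_true, List.mem_range, Bool.not_eq_true', beq_eq_false_iff_ne] at hc
  rcases hc with (hc | hc) | ⟨j, hj, hne⟩
  · rw [Nat.eq_of_beq_eq_true hc, el_data.2.2.2.2.1]
    exact Or.inl rfl
  · rw [Nat.eq_of_beq_eq_true hc]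
    exact Or.inr rfl
  · refine absurd (List.map_inj_left.2 fun x hx => ?_) hne
    have hx' := List.mem_range.1 hx
    rw [← evN_spec _ ⟨x, hx'⟩ (by rw [List.all_append, elW_ok hk, genW_ok hj]; rfl),
      ← evN_spec _ ⟨x, hx'⟩ (by rw [List.all_append, elW_ok hk, genW_ok hj]; rfl), wPerm_append, wPerm_append, h j hj]

theorem pair_orbit : ((List.range 11).all fun x => (List.range 11).all fun y =>
    !(((List.range 128).all fun k => Nat.beq ((sylImgs.getD k []).getD x 11) x || Nat.beq ((sylImgs.getD k []).getD x 11) y) &&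
      (List.range 128).any fun k => !(Nat.beq ((sylImgs.getD k []).getD x 11) x)) ||
      (Nat.beq x 8 && Nat.beq y 9) || (Nat.beq x 9 && Nat.beq y 8)) = true := by
  decide +kernel

theorem eight_data : ((List.range 128).all fun k => Nat.beq ((sylImgs.getD k []).getD 8 11) 8 ||
      Nat.beq ((sylImgs.getD k []).getD 8 11) 9) = true ∧ imgsN (genW 0) = [1, 0, 2, 3, 4, 5, 6, 7, 9, 8, 10] ∧
    ((List.range 3).all fun j => (List.range 11).all fun x =>
      Nat.beq (evN (genW j) (sN 8 x)) (sN 8 (evN (genW j) x))) = true := by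
  decide +kernel

theorem el_apply {k : ℕ} (hk : k < 128) (x : Fin 11) : (wPerm (elW k) x).val = (sylImgs.getD k []).getD x.val 11 := by
  rw [evN_spec _ x (elW_ok hk), ← el_img hk, imgsN, List.getD_eq_getElem _ _ (by simp)]
  simp

theorem normalizer_P11 {g : Perm (Fin 11)} (hg : g ∈ Subgroup.normalizer (P11 : Set (Perm (Fin 11))))
    (hsg : Perm.sign g = 1) : g ∈ P11 := by
  have hg1 : ∀ p ∈ P11, g * p * g⁻¹ ∈ P11 := fun p hp => (Subgroup.mem_normalizer_iff.1 hg p).1 hp
  have hg2 : ∀ p ∈ P11, g⁻¹ * p * g ∈ P11 := fun p hp => (Subgroup.mem_normalizer_iff.1 hg _).2 (by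
    rw [show g * (g⁻¹ * p * g) * g⁻¹ = p by group]; exact hp)
  have h8 : ∀ p ∈ P11, p 8 = 8 ∨ p 8 = 9 := fun p hp => by
    obtain ⟨k, hk, rfl⟩ := exhaust hp
    have := List.all_eq_true.1 eight_data.1 k (List.mem_range.2 hk)
    simp only [Bool.or_eq_true] at this
    exact this.imp (fun h => Fin.ext (by rw [el_apply hk]; exact Nat.eq_of_beq_eq_true h))
      (fun h => Fin.ext (by rw [el_apply hk]; exact Nat.eq_of_beq_eq_true h))
  have ha : wPerm (genW 0) 8 = 9 := by
    refine Fin.ext ?_
    rw [evN_spec _ _ (genW_ok (by norm_num))]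
    have := congrArg (fun l => l.getD 8 11) eight_data.2.1
    simpa [imgsN, List.range_succ] using this
  have hxy : ({g 8, g 9} : Finset (Fin 11)) = {8, 9} := by
    have h := List.all_eq_true.1 (List.all_eq_true.1 pair_orbit (g 8).val (List.mem_range.2 (g 8).isLt)) (g 9).val
      (List.mem_range.2 (g 9).isLt)
    have hA : ((List.range 128).all fun k => Nat.beq ((sylImgs.getD k []).getD (g 8).val 11) (g 8).val ||
        Nat.beq ((sylImgs.getD k []).getD (g 8).val 11) (g 9).val) = true := by
      refine List.all_eq_true.2 fun k hk => ?_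
      have hk' := List.mem_range.1 hk
      have hq := h8 _ (hg2 _ (mem_P11 hk'))
      rw [← el_apply hk', Bool.or_eq_true]
      simp only [Perm.mul_apply] at hq
      rcases hq with hq | hq
      · left
        rw [show wPerm (elW k) (g 8) = g 8 by simpa using congrArg g hq]
        exact Nat.beq_refl _
      · right
        rw [show wPerm (elW k) (g 8) = g 9 by simpa using congrArg g hq]
        exact Nat.beq_refl _
    obtain ⟨k, hk, ek⟩ := exhaust (hg1 _ (Subgroup.subset_closure ⟨0, by norm_num, rfl⟩))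
    have hB : ((List.range 128).any fun k => !(Nat.beq ((sylImgs.getD k []).getD (g 8).val 11) (g 8).val)) = true := by
      refine List.any_eq_true.2 ⟨k, List.mem_range.2 hk, ?_⟩
      rw [← el_apply hk, ← ek, Bool.not_eq_true', Bool.eq_false_iff]
      intro e
      have e' : (g * wPerm (genW 0) * g⁻¹) (g 8) = g 8 := Fin.ext (Nat.eq_of_beq_eq_true e)
      simp [ha] at e'
    rw [hA, hB] at h
    simp only [Bool.and_self, Bool.not_true, Bool.false_or, Bool.or_eq_true, Bool.and_eq_true] at h
    rcases h with ⟨a, b⟩ | ⟨a, b⟩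
    · rw [show g 8 = 8 from Fin.ext (Nat.eq_of_beq_eq_true a), show g 9 = 9 from Fin.ext (Nat.eq_of_beq_eq_true b)]
    · rw [show g 8 = 9 from Fin.ext (Nat.eq_of_beq_eq_true a), show g 9 = 8 from Fin.ext (Nat.eq_of_beq_eq_true b)]
      exact Finset.pair_comm _ _
  let τ : Perm (Fin 11) := swap 8 9
  have hgτ : g * τ * g⁻¹ = τ := by
    rw [← Equiv.swap_apply_apply]
    have h1 : g 8 ∈ ({8, 9} : Finset (Fin 11)) := hxy ▸ Finset.mem_insert_self _ _
    have h2 : g 9 ∈ ({8, 9} : Finset (Fin 11)) := hxy ▸ Finset.mem_insert_of_mem (Finset.mem_singleton_self _)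
    simp only [Finset.mem_insert, Finset.mem_singleton] at h1 h2
    rcases h1 with h1 | h1 <;> rcases h2 with h2 | h2 <;> rw [h1, h2]
    · exact absurd (g.injective (h1.trans h2.symm)) (by decide)
    · exact Equiv.swap_comm _ _
    · exact absurd (g.injective (h1.trans h2.symm)) (by decide)
  have hτP : ∀ p ∈ P11, τ * p = p * τ := by
    intro p hp
    have hle : P11 ≤ Subgroup.centralizer {τ} := by
      refine (Subgroup.closure_le _).2 ?_
      rintro _ ⟨j, hj, rfl⟩
      rw [SetLike.mem_coe, Subgroup.mem_centralizer_singleton_iff]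
      refine Equiv.ext fun x => Fin.ext ?_
      have hh := List.all_eq_true.1 (List.all_eq_true.1 eight_data.2.2 j (List.mem_range.2 hj)) x.val (List.mem_range.2 x.isLt)
      have hs : ∀ y : Fin 11, (τ y).val = sN 8 y.val := fun y => sN_spec ⟨8, by norm_num⟩ y
      rw [Perm.mul_apply, Perm.mul_apply, evN_spec _ _ (genW_ok hj), hs, hs, evN_spec _ _ (genW_ok hj)]
      exact Nat.eq_of_beq_eq_true hh
    exact (Subgroup.mem_centralizer_singleton_iff.1 (hle hp)).symm
  have hττ : τ * τ = 1 := Equiv.swap_mul_self _ _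
  have hsτ : Perm.sign τ = -1 := Perm.sign_swap (by decide)
  let Q : Subgroup (Perm (Fin 11)) :=
    { carrier := {x | x ∈ P11 ∨ x * τ ∈ P11}
      one_mem' := Or.inl (one_mem _)
      mul_mem' := fun {a b} ha hb => by
        rcases ha with ha | ha <;> rcases hb with hb | hb
        · exact Or.inl (mul_mem ha hb)
        · exact Or.inr (by rw [mul_assoc]; exact mul_mem ha hb)
        · refine Or.inr ?_
          rw [mul_assoc, ← hτP b hb, ← mul_assoc]
          exact mul_mem ha hb
        · refine Or.inl ?_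
          have := mul_mem ha hb
          rwa [show a * τ * (b * τ) = a * (τ * (b * τ)) by group, hτP _ hb, mul_assoc b, hττ, mul_one] at this
      inv_mem' := fun {a} ha => by
        rcases ha with ha | ha
        · exact Or.inl (inv_mem ha)
        · refine Or.inr ?_
          have h1 := inv_mem ha
          have h2 := hτP _ h1
          rw [mul_inv_rev, inv_eq_of_mul_eq_one_left hττ, ← mul_assoc, hττ, one_mul] at h2
          rw [h2, ← inv_eq_of_mul_eq_one_left hττ, ← mul_inv_rev]
          simpa [inv_eq_of_mul_eq_one_left hττ, hττ, mul_assoc] using h1 }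
  have hQ : Nat.card Q = 2 ^ 8 := by
    let φ : P11 × Fin 2 → Q := fun z => ⟨z.1.1 * τ ^ z.2.val, by
      obtain ⟨⟨p, hp⟩, i⟩ := z
      fin_cases i
      · exact Or.inl (by simpa using hp)
      · exact Or.inr (by simpa [mul_assoc, hττ] using hp)⟩
    have hb : Function.Bijective φ := by
      constructor
      · rintro ⟨⟨p, hp⟩, i⟩ ⟨⟨q, hq⟩, j⟩ e
        have e' : p * τ ^ i.val = q * τ ^ j.val := congrArg Subtype.val e
        have es := congrArg Perm.sign e'
        rw [map_mul, map_mul, map_pow, map_pow, P11_even hp, P11_even hq, hsτ, one_mul, one_mul] at es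
        obtain rfl : i = j := by fin_cases i <;> fin_cases j <;> simp_all
        simp [mul_right_cancel e']
      · rintro ⟨x, hx | hx⟩
        · exact ⟨(⟨x, hx⟩, 0), Subtype.ext (by simp [φ])⟩
        · exact ⟨(⟨x * τ, hx⟩, 1), Subtype.ext (by simp [φ, mul_assoc, hττ])⟩
    rw [← Nat.card_eq_of_bijective φ hb, Nat.card_prod, card_P11, Nat.card_eq_fintype_card, Fintype.card_fin]
    norm_num
  haveI : Fact (Nat.Prime 2) := ⟨Nat.prime_two⟩
  let Qs : Sylow 2 (Perm (Fin 11)) := Sylow.ofCard Q (by
    rw [hQ, Nat.card_perm, Nat.card_fin]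
    congr 1
    rw [show Nat.factorial 11 = 2 ^ 8 * 155925 by norm_num [Nat.factorial], Nat.factorization_mul (by norm_num) (by norm_num),
      Nat.Prime.factorization_pow Nat.prime_two, Finsupp.add_apply, Finsupp.single_eq_same,
      Nat.factorization_eq_zero_of_not_dvd (by norm_num)])
  have hgQ : g ∈ Subgroup.normalizer (Q : Set (Perm (Fin 11))) := by
    refine Subgroup.mem_normalizer_iff.2 fun x => ?_
    have key : g * x * g⁻¹ * τ = g * (x * τ) * g⁻¹ := by
      conv_lhs => rw [← hgτ]
      group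
    show (x ∈ P11 ∨ x * τ ∈ P11) ↔ (g * x * g⁻¹ ∈ P11 ∨ g * x * g⁻¹ * τ ∈ P11)
    rw [key, Subgroup.mem_normalizer_iff.1 hg x, Subgroup.mem_normalizer_iff.1 hg (x * τ)]
  have hmem : g ∈ Q := Cfsg.Lib.Fusion.AltSimple.normalizer_sylow_perm 11 Qs hgQ
  rcases hmem with h | h
  · exact h
  · have := P11_even h
    rw [map_mul, hsg, hsτ] at this
    exact absurd this (by decide)

end Cfsg.Lib.LyPres.Eleven
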