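import Cfsg.Agent.LyPres.Cosets

/-!
A set of cosets closed under z bounds the index.
-/

set_option autoImplicit false

namespace Cfsg.Lib.LyPres

open Cfsg.Spor

theorem top_KL_z : Subgroup.closure ((KL : Set Spor.Ly) ∪ {zL}) = ⊤ := by
  set T := Subgroup.closure ((KL : Set Spor.Ly) ∪ {zL})
  have hw : (List.range 39).all (fun k => Nat.beq k 4 || relWords.any (fun r => match r with
      | [] => false
      | l :: rest => l == 2 * k && rest.all fun a => nine.contains (a / 2) || Nat.beq (a / 2) 10) ||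
      nine.contains k) = true := by decide +kernel
  have h9 : ∀ a ∈ nine, g39 a ∈ T := fun a ha => by
    refine Subgroup.subset_closure (Or.inl ⟨fgen (nine.idxOf a), ?_⟩)
    rw [toLy_gen (k := nine.idxOf a) (List.idxOf_lt_length_of_mem ha), ly9,
      List.getD_eq_getElem _ _ (List.idxOf_lt_length_of_mem ha), List.getElem_idxOf]
  have hmem : ∀ k < 39, g39 k ∈ T := by
    intro k hk
    have h := List.all_eq_true.1 hw k (List.mem_range.2 hk)
    simp only [Bool.or_eq_true, List.any_eq_true, List.contains_iff_mem] at h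
    rcases h with (h | ⟨r, hr, h⟩) | h
    · rw [Nat.eq_of_beq_eq_true h]
      exact Subgroup.subset_closure (Or.inr rfl)
    · cases r with
      | nil => exact Bool.noConfusion h
      | cons l rest =>
        simp only [Bool.and_eq_true, beq_iff_eq, List.all_eq_true, Bool.or_eq_true, List.contains_iff_mem] at h
        obtain ⟨rfl, h⟩ := h
        have e := g39_rels _ hr
        rw [show 2 * k :: rest = [2 * k] ++ rest from rfl, wval_append] at e
        have hk' : wval g39 [2 * k] = g39 k := by simp [wval]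
        rw [hk'] at e
        rw [eq_inv_of_mul_eq_one_left e]
        refine inv_mem (list_prod_mem fun g hg => ?_)
        obtain ⟨a, ha, rfl⟩ := List.mem_map.1 hg
        have hm : g39 (a / 2) ∈ T := by
          rcases h a ha with h1 | h1
          · exact h9 _ h1
          · rw [Nat.eq_of_beq_eq_true h1, c1_eq]
            exact h9 2 (by decide)
        cases a % 2 == 0
        · exact inv_mem hm
        · exact hm
    · exact h9 k h
  rw [eq_top_iff, ← PresentedGroup.closure_range_of lyRels, Subgroup.closure_le]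
  rintro _ ⟨g, rfl⟩
  have hg : genAt (genList.idxOf g) = g ∧ genList.idxOf g < 39 := by
    cases g <;> decide +kernel
  have := hmem _ hg.2
  rwa [g39, hg.1] at this

theorem inO_all {live : List ℕ} (h0 : 0 ∈ live)
    (hcl : ∀ n ∈ live, ∀ a : F, InO live (crt.v n * toLy a * zL)) : ∀ g : Spor.Ly, InO live g := by
  have hzinv : ∀ w, InO live w → InO live (w * zL⁻¹) := by
    intro w h
    have e : zL⁻¹ = toLy (wval fgen [1, 1]) * zL := by
      refine (eq_inv_of_mul_eq_one_left ?_).symm
      rw [mul_assoc, z_sq, ← map_mul]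
      simp [wval]
    rw [e, ← mul_assoc]
    obtain ⟨n, hn, a, e'⟩ := h.mul_f (wval fgen [1, 1])
    exact (hcl n hn a).congr (e'.mul_right zL)
  have hL : ∀ g : Spor.Ly, ∀ w, (InO live w → InO live (w * g)) ∧ (InO live w → InO live (w * g⁻¹)) := by
    intro g
    have hg : g ∈ Subgroup.closure ((KL : Set Spor.Ly) ∪ {zL}) := top_KL_z ▸ Subgroup.mem_top g
    induction hg using Subgroup.closure_induction with
    | mem x hx =>
      intro w
      rcases hx with ⟨a, rfl⟩ | rfl
      · exact ⟨fun h => h.mul_f a, fun h => by rw [← map_inv]; exact h.mul_f a⁻¹⟩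
      · exact ⟨fun ⟨n, hn, a, e⟩ => (hcl n hn a).congr (e.mul_right zL), hzinv w⟩
    | one => intro w; simp
    | mul x y _ _ hx hy =>
      intro w
      exact ⟨fun h => by rw [← mul_assoc]; exact (hy _).1 ((hx w).1 h),
        fun h => by rw [mul_inv_rev, ← mul_assoc]; exact (hx _).2 ((hy w).2 h)⟩
    | inv x _ hx =>
      intro w
      exact ⟨(hx w).2, fun h => by rw [inv_inv]; exact (hx w).1 h⟩
  have hmem : ∀ g, InO live g := fun g => by
    have h1 : InO live 1 := ⟨0, h0, 1, by rw [crt_v0, map_one, mul_one]; exact Eqv.refl _⟩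
    simpa using (hL g 1).1 h1
  exact hmem

theorem index_le {live : List ℕ} (hnd : live.Nodup) (h0 : 0 ∈ live)
    (hcl : ∀ n ∈ live, ∀ a : F, InO live (crt.v n * toLy a * zL)) (ord : ℕ → ℕ) (G : ℕ → Subgroup F)
    (hord : ∀ n ∈ live, 0 < ord n ∧ ord n ≤ Nat.card (G n))
    (hG : ∀ n ∈ live, ∀ s ∈ G n, Eqv (crt.v n * toLy s) (crt.v n)) :
    KL.index ≠ 0 ∧ KL.index ≤ (live.map fun n => 5859000000 / ord n).sum := by
  classical
  haveI := card_F.1
  have hmem := inO_all h0 hcl
  let Φ : (Σ n : {n // n ∈ live}, F ⧸ G n.1) → Spor.Ly ⧸ KL := fun z =>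
    Quotient.liftOn' z.2 (fun a => ((toLy a * (crt.v z.1.1)⁻¹ : Spor.Ly) : Spor.Ly ⧸ KL)) fun a b hab => by
      rw [QuotientGroup.leftRel_apply] at hab
      rw [QuotientGroup.eq]
      have h := (hG _ z.1.2 _ hab)
      have : crt.v z.1.1 * toLy (a⁻¹ * b) * (crt.v z.1.1)⁻¹ ∈ KL := h
      simpa [mul_assoc] using this
  haveI : Finite (Σ n : {n // n ∈ live}, F ⧸ G n.1) := inferInstance
  have hsurj : Function.Surjective Φ := by
    intro q
    refine Quotient.inductionOn' q fun g => ?_
    obtain ⟨n, hn, a, ha⟩ := hmem g⁻¹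
    refine ⟨⟨⟨n, hn⟩, ((a⁻¹ : F) : F ⧸ G n)⟩, ?_⟩
    show ((toLy a⁻¹ * (crt.v n)⁻¹ : Spor.Ly) : Spor.Ly ⧸ KL) = (g : Spor.Ly ⧸ KL)
    rw [QuotientGroup.eq, mul_inv_rev, inv_inv, ← map_inv, inv_inv]
    have h := ha.symm
    simpa [Eqv, mul_assoc] using h
  haveI : Finite (Spor.Ly ⧸ KL) := Finite.of_surjective Φ hsurj
  rw [Subgroup.index]
  refine ⟨Nat.card_ne_zero.2 ⟨⟨(1 : Spor.Ly)⟩, inferInstance⟩, ?_⟩
  refine (Nat.card_le_card_of_surjective Φ hsurj).trans ?_
  haveI : Fintype {n // n ∈ live} := Fintype.ofFinite _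
  rw [Nat.card_sigma, ← List.sum_toFinset _ hnd,
    ← Finset.sum_attach live.toFinset (fun n => 5859000000 / ord n)]
  refine le_trans (le_of_eq ?_) (Finset.sum_le_sum (f := fun n => Nat.card (F ⧸ G n.1)) fun n _ => ?_)
  · refine Finset.sum_bij (fun n _ => ⟨n.1, List.mem_toFinset.2 n.2⟩) (by simp) ?_ ?_ (by simp)
    · intro a _ b _ h; exact Subtype.ext (congrArg Subtype.val h :)
    · intro b _; exact ⟨⟨b.1, List.mem_toFinset.1 b.2⟩, Finset.mem_univ _, rfl⟩
  · obtain ⟨h1, h2⟩ := hord n.1 (List.mem_toFinset.1 n.2)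
    have h3 := Subgroup.card_mul_index (G n.1)
    rw [card_F_eq] at h3
    show (G n.1).index ≤ _
    rw [Nat.le_div_iff_mul_le h1, ← h3, mul_comm]
    exact Nat.mul_le_mul_right _ h2

end Cfsg.Lib.LyPres
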