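import Cfsg.Agent.LyPres.Eqs
import Cfsg.Agent.LyPres.CertData

/-!
All facts of the certificate hold.
-/

set_option autoImplicit false
set_option Elab.async false

namespace Cfsg.Lib.LyPres

/-- The certificate. -/
def crt : Crt := ⟨factAt, srcAt, certDefs, certEqs⟩

theorem crtDefs_ok : ((List.range crt.defs.length).all fun m => Nat.ble (crt.defs.getD m (0, [])).1 m) = true := by
  decide +kernel

theorem crt0 : crt.okRange 0 80 = true := by decide +kernel

theorem crt1 : crt.okRange 80 80 = true := by decide +kernel

theorem crt2 : crt.okRange 160 80 = true := by decide +kernel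

theorem crt3 : crt.okRange 240 80 = true := by decide +kernel

theorem crt4 : crt.okRange 320 47 = true := by decide +kernel

/-- The number of facts. -/
def certN : ℕ := 367

theorem crt_all : crt.okRange 0 certN = true := by
  simp only [Crt.okRange, certN, List.all_eq_true, List.mem_range'_1] at *
  intro m hm
  rcases lt_or_ge m 80 with h0 | h0
  · exact List.all_eq_true.1 crt0 m (List.mem_range'_1.2 ⟨by omega, by omega⟩)
  rcases lt_or_ge m 160 with h1 | h1
  · exact List.all_eq_true.1 crt1 m (List.mem_range'_1.2 ⟨by omega, by omega⟩)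
  rcases lt_or_ge m 240 with h2 | h2
  · exact List.all_eq_true.1 crt2 m (List.mem_range'_1.2 ⟨by omega, by omega⟩)
  rcases lt_or_ge m 320 with h3 | h3
  · exact List.all_eq_true.1 crt3 m (List.mem_range'_1.2 ⟨by omega, by omega⟩)
  exact List.all_eq_true.1 crt4 m (List.mem_range'_1.2 ⟨by omega, by omega⟩)

theorem crt_defs : ∀ m < crt.defs.length, (crt.defs.getD m (0, [])).1 ≤ m := fun m hm => by
  have := List.all_eq_true.1 crtDefs_ok m (List.mem_range.2 hm)
  rwa [Nat.ble_eq] at this

theorem crt_fok : ∀ m < certN, crt.FOK (crt.fact m) := facts_sound crt_defs certEqs_ok crt_all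

theorem crt_v0 : crt.v 0 = 1 := (crt.vals_spec crt_defs).1

end Cfsg.Lib.LyPres
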