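import Cfsg.Agent.LyPres.Cov12Run

/-!
The checks of the covering.
-/

set_option autoImplicit false
set_option maxRecDepth 100000
set_option maxHeartbeats 4000000
set_option Elab.async false

namespace Cfsg.Lib.LyPres

theorem cov12Orb_ok0 : cov12Orb.okRange 0 1000 = true := by decide +kernel

theorem cov12Orb_ok1 : cov12Orb.okRange 1000 8 = true := by decide +kernel

theorem cov12Orb_all : cov12Orb.okRange 0 1008 = true :=
  (okRange_cat cov12Orb (a := 0) (b := 1000) (k := 1000) (c := 8) (n := 1008) (by decide +kernel) (by decide +kernel) cov12Orb_ok0 cov12Orb_ok1)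

theorem cov12Orb_distinct : cov12Orb.colsDistinct 1008 0 = true := by decide +kernel

theorem cov12_facts : cov12.factsOK [0, 1, 6, 9, 12] = true := by decide +kernel

end Cfsg.Lib.LyPres
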