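import Cfsg.Agent.LyPres.Cov1Run

/-!
The checks of the covering.
-/

set_option autoImplicit false
set_option maxRecDepth 100000
set_option maxHeartbeats 4000000
set_option Elab.async false

namespace Cfsg.Lib.LyPres

theorem cov1_facts : cov1.factsOK [0, 1, 6, 9, 12] = true := by decide +kernel

end Cfsg.Lib.LyPres
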