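import Cfsg.Agent.LyPres.Cov6Run

/-!
The checks of the covering.
-/

set_option autoImplicit false
set_option maxRecDepth 100000
set_option maxHeartbeats 4000000
set_option Elab.async false

namespace Cfsg.Lib.LyPres

theorem cov6Orb_ok0 : cov6Orb.okRange 0 1000 = true := by decide +kernel

theorem cov6Orb_ok1 : cov6Orb.okRange 1000 1000 = true := by decide +kernel

theorem cov6Orb_ok2 : cov6Orb.okRange 2000 1000 = true := by decide +kernel

theorem cov6Orb_ok3 : cov6Orb.okRange 3000 1000 = true := by decide +kernel

theorem cov6Orb_ok4 : cov6Orb.okRange 4000 1000 = true := by decide +kernel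

theorem cov6Orb_ok5 : cov6Orb.okRange 5000 1000 = true := by decide +kernel

theorem cov6Orb_ok6 : cov6Orb.okRange 6000 48 = true := by decide +kernel

theorem cov6Orb_all : cov6Orb.okRange 0 6048 = true :=
  (okRange_cat cov6Orb (a := 0) (b := 1000) (k := 1000) (c := 5048) (n := 6048) (by decide +kernel) (by decide +kernel) cov6Orb_ok0 (okRange_cat cov6Orb (a := 1000) (b := 1000) (k := 2000) (c := 4048) (n := 5048) (by decide +kernel) (by decide +kernel) cov6Orb_ok1 (okRange_cat cov6Orb (a := 2000) (b := 1000) (k := 3000) (c := 3048) (n := 4048) (by decide +kernel) (by decide +kernel) cov6Orb_ok2 (okRange_cat cov6Orb (a := 3000) (b := 1000) (k := 4000) (c := 2048) (n := 3048) (by decide +kernel) (by decide +kernel) cov6Orb_ok3 (okRange_cat cov6Orb (a := 4000) (b := 1000) (k := 5000) (c := 1048) (n := 2048) (by decide +kernel) (by decide +kernel) cov6Orb_ok4 (okRange_cat cov6Orb (a := 5000) (b := 1000) (k := 6000) (c := 48) (n := 1048) (by decide +kernel) (by decide +kernel) cov6Orb_ok5 cov6Orb_ok6))))))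

theorem cov6Orb_distinct : cov6Orb.colsDistinct 6048 0 = true := by decide +kernel

theorem cov6_facts : cov6.factsOK [0, 1, 6, 9, 12] = true := by decide +kernel

end Cfsg.Lib.LyPres
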