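import Cfsg.Agent.LyPres.Cov9Run

/-!
The checks of the covering.
-/

set_option autoImplicit false
set_option maxRecDepth 100000
set_option maxHeartbeats 4000000
set_option Elab.async false

namespace Cfsg.Lib.LyPres

theorem cov9Orb_ok0 : cov9Orb.okRange 0 1000 = true := by decide +kernel

theorem cov9Orb_ok1 : cov9Orb.okRange 1000 1000 = true := by decide +kernel

theorem cov9Orb_ok2 : cov9Orb.okRange 2000 880 = true := by decide +kernel

theorem cov9Orb_all : cov9Orb.okRange 0 2880 = true :=
  (okRange_cat cov9Orb (a := 0) (b := 1000) (k := 1000) (c := 1880) (n := 2880) (by decide +kernel) (by decide +kernel) cov9Orb_ok0 (okRange_cat cov9Orb (a := 1000) (b := 1000) (k := 2000) (c := 880) (n := 1880) (by decide +kernel) (by decide +kernel) cov9Orb_ok1 cov9Orb_ok2))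

theorem cov9Orb_distinct : cov9Orb.colsDistinct 2880 0 = true := by decide +kernel

theorem cov9_facts : cov9.factsOK [0, 1, 6, 9, 12] = true := by decide +kernel

end Cfsg.Lib.LyPres
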