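import Cfsg.Agent.LyPres.LSub

/-!
The elements behind the points of an orbit, and a bound on the elements of square one.
-/

set_option autoImplicit false

namespace Cfsg.Lib.LyPres

/-- The element leading to a point along the parents. -/
def Orb.el (O : Orb) : ℕ → ℕ → List ℕ
  | 0, _ => idMat 7
  | f + 1, k => bif Nat.beq k 0 then idMat 7
    else mmul 7 (O.gens.getD (O.at' k).2.2 []) (O.el f (O.at' k).2.1)

/-- The element leads to the point, in two hundred steps at most. -/
def Orb.elOK (O : Orb) (k : ℕ) : Bool := mmul 7 (O.el 200 k) O.start == (O.at' k).1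

/-- The element takes its point back to the start. -/
def Orb.sqBack (O : Orb) (k : ℕ) : Bool := mmul 7 (O.el 200 k) (O.at' k).1 == O.start

/-- Few points of a range go back to the start. -/
def Orb.sqCheck (O : Orb) (lo len c : ℕ) : Bool :=
  (List.range' lo len).all O.elOK && Nat.ble ((List.range' lo len).countP O.sqBack) c

theorem sqCheck_cat (O : Orb) {a b k c n p q r : ℕ} (hk : a + b = k) (hn : b + c = n) (hr : p + q = r)
    (h1 : O.sqCheck a b p = true) (h2 : O.sqCheck k c q = true) : O.sqCheck a n r = true := by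
  subst hk hn hr
  simp only [Orb.sqCheck, Bool.and_eq_true, Nat.ble_eq] at *
  rw [← List.range'_append_1, List.all_append, h1.1, h2.1, List.countP_append]
  exact ⟨rfl, Nat.add_le_add h1.2 h2.2⟩

theorem Orb.el_mem (O : Orb) (S : Subgroup F) (hg : ∀ g < O.gens.length, ∃ a ∈ S, El (O.gens.getD g []) a)
    {n : ℕ} (h : O.okRange 0 n = true) : ∀ (f k : ℕ), k < n → ∃ s ∈ S, El (O.el f k) s
  | 0, _, _ => ⟨1, one_mem S, El.one⟩
  | f + 1, k, hk => by
    have hp := List.all_eq_true.1 h k (List.mem_range'_1.2 ⟨Nat.zero_le k, by omega⟩)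
    simp only [Orb.ptOK] at hp
    cases hb : Nat.beq k 0 with
    | true =>
      rw [Orb.el, hb, cond_true]
      exact ⟨1, one_mem S, El.one⟩
    | false =>
      rw [hb, cond_false] at hp
      simp only [Bool.and_eq_true, Nat.blt_eq] at hp
      obtain ⟨⟨hpar, hlt⟩, -⟩ := hp
      obtain ⟨s, hs, hE⟩ := O.el_mem S hg h f _ (hpar.trans hk)
      obtain ⟨a, ha, hA⟩ := hg _ hlt
      rw [Orb.el, hb, cond_false]
      exact ⟨a * s, mul_mem ha hs, hA.mul hE⟩

theorem card_sq_one_le (O : Orb) (S T : Subgroup F) [Finite S]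
    (hg : ∀ g < O.gens.length, ∃ a ∈ S, El (O.gens.getD g []) a) (h0 : matOK 7 O.start = true) {n c : ℕ}
    (h : O.okRange 0 n = true) (hinj : ∀ i < n, ∀ j < n, (O.at' i).1 = (O.at' j).1 → i = j)
    (hsq : O.sqCheck 0 n c = true) (hT : T ≤ S) (hfix : T ≤ fixer (toMat 7 O.start))
    (hfixP : ∀ k < n, T ≤ fixer (toMat 7 (O.at' k).1)) (hcard : n * Nat.card T = Nat.card S) :
    Nat.card {s : S // s * s = 1} ≤ c * Nat.card T := by
  classical
  haveI : Finite T := Finite.of_injective _ (Subgroup.inclusion_injective hT)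
  simp only [Orb.sqCheck, Bool.and_eq_true, List.all_eq_true, Nat.ble_eq] at hsq
  have hel := fun k (hk : k < n) => O.el_mem S hg h 200 k hk
  let f : ℕ → F := fun k => if hk : k < n then (hel k hk).choose else 1
  have hf : ∀ k < n, f k ∈ S ∧ El (O.el 200 k) (f k) := fun k hk => by
    simp only [f, dif_pos hk]; exact (hel k hk).choose_spec
  have hok : ∀ k < n, matOK 7 (O.at' k).1 = true := fun k hk => (O.reach S hg h0 h k hk).1
  have himg : ∀ k < n, img (f k) (toMat 7 O.start) = toMat 7 (O.at' k).1 := fun k hk => by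
    rw [img_el (hf k hk).2 h0, beq_iff_eq.1 (hsq.1 k (List.mem_range'_1.2 ⟨Nat.zero_le k, by omega⟩))]
  let φ : Fin n × T → S := fun z => ⟨f z.1 * z.2, mul_mem (hf _ z.1.isLt).1 (hT z.2.2)⟩
  have hφ : Function.Injective φ := by
    rintro ⟨i, t⟩ ⟨j, u⟩ e
    have e' : f i * (t : F) = f j * (u : F) := congrArg Subtype.val e
    have e2 := congrArg (fun g => img g (toMat 7 O.start)) e'
    simp only [img_mul, show img (t : F) (toMat 7 O.start) = toMat 7 O.start from hfix t.2,
      show img (u : F) (toMat 7 O.start) = toMat 7 O.start from hfix u.2, himg _ i.isLt, himg _ j.isLt] at e2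
    obtain rfl : i = j := Fin.ext (hinj _ i.isLt _ j.isLt (toMat_inj (hok _ i.isLt) (hok _ j.isLt) e2))
    simp only [Prod.mk.injEq, true_and]
    exact Subtype.ext (mul_left_cancel e')
  have hbij : Function.Bijective φ := (Nat.bijective_iff_injective_and_card φ).2 ⟨hφ, by
    rw [Nat.card_prod, Nat.card_eq_fintype_card (α := Fin n), Fintype.card_fin, hcard]⟩
  let K : Finset ℕ := (Finset.range n).filter fun k => O.sqBack k = true
  have hK : K.card ≤ c := by
    refine le_trans (le_of_eq ?_) hsq.2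
    rw [List.countP_eq_length_filter, ← List.toFinset_card_of_nodup ((List.nodup_range' (s := 0) (n := n)).filter _)]
    congr 1
    ext k
    simp [K, List.mem_range'_1]
  have hback : ∀ s : {s : S // s * s = 1}, ∃ z : Fin n × T, φ z = s.1 ∧ (z.1 : ℕ) ∈ K := by
    rintro ⟨s, hs⟩
    obtain ⟨⟨i, t⟩, rfl⟩ := hbij.2 s
    refine ⟨(i, t), rfl, Finset.mem_filter.2 ⟨Finset.mem_range.2 i.isLt, ?_⟩⟩
    have e : (f i * (t : F)) * (f i * (t : F)) = 1 := congrArg Subtype.val hs
    have e2 := congrArg (fun g => img g (toMat 7 O.start)) e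
    simp only [img_mul, img_one, show img (t : F) (toMat 7 O.start) = toMat 7 O.start from hfix t.2,
      himg _ i.isLt, show img (t : F) (toMat 7 (O.at' i).1) = toMat 7 (O.at' i).1 from hfixP _ i.isLt t.2,
      img_el (hf _ i.isLt).2 (hok _ i.isLt)] at e2
    exact beq_iff_eq.2 (toMat_inj (matOK_mmul (hf _ i.isLt).2.1) h0 e2)
  choose z hz hzK using hback
  refine le_trans (Nat.card_le_card_of_injective (fun s => ((⟨(z s).1, hzK s⟩ : K), (z s).2)) ?_) ?_
  · intro a b e
    simp only [Prod.mk.injEq, Subtype.mk.injEq] at e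
    refine Subtype.ext ((hz a).symm.trans (Eq.trans ?_ (hz b)))
    exact congrArg φ (Prod.ext (Fin.ext e.1) e.2)
  · rw [Nat.card_prod, Nat.card_eq_fintype_card (α := K), Fintype.card_coe]
    exact Nat.mul_le_mul_right _ hK

theorem fixer_frame {P : List ℕ} (hP : matOK 7 P = true) (h : mmul 7 frameP P = P) :
    fixer (toMat 7 frameP) ≤ fixer (toMat 7 P) := by
  intro s (hs : img s (toMat 7 frameP) = toMat 7 frameP)
  show img s (toMat 7 P) = toMat 7 P
  have e : toMat 7 P = toMat 7 frameP * toMat 7 P := by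
    rw [← toMat_mmul (by norm_num) (by decide +kernel) hP, h]
  conv_lhs => rw [e, img, ← mul_assoc]
  rw [← img, hs, ← e]

end Cfsg.Lib.LyPres
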