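import Cfsg.Agent.LyPres.Cert

/-!
Each relator of the presented Lyons group that contains z gives equations between products of elements of the
subgroup and z: one with no z singled out and one for each z.
-/

set_option autoImplicit false

namespace Cfsg.Lib.LyPres

open Cfsg.Spor

/-- The words on nine letters of the generators occurring with z. -/
def genWord : List (ℕ × List ℕ) :=
  [(9, [3, 3, 0, 2, 2]),
    (15, [0, 0]),
    (16, [6]),
    (17, [7]),
    (18, [2, 2, 1, 3, 1, 2, 2, 5, 0, 4, 1, 5, 6, 5, 2, 2, 1, 4, 2]),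
    (19, [0, 2, 1, 2, 2, 1, 2, 2, 5, 0, 4, 2, 4, 3, 6, 4, 3, 3, 6, 4, 2, 4]),
    (20, [5, 7, 1, 5, 1, 2, 5, 7]),
    (21, [2, 6]),
    (22, [7, 3]),
    (31, [1, 6, 3, 5, 1, 2, 5, 7, 2, 5, 3, 1, 5, 0, 3, 0, 2, 0, 3]),
    (32, [0, 3, 3, 1, 4, 2, 5, 2, 1, 5, 5, 6, 4, 0, 4, 1, 4, 3, 7]),
    (33, [2, 0, 3, 1, 3, 3, 1, 3, 4, 2, 2, 4, 2, 6, 4, 3, 3, 6, 4, 2, 4]),
    (34, [5, 3, 5, 7, 2, 2, 5, 7, 3, 5, 3, 3, 5, 2, 0, 2, 2, 0, 2, 1, 3]),
    (35, [1, 5, 7, 0, 5, 3, 0, 5, 7, 1, 5, 0, 4, 3, 3, 5, 3, 1, 3, 3]),
    (36, [1, 5, 7, 2, 1, 3, 5, 7, 2, 1, 3, 5, 3, 0, 3, 3, 0, 3]),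
    (37, [7, 0, 4, 2, 4, 1, 5, 7, 0, 3, 1, 4, 1, 3, 3, 1, 2, 1]),
    (38, [5, 1, 4, 2, 5, 7, 4, 1, 4, 0, 4, 3, 1, 3, 1, 2])]

/-- The word of a generator. -/
def lookGen (g : ℕ) : List ℕ := ((genWord.find? fun p => Nat.beq p.1 g).getD (0, [0])).2

/-- The tokens of a letter of the thirty-nine. -/
def tokOf (l : ℕ) : List Tok :=
  bif Nat.beq (l / 2) 4 then (bif l % 2 == 0 then [.z] else [.h [1, 1], .z])
  else [.h (bif l % 2 == 0 then lookGen (l / 2) else winv (lookGen (l / 2)))]

/-- The tokens of a word. -/
def toks (w : List ℕ) : List Tok := w.flatMap tokOf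

/-- The letters of a word are known. -/
def known (w : List ℕ) : Bool :=
  w.all fun l => Nat.beq (l / 2) 4 ||
    ((lookGen (l / 2)).all (fun a => Nat.blt a 18) && defOK (l / 2) (lookGen (l / 2)))

theorem tval_tokOf {l : ℕ} (h : known [l] = true) :
    tval (tokOf l) = bif l % 2 == 0 then g39 (l / 2) else (g39 (l / 2))⁻¹ := by
  simp only [known, List.all_cons, List.all_nil, Bool.and_true, Bool.or_eq_true, Bool.and_eq_true] at h
  cases hb : Nat.beq (l / 2) 4 with
  | true =>
    simp only [tokOf, hb, cond_true]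
    rw [Nat.eq_of_beq_eq_true hb]
    cases l % 2 == 0 with
    | true => simp [tval, zL]
    | false =>
      simp only [cond_false, tval, mul_one]
      refine eq_inv_of_mul_eq_one_left ?_
      have e := z_sq
      simp only [zL] at e ⊢
      rw [mul_assoc, e, ← map_mul]
      simp [wval]
  | false =>
    simp only [hb, Bool.false_eq_true, false_or] at h
    have e := defOK_val h.2 fun a ha => by simpa [Nat.blt_eq] using List.all_eq_true.1 h.1 a ha
    simp only [tokOf, hb, cond_false]
    cases l % 2 == 0 <;> simp [tval, e, wval_winv]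

theorem tval_toks : ∀ w : List ℕ, known w = true → tval (toks w) = wval g39 w
  | [], _ => by simp [toks, tval, wval]
  | l :: w, h => by
    simp only [known, List.all_cons, Bool.and_eq_true] at h
    have h1 : known [l] = true := by simp only [known, List.all_cons, List.all_nil, Bool.and_true]; exact h.1
    have e := tval_toks w h.2
    rw [toks] at e
    rw [toks, List.flatMap_cons, tval_append, e, tval_tokOf h1]
    simp [wval]

/-- The equation with the z at a position singled out. -/
def eqAt (w : List ℕ) (q : ℕ) : List Tok × List Tok :=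
  (toks (w.take q) ++ tokOf (w.getD q 0), toks (winv (w.drop (q + 1))))

/-- The equations of a word. -/
def eqsOf (w : List ℕ) : List (List Tok × List Tok) :=
  (toks w, []) :: ((List.range w.length).filter fun q => Nat.beq (w.getD q 0 / 2) 4).map (eqAt w)

/-- The relators containing z other than those giving conjugates and the square. -/
def zWords : List (List ℕ) := (relWords.drop 81).take 5

theorem zWords_known : (zWords.all fun w => known w && known (winv w)) = true := by decide +kernel

/-- All the equations used by the certificate. -/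
def certEqs : List (List Tok × List Tok) := ([], []) :: ([.z], [.z]) :: zWords.flatMap eqsOf

theorem winv_drop_known (w : List ℕ) (q : ℕ) (h : known (winv w) = true) : known (winv (w.drop q)) = true := by
  simp only [known, List.all_eq_true] at h ⊢
  intro l hl
  refine h l ?_
  simp only [winv, List.mem_reverse, List.mem_map] at hl ⊢
  obtain ⟨a, ha, rfl⟩ := hl
  exact ⟨a, List.mem_of_mem_drop ha, rfl⟩

theorem certEqs_ok : ∀ p ∈ certEqs, tval p.1 = tval p.2 := by
  intro p hp
  simp only [certEqs, List.mem_cons, List.mem_flatMap] at hp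
  rcases hp with rfl | rfl | ⟨w, hw, hp⟩
  · rfl
  · rfl
  · have hk := List.all_eq_true.1 zWords_known w hw
    simp only [Bool.and_eq_true] at hk
    have h1 : wval g39 w = 1 := g39_rels w (List.mem_of_mem_drop (List.mem_of_mem_take hw))
    simp only [eqsOf, List.mem_cons, List.mem_map, List.mem_filter, List.mem_range] at hp
    rcases hp with rfl | ⟨q, ⟨hq, -⟩, rfl⟩
    · rw [tval_toks w hk.1, h1]; rfl
    · have ht : known (w.take q) = true := by
        simp only [known, List.all_eq_true] at hk ⊢
        exact fun l hl => hk.1 l (List.mem_of_mem_take hl)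
      have hl : known [w.getD q 0] = true := by
        simp only [known, List.all_eq_true] at hk ⊢
        intro l hl
        rw [List.mem_singleton] at hl
        subst hl
        rw [List.getD_eq_getElem _ _ hq]
        exact hk.1 _ (List.getElem_mem hq)
      have e : w = w.take q ++ w.getD q 0 :: w.drop (q + 1) := by
        conv_lhs => rw [← List.take_append_drop q w, List.drop_eq_getElem_cons hq]
        rw [List.getD_eq_getElem _ _ hq]
      rw [eqAt, tval_append, tval_toks _ ht, tval_tokOf hl, tval_toks _ (winv_drop_known w _ hk.2), wval_winv]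
      refine eq_inv_of_mul_eq_one_left ?_
      conv_rhs => rw [← h1, e, wval_append]
      simp [wval, mul_assoc]

end Cfsg.Lib.LyPres
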