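import Cfsg.Agent.LyPres.Cosets

/-!
The checks of the frames.
-/

set_option autoImplicit false
set_option maxRecDepth 100000
set_option maxHeartbeats 4000000
set_option Elab.async false

namespace Cfsg.Lib.LyPres

theorem orbFR_ok0 : orbFR.okRange 0 1000 = true := by decide +kernel

theorem orbFR_ok1 : orbFR.okRange 1000 1000 = true := by decide +kernel

theorem orbFR_ok2 : orbFR.okRange 2000 1000 = true := by decide +kernel

theorem orbFR_ok3 : orbFR.okRange 3000 1000 = true := by decide +kernel

theorem orbFR_ok4 : orbFR.okRange 4000 1000 = true := by decide +kernel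

theorem orbFR_ok5 : orbFR.okRange 5000 1000 = true := by decide +kernel

theorem orbFR_ok6 : orbFR.okRange 6000 1000 = true := by decide +kernel

theorem orbFR_ok7 : orbFR.okRange 7000 1000 = true := by decide +kernel

theorem orbFR_ok8 : orbFR.okRange 8000 1000 = true := by decide +kernel

theorem orbFR_ok9 : orbFR.okRange 9000 1000 = true := by decide +kernel

end Cfsg.Lib.LyPres
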