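import Cfsg.Agent.LyPres.Cosets

/-!
The checks of the frames.
-/

set_option autoImplicit false
set_option maxRecDepth 100000
set_option maxHeartbeats 4000000
set_option Elab.async false

namespace Cfsg.Lib.LyPres

theorem orbFR_ok10 : orbFR.okRange 10000 1000 = true := by decide +kernel

theorem orbFR_ok11 : orbFR.okRange 11000 1000 = true := by decide +kernel

theorem orbFR_ok12 : orbFR.okRange 12000 1000 = true := by decide +kernel

theorem orbFR_ok13 : orbFR.okRange 13000 1000 = true := by decide +kernel

theorem orbFR_ok14 : orbFR.okRange 14000 1000 = true := by decide +kernel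

theorem orbFR_ok15 : orbFR.okRange 15000 1000 = true := by decide +kernel

theorem orbFR_ok16 : orbFR.okRange 16000 1000 = true := by decide +kernel

theorem orbFR_ok17 : orbFR.okRange 17000 1000 = true := by decide +kernel

theorem orbFR_ok18 : orbFR.okRange 18000 1000 = true := by decide +kernel

theorem orbFR_ok19 : orbFR.okRange 19000 530 = true := by decide +kernel

end Cfsg.Lib.LyPres
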