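import Cfsg.Agent.LyPres.Cosets

/-!
The checks of the frames.
-/

set_option autoImplicit false
set_option maxRecDepth 100000
set_option maxHeartbeats 4000000
set_option Elab.async false

namespace Cfsg.Lib.LyPres

theorem close_ok0 : closeRange 0 500 = true := by decide +kernel

theorem close_ok1 : closeRange 500 500 = true := by decide +kernel

theorem close_ok2 : closeRange 1000 500 = true := by decide +kernel

theorem close_ok3 : closeRange 1500 500 = true := by decide +kernel

theorem close_ok4 : closeRange 2000 500 = true := by decide +kernel

theorem close_ok5 : closeRange 2500 500 = true := by decide +kernel

theorem close_ok6 : closeRange 3000 500 = true := by decide +kernel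

theorem close_ok7 : closeRange 3500 500 = true := by decide +kernel

theorem close_ok8 : closeRange 4000 500 = true := by decide +kernel

theorem close_ok9 : closeRange 4500 500 = true := by decide +kernel

theorem close_ok10 : closeRange 5000 500 = true := by decide +kernel

theorem close_ok11 : closeRange 5500 500 = true := by decide +kernel

theorem close_ok12 : closeRange 6000 500 = true := by decide +kernel

theorem close_ok13 : closeRange 6500 500 = true := by decide +kernel

end Cfsg.Lib.LyPres
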