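import Cfsg.Agent.LyPres.Cosets

/-!
The checks of the frames.
-/

set_option autoImplicit false
set_option maxRecDepth 100000
set_option maxHeartbeats 4000000
set_option Elab.async false

namespace Cfsg.Lib.LyPres

theorem close_ok14 : closeRange 7000 500 = true := by decide +kernel

theorem close_ok15 : closeRange 7500 500 = true := by decide +kernel

theorem close_ok16 : closeRange 8000 500 = true := by decide +kernel

theorem close_ok17 : closeRange 8500 500 = true := by decide +kernel

theorem close_ok18 : closeRange 9000 500 = true := by decide +kernel

theorem close_ok19 : closeRange 9500 500 = true := by decide +kernel

theorem close_ok20 : closeRange 10000 500 = true := by decide +kernel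

theorem close_ok21 : closeRange 10500 500 = true := by decide +kernel

theorem close_ok22 : closeRange 11000 500 = true := by decide +kernel

theorem close_ok23 : closeRange 11500 500 = true := by decide +kernel

theorem close_ok24 : closeRange 12000 500 = true := by decide +kernel

theorem close_ok25 : closeRange 12500 500 = true := by decide +kernel

theorem close_ok26 : closeRange 13000 500 = true := by decide +kernel

end Cfsg.Lib.LyPres
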