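import Cfsg.Agent.LyPres.Cosets

/-!
The checks of the frames.
-/

set_option autoImplicit false
set_option maxRecDepth 100000
set_option maxHeartbeats 4000000
set_option Elab.async false

namespace Cfsg.Lib.LyPres

theorem close_ok27 : closeRange 13500 500 = true := by decide +kernel

theorem close_ok28 : closeRange 14000 500 = true := by decide +kernel

theorem close_ok29 : closeRange 14500 500 = true := by decide +kernel

theorem close_ok30 : closeRange 15000 500 = true := by decide +kernel

theorem close_ok31 : closeRange 15500 500 = true := by decide +kernel

theorem close_ok32 : closeRange 16000 500 = true := by decide +kernel

theorem close_ok33 : closeRange 16500 500 = true := by decide +kernel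

theorem close_ok34 : closeRange 17000 500 = true := by decide +kernel

theorem close_ok35 : closeRange 17500 500 = true := by decide +kernel

theorem close_ok36 : closeRange 18000 500 = true := by decide +kernel

theorem close_ok37 : closeRange 18500 500 = true := by decide +kernel

theorem close_ok38 : closeRange 19000 500 = true := by decide +kernel

theorem close_ok39 : closeRange 19500 30 = true := by decide +kernel

end Cfsg.Lib.LyPres
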