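import Cfsg.Agent.LyPres.Cosets
import Cfsg.Agent.LyPres.FrameCheckA
import Cfsg.Agent.LyPres.FrameCheckB
import Cfsg.Agent.LyPres.FrameCheckC
import Cfsg.Agent.LyPres.FrameCheckD
import Cfsg.Agent.LyPres.FrameCheckE

/-!
The checks of the frames.
-/

set_option autoImplicit false
set_option maxRecDepth 100000
set_option maxHeartbeats 4000000
set_option Elab.async false

namespace Cfsg.Lib.LyPres

theorem orbFR_all : orbFR.okRange 0 19530 = true :=
  (okRange_cat orbFR (a := 0) (b := 1000) (k := 1000) (c := 18530) (n := 19530) (by decide +kernel) (by decide +kernel) orbFR_ok0 (okRange_cat orbFR (a := 1000) (b := 1000) (k := 2000) (c := 17530) (n := 18530) (by decide +kernel) (by decide +kernel) orbFR_ok1 (okRange_cat orbFR (a := 2000) (b := 1000) (k := 3000) (c := 16530) (n := 17530) (by decide +kernel) (by decide +kernel) orbFR_ok2 (okRange_cat orbFR (a := 3000) (b := 1000) (k := 4000) (c := 15530) (n := 16530) (by decide +kernel) (by decide +kernel) orbFR_ok3 (okRange_cat orbFR (a := 4000) (b := 1000) (k := 5000) (c := 14530) (n := 15530) (by decide +kernel) (by decide +kernel) orbFR_ok4 (okRange_cat orbFR (a :=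 5000) (b := 1000) (k := 6000) (c := 13530) (n := 14530) (by decide +kernel) (by decide +kernel) orbFR_ok5 (okRange_cat orbFR (a := 6000) (b := 1000) (k := 7000) (c := 12530) (n := 13530) (by decide +kernel) (by decide +kernel) orbFR_ok6 (okRange_cat orbFR (a := 7000) (b := 1000) (k := 8000) (c := 11530) (n := 12530) (by decide +kernel) (by decide +kernel) orbFR_ok7 (okRange_cat orbFR (a := 8000) (b := 1000) (k := 9000) (c := 10530) (n := 11530) (by decide +kernel) (by decide +kernel) orbFR_ok8 (okRange_cat orbFR (a := 9000) (b := 1000) (k := 10000) (c := 9530) (n := 10530) (by decide +kernel) (by decide +kernel) orbFR_ok9 (okRange_cat orbFR (a := 10000) (b := 1000) (k := 11000) (c := 8530) (n := 9530) (by decide +kernel) (by decide +kernel) orbFR_ok10 (okRange_cat orbFR (a := 11000) (b := 1000) (k := 12000) (c := 7530) (n := 8530) (by decide +kernel) (by decide +kernel) orbFR_ok11 (okRange_cat orbFR (a := 12000) (b := 1000) (k := 13000) (c := 6530) (n := 7530) (by decide +kernel) (by decide +kernel) orbFR_ok12 (okRange_cat orbFR (a := 13000) (b := 1000) (k := 14000) (c := 5530) (n := 6530) (by decide +kernel) (by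 decide +kernel) orbFR_ok13 (okRange_cat orbFR (a := 14000) (b := 1000) (k := 15000) (c := 4530) (n := 5530) (by decide +kernel) (by decide +kernel) orbFR_ok14 (okRange_cat orbFR (a := 15000) (b := 1000) (k := 16000) (c := 3530) (n := 4530) (by decide +kernel) (by decide +kernel) orbFR_ok15 (okRange_cat orbFR (a := 16000) (b := 1000) (k := 17000) (c := 2530) (n := 3530) (by decide +kernel) (by decide +kernel) orbFR_ok16 (okRange_cat orbFR (a := 17000) (b := 1000) (k := 18000) (c := 1530) (n := 2530) (by decide +kernel) (by decide +kernel) orbFR_ok17 (okRange_cat orbFR (a := 18000) (b := 1000) (k := 19000) (c := 530) (n := 1530) (by decide +kernel) (by decide +kernel) orbFR_ok18 orbFR_ok19)))))))))))))))))))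

theorem close_all : closeRange 0 19530 = true :=
  (closeRange_cat (a := 0) (b := 500) (k := 500) (c := 19030) (n := 19530) (by decide +kernel) (by decide +kernel) close_ok0 (closeRange_cat (a := 500) (b := 500) (k := 1000) (c := 18530) (n := 19030) (by decide +kernel) (by decide +kernel) close_ok1 (closeRange_cat (a := 1000) (b := 500) (k := 1500) (c := 18030) (n := 18530) (by decide +kernel) (by decide +kernel) close_ok2 (closeRange_cat (a := 1500) (b := 500) (k := 2000) (c := 17530) (n := 18030) (by decide +kernel) (by decide +kernel) close_ok3 (closeRange_cat (a := 2000) (b := 500) (k := 2500) (c := 17030) (n := 17530) (by decide +kernel) (by decide +kernel) close_ok4 (closeRange_cat (a := 2500) (b := 500) (k := 3000) (c := 16530) (n := 17030) (by decide +kernel) (by decide +kernel) close_ok5 (closeRange_cat (a := 3000) (b := 500) (k := 3500) (c := 16030) (n := 16530) (by decide +kernel) (by decide +kernel) close_ok6 (closeRange_cat (a := 3500) (b := 500) (k := 4000) (c := 15530) (n := 16030) (by decide +kernel) (by decide +kernel) close_ok7 (closeRange_cat (a := 4000) (b := 500) (k := 4500) (c := 15030) (n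 := 15530) (by decide +kernel) (by decide +kernel) close_ok8 (closeRange_cat (a := 4500) (b := 500) (k := 5000) (c := 14530) (n := 15030) (by decide +kernel) (by decide +kernel) close_ok9 (closeRange_cat (a := 5000) (b := 500) (k := 5500) (c := 14030) (n := 14530) (by decide +kernel) (by decide +kernel) close_ok10 (closeRange_cat (a := 5500) (b := 500) (k := 6000) (c := 13530) (n := 14030) (by decide +kernel) (by decide +kernel) close_ok11 (closeRange_cat (a := 6000) (b := 500) (k := 6500) (c := 13030) (n := 13530) (by decide +kernel) (by decide +kernel) close_ok12 (closeRange_cat (a := 6500) (b := 500) (k := 7000) (c := 12530) (n := 13030) (by decide +kernel) (by decide +kernel) close_ok13 (closeRange_cat (a := 7000) (b := 500) (k := 7500) (c := 12030) (n := 12530) (by decide +kernel) (by decide +kernel) close_ok14 (closeRange_cat (a := 7500) (b := 500) (k := 8000) (c := 11530) (n := 12030) (by decide +kernel) (by decide +kernel) close_ok15 (closeRange_cat (a := 8000) (b := 500) (k := 8500) (c := 11030) (n := 11530) (by decide +kernel) (by decide +kernel) close_ok16 (closeRange_cat (a := 8500) (b := 500) (k := 9000)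 (c := 10530) (n := 11030) (by decide +kernel) (by decide +kernel) close_ok17 (closeRange_cat (a := 9000) (b := 500) (k := 9500) (c := 10030) (n := 10530) (by decide +kernel) (by decide +kernel) close_ok18 (closeRange_cat (a := 9500) (b := 500) (k := 10000) (c := 9530) (n := 10030) (by decide +kernel) (by decide +kernel) close_ok19 (closeRange_cat (a := 10000) (b := 500) (k := 10500) (c := 9030) (n := 9530) (by decide +kernel) (by decide +kernel) close_ok20 (closeRange_cat (a := 10500) (b := 500) (k := 11000) (c := 8530) (n := 9030) (by decide +kernel) (by decide +kernel) close_ok21 (closeRange_cat (a := 11000) (b := 500) (k := 11500) (c := 8030) (n := 8530) (by decide +kernel) (by decide +kernel) close_ok22 (closeRange_cat (a := 11500) (b := 500) (k := 12000) (c := 7530) (n := 8030) (by decide +kernel) (by decide +kernel) close_ok23 (closeRange_cat (a := 12000) (b := 500) (k := 12500) (c := 7030) (n := 7530) (by decide +kernel) (by decide +kernel) close_ok24 (closeRange_cat (a := 12500) (b := 500) (k := 13000) (c := 6530) (n := 7030) (by decide +kernel) (by decide +kernel) close_ok25 (closeRange_cat (a := 13000)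 (b := 500) (k := 13500) (c := 6030) (n := 6530) (by decide +kernel) (by decide +kernel) close_ok26 (closeRange_cat (a := 13500) (b := 500) (k := 14000) (c := 5530) (n := 6030) (by decide +kernel) (by decide +kernel) close_ok27 (closeRange_cat (a := 14000) (b := 500) (k := 14500) (c := 5030) (n := 5530) (by decide +kernel) (by decide +kernel) close_ok28 (closeRange_cat (a := 14500) (b := 500) (k := 15000) (c := 4530) (n := 5030) (by decide +kernel) (by decide +kernel) close_ok29 (closeRange_cat (a := 15000) (b := 500) (k := 15500) (c := 4030) (n := 4530) (by decide +kernel) (by decide +kernel) close_ok30 (closeRange_cat (a := 15500) (b := 500) (k := 16000) (c := 3530) (n := 4030) (by decide +kernel) (by decide +kernel) close_ok31 (closeRange_cat (a := 16000) (b := 500) (k := 16500) (c := 3030) (n := 3530) (by decide +kernel) (by decide +kernel) close_ok32 (closeRange_cat (a := 16500) (b := 500) (k := 17000) (c := 2530) (n := 3030) (by decide +kernel) (by decide +kernel) close_ok33 (closeRange_cat (a := 17000) (b := 500) (k := 17500) (c := 2030) (n := 2530) (by decide +kernel) (by decide +kernel) close_ok34 (closeRange_cat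 (a := 17500) (b := 500) (k := 18000) (c := 1530) (n := 2030) (by decide +kernel) (by decide +kernel) close_ok35 (closeRange_cat (a := 18000) (b := 500) (k := 18500) (c := 1030) (n := 1530) (by decide +kernel) (by decide +kernel) close_ok36 (closeRange_cat (a := 18500) (b := 500) (k := 19000) (c := 530) (n := 1030) (by decide +kernel) (by decide +kernel) close_ok37 (closeRange_cat (a := 19000) (b := 500) (k := 19500) (c := 30) (n := 530) (by decide +kernel) (by decide +kernel) close_ok38 close_ok39)))))))))))))))))))))))))))))))))))))))

end Cfsg.Lib.LyPres
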