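import Cfsg.Agent.LyPres.InvolCheck
import Cfsg.Agent.LyPres.FusData

/-!
Two elements carrying the involution to the two lifts of a product of four transpositions.
-/

set_option autoImplicit false
set_option maxRecDepth 100000
set_option Elab.async false

namespace Cfsg.Lib.LyPres

/-- The values of the longer program. -/
def vFus : List ℕ := (slpRun progFus vInv true).1

/-- The lift of four transpositions. -/
def uWord : List ℕ := gW 1 ++ gW 3 ++ gW 5

/-- The two conjugating elements as words. -/
def witW (i : ℕ) : List ℕ := [witFus.getD i 0]

theorem progFus_ok : (slpRun progFus vInv true).2 = true := by decide +kernel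

theorem u_sq : sameW111 vInv (uWord ++ uWord) [] = true := by decide +kernel

theorem u_anti : ((wN vInv (uWord ++ gW 7)).2 && (wN vInv (gW 7 ++ uWord)).2 &&
    !((wN vInv (uWord ++ gW 7)).1 == (wN vInv (gW 7 ++ uWord)).1)) = true := by decide +kernel

theorem u_low : ((uWord ++ tWord).all fun i => Nat.blt i vInv.length) = true := by decide +kernel

theorem wit_zero : sameW111 vFus (tWord ++ witW 0) (witW 0 ++ uWord) = true := by decide +kernel

theorem wit_one : sameW111 vFus (tWord ++ witW 1) (witW 1 ++ (uWord ++ tWord)) = true := by decide +kernel

end Cfsg.Lib.LyPres
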