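import Cfsg.Agent.LyPres.SlpGroup
import Cfsg.Agent.LyPres.InvolData

/-!
The relations of nine elements commuting with an involution of the presented Lyons group.
-/

set_option autoImplicit false
set_option maxRecDepth 100000
set_option Elab.async false

namespace Cfsg.Lib.LyPres

/-- The involution, the fourth power of the first generator. -/
def tWord : List ℕ := [1, 1, 1, 1]

/-- The values of the program. -/
def vInv : List ℕ := (slpRun progInv slpStart true).1

/-- A product is trivial or the involution. -/
def modT (w : List ℕ) : Bool := sameW111 vInv w [] || sameW111 vInv w tWord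

/-- A word repeated. -/
def rep (n : ℕ) (w : List ℕ) : List ℕ := (List.replicate n w).flatten

/-- One of the nine words. -/
def gW (i : ℕ) : List ℕ := gWords.getD i []

/-- The relators that are involutions or trivial. -/
def altRelWords : List (List ℕ) :=
  rep 3 (gW 0) :: (List.range 8).map (fun i => rep 3 (gW i ++ gW (i + 1))) ++
    ((List.range 9).flatMap fun j => (List.range 9).filterMap fun i =>
      bif Nat.blt (i + 1) j then some (rep 2 (gW i ++ gW j)) else none)

theorem progInv_ok : (slpRun progInv slpStart true).2 = true := by decide +kernel

theorem invol_sq : sameW111 vInv (tWord ++ tWord) [] = true := by decide +kernel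

theorem invol_ne : ((wN vInv tWord).2 && !((wN vInv tWord).1 == (wN vInv []).1)) = true := by decide +kernel

theorem g_comm : ((List.range 9).all fun i => sameW111 vInv (tWord ++ gW i) (gW i ++ tWord)) = true := by
  decide +kernel

theorem g_sq : ((List.range' 1 8).all fun i => sameW111 vInv (gW i ++ gW i) tWord) = true := by decide +kernel

theorem g_ne : (sameW111 vInv (gW 0 ++ gW 1) (gW 1 ++ gW 0) || sameW111 vInv (gW 0 ++ gW 1) (gW 1 ++ gW 0 ++ tWord))
    = false := by decide +kernel

theorem g_rels0 : ((altRelWords.take 19).all modT) = true := by decide +kernel

theorem g_rels1 : ((altRelWords.drop 19).all modT) = true := by decide +kernel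

theorem g_rels : (altRelWords.all modT) = true := by
  rw [← List.take_append_drop 19 altRelWords, List.all_append, g_rels0, g_rels1]
  rfl

end Cfsg.Lib.LyPres
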