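import Cfsg.Agent.LyPres.Simple
import Cfsg.Agent.LyPres.InvolCheck
import Cfsg.Agent.Presentations.Carmichael
import Cfsg.Prelude.Def_SporadicB

/-!
An involution of the presented Lyons group commutes with a double cover of the alternating group on eleven
letters.
-/

set_option autoImplicit false
set_option maxRecDepth 100000
set_option Elab.async false

namespace Cfsg.Lib.LyPres

open Cfsg.Spor

attribute [local irreducible] one111 let111 rho111 mul1

theorem small_inj {A B : ℕ} (hA : Small A) (hB : Small B) (h : toM A = toM B) : A = B := by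
  refine ext_dig fun m => ?_
  rcases Nat.lt_or_ge m digs with hm | hm
  · simp only [digs] at hm
    have e := congrFun (congrFun h ⟨m / 111, by omega⟩) ⟨m % 111, Nat.mod_lt _ (by norm_num)⟩
    simp only [toM, Matrix.of_apply, ent, show 111 * (m / 111) + m % 111 = m from Nat.div_add_mod m 111,
      ZMod.natCast_eq_natCast_iff'] at e
    rwa [Nat.mod_eq_of_lt (hA.1 m), Nat.mod_eq_of_lt (hB.1 m)] at e
  · rw [hA.2 m hm, hB.2 m hm]

theorem rho111_injective : Function.Injective rho111 := by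
  haveI := isLy_Ly.1
  rw [← MonoidHom.ker_eq_bot_iff]
  refine (MonoidHom.normal_ker rho111).eq_bot_or_eq_top.resolve_right fun h => ?_
  have h1 := invol_ne
  simp only [Bool.and_eq_true, Bool.not_eq_true', beq_eq_false_iff_ne] at h1
  have hv : Paired vInv (slpRunG progInv slpStartG) := slp_paired _ _ _ _ slp_start_paired progInv_ok
  have hb := b111_ne
  rw [beq_eq_false_iff_ne] at hb
  have e : ∀ x : Spor.Ly, rho111 x = 1 := fun x => (h ▸ Subgroup.mem_top x : x ∈ rho111.ker)
  have a := hv.2 3 (by decide +kernel)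
  have b := hv.2 0 (by decide +kernel)
  rw [e] at a b
  refine hb ?_
  rw [show let111 2 = vInv.getD 3 0 by decide +kernel, show one111 = vInv.getD 0 0 by decide +kernel]
  exact small_inj a.1 b.1 (a.2.trans b.2.symm)

/-- The values of the program in the group. -/
noncomputable def xInv : List Spor.Ly := slpRunG progInv slpStartG

theorem xInv_paired : Paired vInv xInv := slp_paired _ _ _ _ slp_start_paired progInv_ok

theorem sameX {u w : List ℕ} (h : sameW111 vInv u w = true) : wG xInv u = wG xInv w :=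
  sameW111_sound xInv_paired rho111_injective h

theorem slpRunG_prefix : ∀ (prog : List (ℕ × ℕ)) (x : List Spor.Ly) (i : ℕ), i < x.length →
    (slpRunG prog x).getD i 1 = x.getD i 1
  | [], _, _, _ => rfl
  | (_, _) :: l, x, i, h => by
    rw [slpRunG, slpRunG_prefix l _ i (by rw [List.length_append]; omega), List.getD_append _ _ _ _ h]

/-- The involution. -/
def tL : Spor.Ly := toLy (fgen 0 ^ 4)

theorem tWord_val : wG xInv tWord = tL := by
  have h : xInv.getD 1 1 = g39 0 := by
    rw [xInv, slpRunG_prefix _ _ _ (by simp [slpStartG])]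
    simp [slpStartG, List.range_succ]
  have h0 : toLy (fgen 0) = g39 0 := by
    rw [toLy_gen (show (0 : ℕ) < 9 by norm_num), ly9, show nine.getD 0 0 = 0 from rfl]
  simp only [wG, tWord, List.map_cons, List.map_nil, List.prod_cons, List.prod_nil, mul_one, h, tL, map_pow, h0,
    map_mul, pow_succ, pow_zero, one_mul, mul_assoc]

theorem tL_sq : tL * tL = 1 := by
  rw [← tWord_val, ← wG_append, sameX invol_sq]
  rfl

theorem tL_ne : tL ≠ 1 := by
  intro h
  have h1 := invol_ne
  simp only [Bool.and_eq_true, Bool.not_eq_true', beq_eq_false_iff_ne] at h1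
  have a := wN_ok xInv_paired tWord h1.1
  have b := wN_ok xInv_paired [] rfl
  rw [tWord_val, h] at a
  rw [show wG xInv [] = 1 from rfl] at b
  exact h1.2 (small_inj a.1 b.1 (a.2.trans b.2.symm))

theorem orderOf_tL : orderOf tL = 2 := by
  haveI := Fact.mk Nat.prime_two
  exact orderOf_eq_prime (by rw [pow_two, tL_sq]) tL_ne

/-- One of the nine elements. -/
noncomputable def gE (i : ℕ) : Spor.Ly := wG xInv (gW i)

theorem gE_comm {i : ℕ} (hi : i < 9) : tL * gE i = gE i * tL := by
  have h := sameX (List.all_eq_true.1 g_comm i (List.mem_range.2 hi))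
  rwa [wG_append, wG_append, tWord_val] at h

/-- The double cover. -/
noncomputable def Dt : Subgroup Spor.Ly := Subgroup.closure ({tL} ∪ gE '' Set.Iio 9)

theorem Dt_le : Dt ≤ Subgroup.centralizer {tL} := by
  refine (Subgroup.closure_le _).2 ?_
  rintro x (rfl | ⟨i, hi, rfl⟩) <;> rw [SetLike.mem_coe, Subgroup.mem_centralizer_singleton_iff]
  exact (gE_comm hi).symm

theorem tL_mem : tL ∈ Dt := Subgroup.subset_closure (Or.inl rfl)

theorem gE_mem {i : ℕ} (hi : i < 9) : gE i ∈ Dt := Subgroup.subset_closure (Or.inr ⟨i, hi, rfl⟩)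

/-- The centre of the cover. -/
noncomputable def Tn : Subgroup Dt := Subgroup.zpowers ⟨tL, tL_mem⟩

theorem Tn_le_center : Tn ≤ Subgroup.center Dt := by
  rw [Tn, Subgroup.zpowers_le, Subgroup.mem_center_iff]
  intro g
  exact Subtype.ext (Subgroup.mem_centralizer_singleton_iff.1 (Dt_le g.2))

instance Tn_normal : Tn.Normal :=
  ⟨fun n hn g => by
    rw [Subgroup.mem_center_iff.1 (Tn_le_center hn) g, mul_inv_cancel_right]
    exact hn⟩

/-- The relators of the alternating group on eleven letters. -/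
abbrev altR : Set (FreeGroup (Fin (11 - 2))) :=
  {g | ∃ i : Fin (11 - 2), i.val = 0 ∧ g = FreeGroup.of i ^ 3} ∪
    {g | ∃ i : Fin (11 - 2), 1 ≤ i.val ∧ g = FreeGroup.of i ^ 2} ∪
    {g | ∃ i j : Fin (11 - 2), j.val = i.val + 1 ∧ g = (FreeGroup.of i * FreeGroup.of j) ^ 3} ∪
    {g | ∃ i j : Fin (11 - 2), i.val + 1 < j.val ∧ g = (FreeGroup.of i * FreeGroup.of j) ^ 2}

/-- An image in the quotient. -/
noncomputable def qE (i : Fin (11 - 2)) : Dt ⧸ Tn := QuotientGroup.mk ⟨gE i.val, gE_mem i.isLt⟩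

theorem wG_rep (n : ℕ) (w : List ℕ) : wG xInv (rep n w) = wG xInv w ^ n := by
  induction n with
  | zero => simp [rep, wG]
  | succ n ih => rw [rep, List.replicate_succ, List.flatten_cons, wG_append, ← rep, ih, pow_succ']

theorem one_of_modT {w : List ℕ} (h : modT w = true) (d : Dt) (hd : (d : Spor.Ly) = wG xInv w) :
    (d : Dt ⧸ Tn) = 1 := by
  rw [QuotientGroup.eq_one_iff]
  rw [modT, Bool.or_eq_true] at h
  rcases h with h | h
  · rw [show d = 1 from Subtype.ext (hd.trans (sameX h))]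
    exact one_mem _
  · rw [show d = ⟨tL, tL_mem⟩ from Subtype.ext (hd.trans ((sameX h).trans tWord_val))]
    exact Subgroup.mem_zpowers _

theorem qE_rels : ∀ r ∈ altR, FreeGroup.lift qE r = 1 := by
  have hall := List.all_eq_true.1 g_rels
  intro r hr
  rcases hr with ((⟨i, hi, rfl⟩ | ⟨i, hi, rfl⟩) | ⟨i, j, hj, rfl⟩) | ⟨i, j, hj, rfl⟩ <;>
    simp only [map_pow, map_mul, FreeGroup.lift_apply_of, qE, ← QuotientGroup.mk_mul, ← QuotientGroup.mk_pow]
  · refine one_of_modT (hall (rep 3 (gW 0)) (List.mem_append_left _ List.mem_cons_self)) _ ?_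
    rw [wG_rep, ← hi]
    rfl
  · refine one_of_modT (w := gW i.val ++ gW i.val) ?_ _ (by rw [wG_append, pow_two]; rfl)
    rw [modT, List.all_eq_true.1 g_sq i.val (List.mem_range'_1.2 ⟨hi, by have := i.isLt; omega⟩), Bool.or_true]
  · refine one_of_modT (hall (rep 3 (gW i.val ++ gW (i.val + 1))) ?_) _ (by rw [wG_rep, wG_append, ← hj]; rfl)
    refine List.mem_append_left _ (List.mem_cons_of_mem _ (List.mem_map.2 ⟨i.val, ?_, rfl⟩))
    have := j.isLt
    exact List.mem_range.2 (by omega)
  · refine one_of_modT (hall (rep 2 (gW i.val ++ gW j.val)) ?_) _ (by rw [wG_rep, wG_append]; rfl)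
    refine List.mem_append_right _ (List.mem_flatMap.2 ⟨j.val, List.mem_range.2 j.isLt,
      List.mem_filterMap.2 ⟨i.val, List.mem_range.2 i.isLt, ?_⟩⟩)
    rw [show Nat.blt (i.val + 1) j.val = true from (by simp only [Nat.blt_eq]; exact hj)]
    rfl

/-- The map of the presented alternating group. -/
noncomputable def altHom : PresentedGroup altR →* Dt ⧸ Tn := PresentedGroup.toGroup qE_rels

theorem altHom_surjective : Function.Surjective altHom := by
  intro q
  induction q using QuotientGroup.induction_on with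
  | H d =>
    obtain ⟨d, hd⟩ := d
    induction hd using Subgroup.closure_induction with
    | mem x hx =>
      rcases hx with hx | ⟨i, hi, rfl⟩
      · refine ⟨1, ?_⟩
        rw [map_one, eq_comm, QuotientGroup.eq_one_iff]
        simp only [Set.mem_singleton_iff] at hx
        subst hx
        exact Subgroup.mem_zpowers _
      · exact ⟨PresentedGroup.of ⟨i, hi⟩, PresentedGroup.toGroup.of qE_rels⟩
    | one => exact ⟨1, map_one _⟩
    | mul x y hx hy ihx ihy =>
      obtain ⟨a, ha⟩ := ihx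
      obtain ⟨b, hb⟩ := ihy
      exact ⟨a * b, by rw [map_mul, ha, hb]; rfl⟩
    | inv x hx ihx =>
      obtain ⟨a, ha⟩ := ihx
      exact ⟨a⁻¹, by rw [map_inv, ha]; rfl⟩

theorem gE_noncomm : gE 0 * gE 1 ≠ gE 1 * gE 0 := by
  intro h
  have h' := g_ne
  rw [Bool.or_eq_false_iff] at h'
  have hu := wN_ok xInv_paired (gW 0 ++ gW 1) (by decide +kernel)
  have hw := wN_ok xInv_paired (gW 1 ++ gW 0) (by decide +kernel)
  rw [wG_append] at hu hw
  rw [show wG xInv (gW 0) * wG xInv (gW 1) = wG xInv (gW 1) * wG xInv (gW 0) from h] at hu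
  have e := small_inj hu.1 hw.1 (hu.2.trans hw.2.symm)
  have := h'.1
  rw [sameW111, show (wN vInv (gW 0 ++ gW 1)).2 = true by decide +kernel,
    show (wN vInv (gW 1 ++ gW 0)).2 = true by decide +kernel, e, beq_self_eq_true] at this
  exact Bool.noConfusion this

theorem altHom_bijective : Function.Bijective altHom := by
  obtain ⟨e⟩ := Cfsg.Lib.Presentations.Carmichael.presentation 11 (by norm_num)
  haveI : IsSimpleGroup (alternatingGroup (Fin 11)) := alternatingGroup.isSimpleGroup (by simp)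
  haveI : IsSimpleGroup (PresentedGroup altR) := e.isSimpleGroup
  refine ⟨?_, altHom_surjective⟩
  rw [← MonoidHom.ker_eq_bot_iff]
  refine altHom.normal_ker.eq_bot_or_eq_top.resolve_right fun h => gE_noncomm ?_
  have hone : ∀ q : Dt ⧸ Tn, q = 1 := fun q => by
    obtain ⟨a, rfl⟩ := altHom_surjective q
    exact (h ▸ Subgroup.mem_top a : a ∈ altHom.ker)
  have hc := Tn_le_center ((QuotientGroup.eq_one_iff _).1 (hone (QuotientGroup.mk ⟨gE 0, gE_mem (by norm_num)⟩)))
  exact congrArg Subtype.val ((Subgroup.mem_center_iff.1 hc) ⟨gE 1, gE_mem (by norm_num)⟩).symm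

theorem exists_equiv_alt : Nonempty (Dt ⧸ Tn ≃* alternatingGroup (Fin 11)) := by
  obtain ⟨e⟩ := Cfsg.Lib.Presentations.Carmichael.presentation 11 (by norm_num)
  exact ⟨(MulEquiv.ofBijective altHom altHom_bijective).symm.trans e⟩

theorem card_Tn : Nat.card Tn = 2 := by
  rw [Tn, Nat.card_zpowers, Subgroup.orderOf_mk, orderOf_tL]

theorem center_Dt : Subgroup.center Dt = Tn := by
  refine le_antisymm (fun c hc => ?_) Tn_le_center
  obtain ⟨e⟩ := exists_equiv_alt
  haveI : IsSimpleGroup (alternatingGroup (Fin 11)) := alternatingGroup.isSimpleGroup (by simp)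
  haveI := e.isSimpleGroup
  have h1 : e (QuotientGroup.mk c) ∈ Subgroup.center (alternatingGroup (Fin 11)) := by
    rw [Subgroup.mem_center_iff]
    intro a
    obtain ⟨q, rfl⟩ := e.surjective a
    obtain ⟨d, rfl⟩ := QuotientGroup.mk_surjective q
    rw [← map_mul, ← map_mul, ← QuotientGroup.mk_mul, ← QuotientGroup.mk_mul, Subgroup.mem_center_iff.1 hc d]
  rw [alternatingGroup.center_eq_bot (α := Fin 11) (by simp), Subgroup.mem_bot, EmbeddingLike.map_eq_one_iff,
    QuotientGroup.eq_one_iff] at h1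
  exact h1

theorem card_Dt : Nat.card Dt = 39916800 := by
  obtain ⟨e⟩ := exists_equiv_alt
  rw [Tn.card_eq_card_quotient_mul_card_subgroup, Nat.card_congr e.toEquiv, nat_card_alternatingGroup, card_Tn,
    Nat.card_fin]
  norm_num [Nat.factorial]

theorem gE_one_sq : gE 1 * gE 1 = tL := by
  have h := sameX (List.all_eq_true.1 g_sq 1 (List.mem_range'_1.2 ⟨le_rfl, by norm_num⟩))
  rwa [wG_append, tWord_val] at h

theorem nonsplit_Dt : Cfsg.IsNonsplitDoubleCover Dt (alternatingGroup (Fin 11)) := by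
  obtain ⟨e⟩ := exists_equiv_alt
  refine ⟨by rw [center_Dt, card_Tn], ⟨(QuotientGroup.quotientMulEquivOfEq center_Dt).trans e⟩, fun L hL => ?_⟩
  obtain ⟨⟨⟨z, hz⟩, ⟨l, hl⟩⟩, he : z * l = ⟨gE 1, gE_mem (by norm_num)⟩⟩ := hL.2 ⟨gE 1, gE_mem (by norm_num)⟩
  have hzT : z ∈ Tn := center_Dt ▸ hz
  have hz2 : z * z = 1 := by
    obtain ⟨k, rfl⟩ := hzT
    show (⟨tL, tL_mem⟩ : Dt) ^ k * (⟨tL, tL_mem⟩ : Dt) ^ k = 1
    rw [← (Commute.refl (⟨tL, tL_mem⟩ : Dt)).mul_zpow, show (⟨tL, tL_mem⟩ : Dt) * ⟨tL, tL_mem⟩ = 1 from Subtype.ext tL_sq,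
      one_zpow]
  have ht : (⟨tL, tL_mem⟩ : Dt) = l * l := by
    have e2 : (z * l) * (z * l) = l * l := by
      rw [mul_assoc, ← mul_assoc l z l, Subgroup.mem_center_iff.1 hz l, mul_assoc, ← mul_assoc z z, hz2, one_mul]
    rw [← e2, he]
    exact Subtype.ext gE_one_sq.symm
  have hmem : (⟨tL, tL_mem⟩ : Dt) ∈ Subgroup.center Dt ⊓ L :=
    ⟨center_Dt ▸ Subgroup.mem_zpowers _, ht ▸ mul_mem hl hl⟩
  rw [hL.disjoint.eq_bot, Subgroup.mem_bot] at hmem
  exact tL_ne (congrArg Subtype.val hmem)

end Cfsg.Lib.LyPres
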