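import Cfsg.Agent.LyPres.Elems
import Cfsg.Agent.LyPres.OrbK1
import Cfsg.Agent.LyPres.Cov6Data
import Cfsg.Agent.LyPres.Cov9Data
import Cfsg.Agent.LyPres.Cov12Data

/-!
The counts of square roots of one in the stabilisers.
-/

set_option autoImplicit false
set_option maxRecDepth 100000
set_option maxHeartbeats 4000000
set_option Elab.async false

namespace Cfsg.Lib.LyPres

theorem k1_sq : orbK1.sqCheck 0 96 8 = true := by decide +kernel

theorem k1_plane : ((List.range 96).all fun k => mmul 7 frameP (orbK1.at' k).1 == (orbK1.at' k).1) = true := by decide +kernel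

theorem cov6Orb_sq0 : cov6Orb.sqCheck 0 500 13 = true := by decide +kernel

theorem cov6Orb_sq1 : cov6Orb.sqCheck 500 500 11 = true := by decide +kernel

theorem cov6Orb_sq2 : cov6Orb.sqCheck 1000 500 3 = true := by decide +kernel

theorem cov6Orb_sq3 : cov6Orb.sqCheck 1500 500 6 = true := by decide +kernel

theorem cov6Orb_sq4 : cov6Orb.sqCheck 2000 500 4 = true := by decide +kernel

theorem cov6Orb_sq5 : cov6Orb.sqCheck 2500 500 3 = true := by decide +kernel

theorem cov6Orb_sq6 : cov6Orb.sqCheck 3000 500 4 = true := by decide +kernel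

theorem cov6Orb_sq7 : cov6Orb.sqCheck 3500 500 5 = true := by decide +kernel

theorem cov6Orb_sq8 : cov6Orb.sqCheck 4000 500 3 = true := by decide +kernel

theorem cov6Orb_sq9 : cov6Orb.sqCheck 4500 500 4 = true := by decide +kernel

theorem cov6Orb_sq10 : cov6Orb.sqCheck 5000 500 5 = true := by decide +kernel

theorem cov6Orb_sq11 : cov6Orb.sqCheck 5500 500 3 = true := by decide +kernel

theorem cov6Orb_sq12 : cov6Orb.sqCheck 6000 48 0 = true := by decide +kernel

theorem cov6Orb_sq : cov6Orb.sqCheck 0 6048 64 = true :=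
  (sqCheck_cat cov6Orb (a := 0) (b := 500) (k := 500) (c := 5548) (n := 6048) (p := 13) (q := 51) (r := 64) (by decide +kernel) (by decide +kernel) (by decide +kernel) cov6Orb_sq0 (sqCheck_cat cov6Orb (a := 500) (b := 500) (k := 1000) (c := 5048) (n := 5548) (p := 11) (q := 40) (r := 51) (by decide +kernel) (by decide +kernel) (by decide +kernel) cov6Orb_sq1 (sqCheck_cat cov6Orb (a := 1000) (b := 500) (k := 1500) (c := 4548) (n := 5048) (p := 3) (q := 37) (r := 40) (by decide +kernel) (by decide +kernel) (by decide +kernel) cov6Orb_sq2 (sqCheck_cat cov6Orb (a := 1500) (b := 500) (k := 2000) (c := 4048) (n := 4548) (p := 6) (q := 31) (r := 37) (by decide +kernel) (by decide +kernel) (by decide +kernel) cov6Orb_sq3 (sqCheck_cat cov6Orb (a := 2000) (b := 500) (k := 2500) (c := 3548) (n := 4048) (p := 4) (q := 27) (r := 31) (by decide +kernel) (by decide +kernel) (by decide +kernel) cov6Orb_sq4 (sqCheck_cat cov6Orb (a := 2500) (b := 500) (k := 3000) (c := 3048) (n := 3548) (p := 3) (q := 24) (r := 27) (by decide +kernel) (by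 decide +kernel) (by decide +kernel) cov6Orb_sq5 (sqCheck_cat cov6Orb (a := 3000) (b := 500) (k := 3500) (c := 2548) (n := 3048) (p := 4) (q := 20) (r := 24) (by decide +kernel) (by decide +kernel) (by decide +kernel) cov6Orb_sq6 (sqCheck_cat cov6Orb (a := 3500) (b := 500) (k := 4000) (c := 2048) (n := 2548) (p := 5) (q := 15) (r := 20) (by decide +kernel) (by decide +kernel) (by decide +kernel) cov6Orb_sq7 (sqCheck_cat cov6Orb (a := 4000) (b := 500) (k := 4500) (c := 1548) (n := 2048) (p := 3) (q := 12) (r := 15) (by decide +kernel) (by decide +kernel) (by decide +kernel) cov6Orb_sq8 (sqCheck_cat cov6Orb (a := 4500) (b := 500) (k := 5000) (c := 1048) (n := 1548) (p := 4) (q := 8) (r := 12) (by decide +kernel) (by decide +kernel) (by decide +kernel) cov6Orb_sq9 (sqCheck_cat cov6Orb (a := 5000) (b := 500) (k := 5500) (c := 548) (n := 1048) (p := 5) (q := 3) (r := 8) (by decide +kernel) (by decide +kernel) (by decide +kernel) cov6Orb_sq10 (sqCheck_cat cov6Orb (a := 5500) (b := 500) (k := 6000) (c := 48) (n := 548) (p := 3)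 (q := 0) (r := 3) (by decide +kernel) (by decide +kernel) (by decide +kernel) cov6Orb_sq11 cov6Orb_sq12))))))))))))

theorem cov9Orb_sq0 : cov9Orb.sqCheck 0 500 48 = true := by decide +kernel

theorem cov9Orb_sq1 : cov9Orb.sqCheck 500 500 39 = true := by decide +kernel

theorem cov9Orb_sq2 : cov9Orb.sqCheck 1000 500 41 = true := by decide +kernel

theorem cov9Orb_sq3 : cov9Orb.sqCheck 1500 500 30 = true := by decide +kernel

theorem cov9Orb_sq4 : cov9Orb.sqCheck 2000 500 34 = true := by decide +kernel

theorem cov9Orb_sq5 : cov9Orb.sqCheck 2500 380 20 = true := by decide +kernel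

theorem cov9Orb_sq : cov9Orb.sqCheck 0 2880 212 = true :=
  (sqCheck_cat cov9Orb (a := 0) (b := 500) (k := 500) (c := 2380) (n := 2880) (p := 48) (q := 164) (r := 212) (by decide +kernel) (by decide +kernel) (by decide +kernel) cov9Orb_sq0 (sqCheck_cat cov9Orb (a := 500) (b := 500) (k := 1000) (c := 1880) (n := 2380) (p := 39) (q := 125) (r := 164) (by decide +kernel) (by decide +kernel) (by decide +kernel) cov9Orb_sq1 (sqCheck_cat cov9Orb (a := 1000) (b := 500) (k := 1500) (c := 1380) (n := 1880) (p := 41) (q := 84) (r := 125) (by decide +kernel) (by decide +kernel) (by decide +kernel) cov9Orb_sq2 (sqCheck_cat cov9Orb (a := 1500) (b := 500) (k := 2000) (c := 880) (n := 1380) (p := 30) (q := 54) (r := 84) (by decide +kernel) (by decide +kernel) (by decide +kernel) cov9Orb_sq3 (sqCheck_cat cov9Orb (a := 2000) (b := 500) (k := 2500) (c := 380) (n := 880) (p := 34) (q := 20) (r := 54) (by decide +kernel) (by decide +kernel) (by decide +kernel) cov9Orb_sq4 cov9Orb_sq5)))))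

theorem cov12Orb_sq0 : cov12Orb.sqCheck 0 500 56 = true := by decide +kernel

theorem cov12Orb_sq1 : cov12Orb.sqCheck 500 500 50 = true := by decide +kernel

theorem cov12Orb_sq2 : cov12Orb.sqCheck 1000 8 0 = true := by decide +kernel

theorem cov12Orb_sq : cov12Orb.sqCheck 0 1008 106 = true :=
  (sqCheck_cat cov12Orb (a := 0) (b := 500) (k := 500) (c := 508) (n := 1008) (p := 56) (q := 50) (r := 106) (by decide +kernel) (by decide +kernel) (by decide +kernel) cov12Orb_sq0 (sqCheck_cat cov12Orb (a := 500) (b := 500) (k := 1000) (c := 8) (n := 508) (p := 50) (q := 0) (r := 50) (by decide +kernel) (by decide +kernel) (by decide +kernel) cov12Orb_sq1 cov12Orb_sq2))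

end Cfsg.Lib.LyPres
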