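import Cfsg.Agent.LyPres.Invol
import Cfsg.Agent.LyPres.InvolCount
import Cfsg.Agent.Chev.GTwoOdd.Struct

/-!
The centraliser of the involution is exactly the double cover: it permutes the fixed cosets, of which there are
too few for a larger group.
-/

set_option autoImplicit false
set_option maxRecDepth 100000
set_option Elab.async false

namespace Cfsg.Lib.LyPres

open Cfsg.Spor

attribute [local irreducible] one111 let111 rho111 mul1

/-- The involution in the group on nine letters. -/
def t0 : F := fgen 0 ^ 4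

theorem orderOf_t0 : orderOf t0 = 2 := by
  rw [← orderOf_injective toLy toLy_injective]
  exact orderOf_tL

theorem card_cent_t0 : Nat.card (Subgroup.centralizer ({t0} : Set F)) = 14400 := by
  have hodd : Odd (Fintype.card (ZMod 5)) := by rw [ZMod.card]; decide
  haveI := Cfsg.Lib.GTwoOdd.neZero_two hodd
  obtain ⟨a, ha⟩ := Cfsg.Lib.GTwoOdd.conj_hh hodd ((orderOf_injective equivG2.toMonoidHom equivG2.injective t0).trans orderOf_t0)
  have h := (Cfsg.Lib.GTwoOdd.cent_struct a ha).1
  rw [ZMod.card] at h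
  refine Eq.trans ?_ h
  refine Nat.card_congr (equivG2.toEquiv.subtypeEquiv fun x => ?_)
  show x ∈ Subgroup.centralizer ({t0} : Set F) ↔ equivG2 x ∈ Subgroup.centralizer {equivG2 t0}
  rw [Subgroup.mem_centralizer_singleton_iff, Subgroup.mem_centralizer_singleton_iff, ← map_mul, ← map_mul,
    equivG2.injective.eq_iff]

theorem card_stab_exact : ∀ n ∈ live5, Nat.card (stabN n) = ord5 n := by
  classical
  haveI := finite_Ly
  haveI := card_F.1
  haveI : Fintype F := Fintype.ofFinite _
  haveI : Fintype (Spor.Ly ⧸ KL) := Fintype.ofFinite _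
  have hsum : (8835156 : ℕ) ≤ ∑ n ∈ live5.toFinset, (orb5 n).card := by
    rw [← index_KL, Subgroup.index, Nat.card_eq_fintype_card, ← Finset.card_univ]
    refine le_trans (Finset.card_le_card fun q _ => ?_) Finset.card_biUnion_le
    obtain ⟨n, hn, hq⟩ := cover5 q
    exact Finset.mem_biUnion.2 ⟨n, List.mem_toFinset.2 hn, hq⟩
  have hle : ∀ n ∈ live5.toFinset, (orb5 n).card ≤ (stabN n).index := by
    intro n _
    let f : F ⧸ stabN n → Spor.Ly ⧸ KL := fun q =>
      Quotient.liftOn' q (fun a => toLy a • qN n) fun a b hab => by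
        rw [QuotientGroup.leftRel_apply] at hab
        show ((toLy a * (crt.v n)⁻¹ : Spor.Ly) : Spor.Ly ⧸ KL) = ((toLy b * (crt.v n)⁻¹ : Spor.Ly) : Spor.Ly ⧸ KL)
        rw [QuotientGroup.eq]
        have : crt.v n * toLy (a⁻¹ * b) * (crt.v n)⁻¹ ∈ KL := hab
        simpa [mul_assoc] using this
    have h1 : orb5 n ⊆ Finset.univ.image f := by
      intro q hq
      obtain ⟨a, -, rfl⟩ := Finset.mem_image.1 hq
      exact Finset.mem_image.2 ⟨((a : F) : F ⧸ stabN n), Finset.mem_univ _, rfl⟩
    refine (Finset.card_le_card h1).trans (Finset.card_image_le.trans ?_)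
    rw [Finset.card_univ, Subgroup.index, Nat.card_eq_fintype_card]
  have hidx : ∀ n ∈ live5.toFinset, (stabN n).index ≤ size5 n := by
    intro n hn
    obtain ⟨h2, h3⟩ := stab_ord5 n (List.mem_toFinset.1 hn)
    have h4 := Subgroup.card_mul_index (stabN n)
    rw [card_F_eq] at h4
    rw [size5, Nat.le_div_iff_mul_le h2, ← h4, mul_comm]
    exact Nat.mul_le_mul_right _ h3
  have heq := (Finset.sum_eq_sum_iff_of_le hidx).1 (le_antisymm (Finset.sum_le_sum hidx) (by
    have hs : ∑ n ∈ live5.toFinset, size5 n = 8835156 := by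
      rw [List.sum_toFinset _ (by decide : live5.Nodup)]
      exact size5_sets.2
    rw [hs]
    exact hsum.trans (Finset.sum_le_sum hle)))
  intro n hn
  have h4 := Subgroup.card_mul_index (stabN n)
  rw [card_F_eq, heq n (List.mem_toFinset.2 hn)] at h4
  simp only [live5, List.mem_cons, List.not_mem_nil, or_false] at hn
  rcases hn with rfl | rfl | rfl | rfl | rfl <;> norm_num [size5, ord5] at h4 ⊢ <;> omega

/-- The bound on the square roots of one in a stabiliser. -/
def sqB : ℕ → ℕ
  | 1 => 25000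
  | 6 => 64
  | 9 => 212
  | _ => 106

theorem sq_roots : ∀ n ∈ live5, n ≠ 0 → Nat.card {s : stabN n // s * s = 1} ≤ sqB n := by
  haveI := card_F.1
  obtain ⟨h1, h6, h9, h12, g6, s6, g9, s9, g12, s12⟩ := live5_nodes
  obtain ⟨hw, hg1, hs1, hnd⟩ := k1_ok
  have key : ∀ (N : NodeCov) (O : Orb) (n c : ℕ), N.factsOK live5 = true → O.gens = (N.gens.map fun k => (crt.fact k).d) →
      matOK 7 O.start = true → O.okRange 0 n = true → O.colsDistinct n 0 = true → O.sqCheck 0 n c = true →
      Nat.card (stabN N.node) = n → Nat.card {s : stabN N.node // s * s = 1} ≤ c := by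
    intro N O n c hf hg h0 hok hd hsq hcard
    refine (card_sq_one_le O (stabN N.node) ⊥ (fun g hlt => ?_) h0 hok
      (fun i hi j hj e => (colsDistinct_sound O n 0 hd).2 i hi j hj (congrArg colCode e)) hsq bot_le bot_le
      (fun k _ => bot_le) (by rw [Subgroup.card_bot, mul_one, hcard])).trans (le_of_eq ?_)
    · rw [hg] at hlt ⊢
      exact stab_gens hf (by rwa [List.length_map] at hlt)
    · rw [Subgroup.card_bot, mul_one]
  intro n hn h0
  have hex := card_stab_exact n hn
  simp only [live5, List.mem_cons, List.not_mem_nil, or_false] at hn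
  rcases hn with rfl | rfl | rfl | rfl | rfl
  · exact absurd rfl h0
  · have hgens : ∀ g < orbK1.gens.length, ∃ a ∈ stabN 1, El (orbK1.gens.getD g []) a := by
      intro g hlt
      rw [hg1] at hlt ⊢
      exact h1 ▸ stab_gens cov1_facts (by rwa [List.length_map] at hlt)
    have hQ : Qc ≤ stabN 1 := by
      have hc : ∀ g < cov1.gens.length, ∃ a ∈ stabN 1, El ((cov1.gens.map fun k => (crt.fact k).d).getD g []) a :=
        fun g hlt => h1 ▸ stab_gens cov1_facts hlt
      refine (Subgroup.closure_le _).2 ?_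
      rintro _ ⟨k, hk, rfl⟩
      have hi : cSet.idxOf k < 5 := List.idxOf_lt_length_of_mem hk
      have h := List.all_eq_true.1 hw _ (List.mem_range.2 hi)
      simp only [Bool.and_eq_true, beq_iff_eq, List.all_eq_true, Nat.blt_eq] at h
      obtain ⟨a, ha, hA⟩ := tmat_mem hc _ h.2
      rw [h.1] at hA
      have hk' : wval fgen (lgW.getD (cSet.idxOf k) []) = fgen k := by
        simp only [cSet, List.mem_cons, List.not_mem_nil, or_false] at hk
        rcases hk with rfl | rfl | rfl | rfl | rfl <;> simp [cSet, lgW, wval, List.idxOf, List.findIdx, List.findIdx.go]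
      have hE := El.word (lgW.getD (cSet.idxOf k) []) (by
        simp only [cSet, List.mem_cons, List.not_mem_nil, or_false] at hk
        rcases hk with rfl | rfl | rfl | rfl | rfl <;> decide +kernel)
      rw [hk'] at hE
      rw [SetLike.mem_coe, El.unique hE hA]
      exact ha
    have hQc : Nat.card Qc = 3125 := le_antisymm (Fx_eq ▸ card_Fx) card_Qc_ge
    have h0' : matOK 7 orbK1.start = true := by rw [hs1]; decide +kernel
    have hfix : Qc ≤ fixer (toMat 7 orbK1.start) := by rw [hs1]; exact Qc_le_Fx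
    have := card_sq_one_le orbK1 (stabN 1) Qc hgens h0' orbK1_all
      (fun i hi j hj e => List.inj_on_of_nodup_map hnd (List.mem_range.2 hi) (List.mem_range.2 hj) e) k1_sq hQ hfix
      (fun k hk => le_trans Qc_le_Fx (fixer_frame (orbK1.reach (stabN 1) hgens h0' orbK1_all k hk).1
        (beq_iff_eq.1 (List.all_eq_true.1 k1_plane k (List.mem_range.2 hk)))))
      (by rw [hQc, hex]; rfl)
    rw [hQc] at this
    exact this
  · have := key cov6 cov6Orb 6048 64 cov6_facts g6 s6 cov6Orb_all cov6Orb_distinct cov6Orb_sq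
      (by rw [h6, hex]; rfl)
    rw [h6] at this
    exact this
  · have := key cov9 cov9Orb 2880 212 cov9_facts g9 s9 cov9Orb_all cov9Orb_distinct cov9Orb_sq
      (by rw [h9, hex]; rfl)
    rw [h9] at this
    exact this
  · have := key cov12 cov12Orb 1008 106 cov12_facts g12 s12 cov12Orb_all cov12Orb_distinct cov12Orb_sq
      (by rw [h12, hex]; rfl)
    rw [h12] at this
    exact this

/-- The bound on the fixed cosets in an orbit. -/
def fixB : ℕ → ℕ
  | 0 => 1
  | 1 => 1200
  | 6 => 152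
  | 9 => 1060
  | _ => 1514

open Classical in
theorem fix_orb [Fintype F] {n : ℕ} (hn : n ∈ live5) :
    ((orb5 n).filter fun q => tL • q = q).card ≤ fixB n := by
  classical
  haveI := card_F.1
  rcases eq_or_ne n 0 with rfl | h0
  · refine (Finset.card_filter_le _ _).trans ?_
    exact (card_orb5 hn).trans (le_of_eq (by decide +kernel))
  set Q := (orb5 n).filter fun q => tL • q = q with hQ
  have hrep : ∀ q : Q, ∃ a : F, toLy a • qN n = (q : Spor.Ly ⧸ KL) := fun q => by
    obtain ⟨a, -, ha⟩ := Finset.mem_image.1 (Finset.mem_filter.1 q.2).1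
    exact ⟨a, ha⟩
  choose r hr using hrep
  have hst : ∀ s ∈ stabN n, toLy s • qN n = qN n := by
    intro s hs
    show ((toLy s * (crt.v n)⁻¹ : Spor.Ly) : Spor.Ly ⧸ KL) = (((crt.v n)⁻¹ : Spor.Ly) : Spor.Ly ⧸ KL)
    rw [QuotientGroup.eq]
    have : crt.v n * toLy s⁻¹ * (crt.v n)⁻¹ ∈ KL := (stabN n).inv_mem hs
    simpa [mul_assoc] using this
  have hmem : ∀ a : F, tL • (toLy a • qN n) = toLy a • qN n → a⁻¹ * t0 * a ∈ stabN n := by
    intro a ha
    rw [← inv_smul_eq_iff, smul_smul, smul_smul, show tL = toLy t0 from rfl, ← map_inv, ← map_mul, ← map_mul] at ha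
    have h2 : ((toLy (a⁻¹ * t0 * a) * (crt.v n)⁻¹ : Spor.Ly) : Spor.Ly ⧸ KL) = (((crt.v n)⁻¹ : Spor.Ly) : Spor.Ly ⧸ KL) :=
      (by simpa only [mul_assoc] using ha : toLy (a⁻¹ * t0 * a) • qN n = qN n)
    rw [QuotientGroup.eq] at h2
    have h3 : (a⁻¹ * t0 * a)⁻¹ ∈ stabN n := by
      show crt.v n * toLy (a⁻¹ * t0 * a)⁻¹ * (crt.v n)⁻¹ ∈ KL
      simpa [mul_assoc] using h2
    simpa using (stabN n).inv_mem h3
  have hfix : ∀ z : Q × stabN n, tL • (toLy (r z.1 * z.2) • qN n) = toLy (r z.1 * z.2) • qN n := by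
    intro z
    rw [map_mul, mul_smul, hst _ z.2.2, hr]
    exact (Finset.mem_filter.1 z.1.2).2
  have hsq : ∀ a : F, (a⁻¹ * t0 * a) * (a⁻¹ * t0 * a) = 1 := fun a => by
    have h : t0 * t0 = 1 := toLy_injective (by rw [map_mul, map_one]; exact tL_sq)
    rw [show (a⁻¹ * t0 * a) * (a⁻¹ * t0 * a) = a⁻¹ * (t0 * t0) * a by group, h, mul_one, inv_mul_cancel]
  let R := {s : stabN n // s * s = 1}
  let u : Q × stabN n → R := fun z => ⟨⟨_, hmem _ (hfix z)⟩, Subtype.ext (hsq _)⟩
  let pick : R → F := fun s => if h : ∃ z, u z = s then r h.choose.1 * h.choose.2 else 1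
  have hpick : ∀ z, (r z.1 * (z.2 : F)) * (pick (u z))⁻¹ ∈ Subgroup.centralizer ({t0} : Set F) := by
    intro z
    have h : ∃ z', u z' = u z := ⟨z, rfl⟩
    simp only [pick, dif_pos h]
    have e : (r h.choose.1 * (h.choose.2 : F))⁻¹ * t0 * (r h.choose.1 * (h.choose.2 : F)) =
        (r z.1 * (z.2 : F))⁻¹ * t0 * (r z.1 * (z.2 : F)) := congrArg (fun s : R => ((s.1 : stabN n) : F)) h.choose_spec
    generalize r h.choose.1 * (h.choose.2 : F) = b at e ⊢
    generalize r z.1 * (z.2 : F) = a at e ⊢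
    rw [Subgroup.mem_centralizer_singleton_iff]
    calc a * b⁻¹ * t0 = a * (b⁻¹ * t0 * b) * b⁻¹ := by group
      _ = t0 * (a * b⁻¹) := by rw [e]; group
  have hψ : Function.Injective fun z : Q × stabN n =>
      ((u z, ⟨_, hpick z⟩) : R × Subgroup.centralizer ({t0} : Set F)) := by
    intro z w e
    simp only [Prod.mk.injEq, Subtype.mk.injEq] at e
    obtain ⟨eu, ec⟩ := e
    have eu' : u z = u w := eu
    have e2 : r z.1 * (z.2 : F) = r w.1 * (w.2 : F) := by
      have e3 : r z.1 * (z.2 : F) * (pick (u z))⁻¹ = r w.1 * (w.2 : F) * (pick (u w))⁻¹ := ec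
      rw [eu'] at e3
      exact mul_right_cancel e3
    have e4 := congrArg (fun a => toLy a • qN n) e2
    simp only [map_mul, mul_smul, hst _ z.2.2, hst _ w.2.2, hr] at e4
    have e5 : z.1 = w.1 := Subtype.ext e4
    rw [e5] at e2
    exact Prod.ext e5 (Subtype.ext (mul_left_cancel e2))
  have h := Nat.card_le_card_of_injective _ hψ
  rw [Nat.card_prod, Nat.card_prod, Nat.card_eq_fintype_card (α := Q), Fintype.card_coe, card_cent_t0,
    card_stab_exact n hn] at h
  have hR : Nat.card R ≤ sqB n := sq_roots n hn h0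
  simp only [live5, List.mem_cons, List.not_mem_nil, or_false] at hn
  rcases hn with rfl | rfl | rfl | rfl | rfl
  · exact absurd rfl h0
  all_goals
    simp only [ord5, sqB, fixB] at h hR ⊢
    omega

theorem card_cent : Nat.card (Subgroup.centralizer ({tL} : Set Spor.Ly)) = 39916800 ∧
    Dt = Subgroup.centralizer {tL} := by
  classical
  haveI := finite_Ly
  haveI := card_F.1
  haveI : Fintype F := Fintype.ofFinite _
  haveI : Fintype (Spor.Ly ⧸ KL) := Fintype.ofFinite _
  set C := Subgroup.centralizer ({tL} : Set Spor.Ly)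
  let Fix : Finset (Spor.Ly ⧸ KL) := Finset.univ.filter fun q => tL • q = q
  have hFix : Fix.card ≤ 3927 := by
    have h1 : Fix ⊆ live5.toFinset.biUnion fun n => (orb5 n).filter fun q => tL • q = q := by
      intro q hq
      obtain ⟨n, hn, hq'⟩ := cover5 q
      exact Finset.mem_biUnion.2 ⟨n, List.mem_toFinset.2 hn, Finset.mem_filter.2 ⟨hq', (Finset.mem_filter.1 hq).2⟩⟩
    refine (Finset.card_le_card h1).trans (Finset.card_biUnion_le.trans
      ((Finset.sum_le_sum (g := fixB) fun n hn => fix_orb (List.mem_toFinset.1 hn)).trans ?_))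
    rw [List.sum_toFinset _ (by decide : live5.Nodup)]
    decide +kernel
  have hq : ∀ c : C, (((c : Spor.Ly)) : Spor.Ly ⧸ KL) ∈ Fix := fun c => by
    refine Finset.mem_filter.2 ⟨Finset.mem_univ _, ?_⟩
    show ((tL * c : Spor.Ly) : Spor.Ly ⧸ KL) = _
    rw [← Subgroup.mem_centralizer_singleton_iff.1 c.2, QuotientGroup.eq, mul_inv_rev, inv_mul_cancel_right]
    exact inv_mem (⟨t0, rfl⟩ : tL ∈ KL)
  let pick : Fix → C := fun q => if h : ∃ c : C, ((c : Spor.Ly) : Spor.Ly ⧸ KL) = q then h.choose else 1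
  have hpick : ∀ c : C, ∃ a : F, (toLy a = ((pick ⟨_, hq c⟩ : C) : Spor.Ly)⁻¹ * c) ∧
      a ∈ Subgroup.centralizer ({t0} : Set F) := by
    intro c
    have h : ∃ d : C, ((d : Spor.Ly) : Spor.Ly ⧸ KL) = ((c : Spor.Ly) : Spor.Ly ⧸ KL) := ⟨c, rfl⟩
    simp only [pick, dif_pos h]
    obtain ⟨a, ha⟩ := QuotientGroup.eq.1 h.choose_spec
    refine ⟨a, ha, Subgroup.mem_centralizer_singleton_iff.2 (toLy_injective ?_)⟩
    rw [map_mul, map_mul, ha]
    exact Subgroup.mem_centralizer_singleton_iff.1 (mul_mem (inv_mem h.choose.2) c.2)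
  choose φ hφ hφC using hpick
  have hinj : Function.Injective fun c : C =>
      ((⟨_, hq c⟩, ⟨φ c, hφC c⟩) : Fix × Subgroup.centralizer ({t0} : Set F)) := by
    intro c d e
    simp only [Prod.mk.injEq, Subtype.mk.injEq] at e
    have e1 : (⟨_, hq c⟩ : Fix) = ⟨_, hq d⟩ := Subtype.ext e.1
    have e2 := hφ c
    rw [e.2, hφ d, e1] at e2
    exact Subtype.ext (mul_left_cancel e2).symm
  have h := Nat.card_le_card_of_injective _ hinj
  rw [Nat.card_prod, Nat.card_eq_fintype_card (α := Fix), Fintype.card_coe, card_cent_t0] at h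
  have hdvd : Nat.card C ∣ 51765179004000000 := card_Ly ▸ Subgroup.card_subgroup_dvd_card C
  obtain ⟨k, hk⟩ := Subgroup.card_dvd_of_le Dt_le
  rw [card_Dt] at hk
  change Nat.card C = 39916800 * k at hk
  have hpos : 0 < Nat.card C := Nat.card_pos
  have hk2 : k = 1 ∨ k = 2 := by
    have : Nat.card C ≤ 3927 * 14400 := h.trans (Nat.mul_le_mul_right _ hFix)
    omega
  have hk1 : k = 1 := by
    rcases hk2 with hk2 | hk2
    · exact hk2
    · exfalso
      rw [hk, hk2] at hdvd
      norm_num at hdvd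
  rw [hk1, mul_one] at hk
  exact ⟨hk, Subgroup.eq_of_le_of_card_ge Dt_le (by rw [card_Dt, ← hk])⟩

end Cfsg.Lib.LyPres
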