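import Cfsg.Agent.LyPres.InvolCent
import Cfsg.Agent.LyPres.FusCheck
import Cfsg.Agent.LyPres.AltSylow
import Cfsg.Agent.Fusion.SelfNormalizingSylow

/-!
One class of involutions in the presented Lyons group, and its two-fusion system is simple: a Sylow two-subgroup
lies in the double cover, is generated by involutions, has centre of order two and is its own normaliser.
-/

set_option autoImplicit false
set_option maxRecDepth 100000
set_option Elab.async false

namespace Cfsg.Lib.LyPres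

open Cfsg.Spor Equiv
open Cfsg.Lib.LyPres.Eleven (gPerm wPerm wPerm_append genW elW P11 evN imgsN perm_ext evN_spec elW_ok genW_ok)

attribute [local irreducible] one111 let111 rho111 mul1

/-- A generator as an even permutation. -/
def qA (i : Fin (11 - 2)) : alternatingGroup (Fin 11) :=
  ⟨gPerm i.val, Perm.mem_alternatingGroup.2 (Eleven.sign_gPerm i.isLt)⟩

theorem qA_data : (∀ i : Fin (11 - 2), i.val = 0 → gPerm i.val ^ 3 = 1) ∧
    (∀ i : Fin (11 - 2), 1 ≤ i.val → gPerm i.val ^ 2 = 1) ∧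
    (∀ i j : Fin (11 - 2), j.val = i.val + 1 → (gPerm i.val * gPerm j.val) ^ 3 = 1) ∧
    (∀ i j : Fin (11 - 2), i.val + 1 < j.val → (gPerm i.val * gPerm j.val) ^ 2 = 1) ∧
    gPerm 0 ≠ 1 := by
  decide +kernel

theorem qA_rels : ∀ r ∈ altR, FreeGroup.lift qA r = 1 := by
  intro r hr
  rcases hr with ((⟨i, hi, rfl⟩ | ⟨i, hi, rfl⟩) | ⟨i, j, hj, rfl⟩) | ⟨i, j, hj, rfl⟩ <;>
    simp only [map_pow, map_mul, FreeGroup.lift_apply_of, qA] <;> apply Subtype.ext <;>
    simp only [SubmonoidClass.coe_pow, Subgroup.coe_mul, OneMemClass.coe_one]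
  · exact qA_data.1 i hi
  · exact qA_data.2.1 i hi
  · exact qA_data.2.2.1 i j hj
  · exact qA_data.2.2.2.1 i j hj

/-- The map to permutations of the presented group. -/
noncomputable def gA : PresentedGroup altR →* alternatingGroup (Fin 11) := PresentedGroup.toGroup qA_rels

theorem gA_bijective : Function.Bijective gA := by
  obtain ⟨e⟩ := Cfsg.Lib.Presentations.Carmichael.presentation 11 (by norm_num)
  haveI : IsSimpleGroup (alternatingGroup (Fin 11)) := alternatingGroup.isSimpleGroup (by simp)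
  haveI : IsSimpleGroup (PresentedGroup altR) := e.isSimpleGroup
  have hinj : Function.Injective gA := by
    rw [← MonoidHom.ker_eq_bot_iff]
    refine gA.normal_ker.eq_bot_or_eq_top.resolve_right fun h => qA_data.2.2.2.2 ?_
    have h1 : gA (PresentedGroup.of ⟨0, by norm_num⟩) = 1 :=
      (h ▸ Subgroup.mem_top _ : PresentedGroup.of ⟨0, by norm_num⟩ ∈ gA.ker)
    rw [gA, PresentedGroup.toGroup.of] at h1
    exact congrArg Subtype.val h1
  haveI : Finite (PresentedGroup altR) := Finite.of_equiv _ e.symm.toEquiv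
  exact (Nat.bijective_iff_injective_and_card gA).2 ⟨hinj, Nat.card_congr e.toEquiv⟩

/-- The double cover seen on eleven letters. -/
noncomputable def fD : Dt →* Perm (Fin 11) :=
  (alternatingGroup (Fin 11)).subtype.comp (gA.comp
    (((MulEquiv.ofBijective altHom altHom_bijective).symm.toMonoidHom).comp (QuotientGroup.mk' Tn)))

theorem fD_gE {i : ℕ} (hi : i < 9) : fD ⟨gE i, gE_mem hi⟩ = gPerm i := by
  have h : (MulEquiv.ofBijective altHom altHom_bijective).symm (QuotientGroup.mk ⟨gE i, gE_mem hi⟩) =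
      PresentedGroup.of (⟨i, hi⟩ : Fin (11 - 2)) := by
    rw [MulEquiv.symm_apply_eq]
    show (QuotientGroup.mk ⟨gE i, gE_mem hi⟩ : Dt ⧸ Tn) = altHom (PresentedGroup.of (⟨i, hi⟩ : Fin (11 - 2)))
    rw [altHom, PresentedGroup.toGroup.of]
    rfl
  show ((gA ((MulEquiv.ofBijective altHom altHom_bijective).symm (QuotientGroup.mk ⟨gE i, gE_mem hi⟩)) :
    alternatingGroup (Fin 11)) : Perm (Fin 11)) = _
  rw [h, gA, PresentedGroup.toGroup.of]
  rfl

theorem fD_ker {d : Dt} : fD d = 1 ↔ d ∈ Tn := by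
  rw [← QuotientGroup.eq_one_iff]
  refine ⟨fun h => ?_, fun h => ?_⟩
  · have h1 : gA ((MulEquiv.ofBijective altHom altHom_bijective).symm (d : Dt ⧸ Tn)) = 1 := Subtype.ext h
    rw [map_eq_one_iff gA gA_bijective.1, EmbeddingLike.map_eq_one_iff] at h1
    exact h1
  · show ((gA ((MulEquiv.ofBijective altHom altHom_bijective).symm (d : Dt ⧸ Tn)) : alternatingGroup (Fin 11)) :
      Perm (Fin 11)) = 1
    rw [h, map_one, map_one]
    rfl

theorem fD_even (d : Dt) : Perm.sign (fD d) = 1 := Perm.mem_alternatingGroup.1 (SetLike.coe_mem _)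

theorem fD_surjective {p : Perm (Fin 11)} (hp : Perm.sign p = 1) : ∃ d, fD d = p := by
  obtain ⟨a, ha⟩ := gA_bijective.2 ⟨p, Perm.mem_alternatingGroup.2 hp⟩
  obtain ⟨d, hd⟩ := QuotientGroup.mk_surjective (altHom a)
  refine ⟨d, ?_⟩
  show ((gA ((MulEquiv.ofBijective altHom altHom_bijective).symm (d : Dt ⧸ Tn)) : alternatingGroup (Fin 11)) :
    Perm (Fin 11)) = p
  rw [show (MulEquiv.ofBijective altHom altHom_bijective).symm (d : Dt ⧸ Tn) = a by
    rw [MulEquiv.symm_apply_eq]; exact hd, ha]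

theorem mem_Tn_iff {d : Dt} : d ∈ Tn ↔ (d : Spor.Ly) = 1 ∨ (d : Spor.Ly) = tL := by
  constructor
  · rintro ⟨k, rfl⟩
    show tL ^ k = 1 ∨ tL ^ k = tL
    rcases Int.even_or_odd k with ⟨m, rfl⟩ | ⟨m, rfl⟩
    · left; rw [← two_mul, zpow_mul, zpow_two, tL_sq, one_zpow]
    · right; rw [zpow_add, zpow_mul, zpow_two, tL_sq, one_zpow, one_mul, zpow_one]
  · rintro (h | h)
    · rw [show d = 1 from Subtype.ext h]; exact one_mem _
    · rw [show d = ⟨tL, tL_mem⟩ from Subtype.ext h]; exact Subgroup.mem_zpowers _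

/-- The lift of four transpositions. -/
noncomputable def uE : Spor.Ly := wG xInv uWord

theorem uE_eq : uE = gE 1 * gE 3 * gE 5 := by
  rw [uE, uWord, wG_append, wG_append]
  rfl

theorem uE_mem : uE ∈ Dt := by
  rw [uE_eq]
  exact mul_mem (mul_mem (gE_mem (by norm_num)) (gE_mem (by norm_num))) (gE_mem (by norm_num))

theorem fD_uE : fD ⟨uE, uE_mem⟩ = wPerm [1, 3, 5] := by
  have h : (⟨uE, uE_mem⟩ : Dt) =
      ⟨gE 1, gE_mem (by norm_num)⟩ * ⟨gE 3, gE_mem (by norm_num)⟩ * ⟨gE 5, gE_mem (by norm_num)⟩ := Subtype.ext uE_eq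
  rw [h, map_mul, map_mul, fD_gE (show 1 < 9 by norm_num), fD_gE (show 3 < 9 by norm_num),
    fD_gE (show 5 < 9 by norm_num)]
  simp [Eleven.wPerm, mul_assoc]

theorem uE_sq : uE * uE = 1 := by
  have h := sameX u_sq
  rwa [wG_append] at h

theorem uE_anti : uE * gE 7 ≠ gE 7 * uE := by
  intro h
  have h' := u_anti
  simp only [Bool.and_eq_true, Bool.not_eq_true', beq_eq_false_iff_ne] at h'
  have a := wN_ok xInv_paired _ h'.1.1
  have b := wN_ok xInv_paired _ h'.1.2
  rw [wG_append] at a b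
  rw [show wG xInv uWord * wG xInv (gW 7) = wG xInv (gW 7) * wG xInv uWord from h] at a
  exact h'.2 (small_inj a.1 b.1 (a.2.trans b.2.symm))

/-- The values of the longer program in the group. -/
noncomputable def xFus : List Spor.Ly := slpRunG progFus xInv

theorem xFus_paired : Paired vFus xFus := slp_paired _ _ _ _ xInv_paired progFus_ok

theorem wG_fus (w : List ℕ) (h : (w.all fun i => Nat.blt i vInv.length) = true) : wG xFus w = wG xInv w := by
  refine congrArg List.prod (List.map_congr_left fun i hi => ?_)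
  refine slpRunG_prefix _ _ _ ?_
  rw [← xInv_paired.1]
  simpa [Nat.blt_eq] using List.all_eq_true.1 h i hi

theorem conj_u : (∃ w : Spor.Ly, w * uE * w⁻¹ = tL) ∧ ∃ w : Spor.Ly, w * (uE * tL) * w⁻¹ = tL := by
  have hl := u_low
  have hu : wG xFus uWord = uE := wG_fus _ (by rw [List.all_append, Bool.and_eq_true] at hl; exact hl.1)
  have ht : wG xFus tWord = tL := by
    rw [wG_fus _ (by rw [List.all_append, Bool.and_eq_true] at hl; exact hl.2), tWord_val]
  have h0 := sameW111_sound xFus_paired rho111_injective wit_zero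
  have h1 := sameW111_sound xFus_paired rho111_injective wit_one
  simp only [wG_append, hu, ht] at h0 h1
  exact ⟨⟨_, mul_inv_eq_iff_eq_mul.2 h0.symm⟩, ⟨_, mul_inv_eq_iff_eq_mul.2 h1.symm⟩⟩

theorem eight_support : (wPerm [1, 3, 5]).support.card = 8 ∧
    wPerm [1, 3, 5] * wPerm [1, 3, 5] = 1 ∧ (gPerm 1).support.card = 4 ∧ gPerm 1 * gPerm 1 = 1 := by
  decide +kernel

theorem cycleType_invol {p : Perm (Fin 11)} (h : p * p = 1) (h1 : p ≠ 1) :
    ∃ n, p.cycleType = Multiset.replicate n 2 ∧ p.support.card = 2 * n := by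
  have ho : orderOf p = 2 := by
    haveI := Fact.mk Nat.prime_two
    exact orderOf_eq_prime (by rw [pow_two, h]) h1
  obtain ⟨n, hn⟩ := Perm.cycleType_prime_order (show (orderOf p).Prime by rw [ho]; exact Nat.prime_two)
  rw [ho] at hn
  exact ⟨n + 1, hn, by rw [← Perm.sum_cycleType, hn, Multiset.sum_replicate, smul_eq_mul, mul_comm]⟩

theorem conj_even {p q : Perm (Fin 11)} (hc : p.cycleType = q.cycleType) (hs : p.support.card ≤ 8) :
    ∃ σ : Perm (Fin 11), Perm.sign σ = 1 ∧ σ * p * σ⁻¹ = q := by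
  obtain ⟨σ, hσ⟩ := isConj_iff.1 (Perm.isConj_iff_cycleType_eq.2 hc)
  rcases Int.units_eq_one_or (Perm.sign σ) with h | h
  · exact ⟨σ, h, hσ⟩
  obtain ⟨a, ha, b, hb, hab⟩ := Finset.one_lt_card.1 (show 1 < p.supportᶜ.card by
    rw [Finset.card_compl, Fintype.card_fin]; omega)
  rw [Finset.mem_compl, Perm.notMem_support] at ha hb
  refine ⟨σ * swap a b, by rw [map_mul, h, Perm.sign_swap hab]; rfl, ?_⟩
  rw [mul_inv_rev, show (swap a b : Perm (Fin 11))⁻¹ = swap a b from Equiv.swap_inv _ _,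
    show σ * swap a b * p * (swap a b * σ⁻¹) = σ * (swap a b * p * swap a b) * σ⁻¹ by group]
  have e : swap a b * p * swap a b = p := by
    have h2 := Equiv.swap_apply_apply p a b
    rw [ha, hb] at h2
    calc swap a b * p * swap a b = swap a b * (p * swap a b * p⁻¹) * p := by group
      _ = p := by rw [← h2, Equiv.swap_mul_self, one_mul]
  rw [e, hσ]

theorem invol_Dt {y : Dt} (h : (y : Spor.Ly) * y = 1) (h1 : (y : Spor.Ly) ≠ 1) :
    (∃ g : Spor.Ly, g * tL * g⁻¹ = y) := by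
  rcases em ((y : Spor.Ly) = tL) with e | e
  · exact ⟨1, by rw [e]; simp⟩
  set p := fD y with hp
  have hp1 : p ≠ 1 := fun hh => by
    rcases mem_Tn_iff.1 (fD_ker.1 hh) with a | a
    · exact h1 a
    · exact e a
  have hpp : p * p = 1 := by rw [hp, ← map_mul, show y * y = 1 from Subtype.ext h, map_one]
  obtain ⟨n, hn, hsupp⟩ := cycleType_invol hpp hp1
  have hle : p.support.card ≤ 11 := le_trans (Finset.card_le_univ _) (le_of_eq (Fintype.card_fin 11))
  have heven : n % 2 = 0 := by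
    have h2 := fD_even y
    rw [← hp, Perm.sign_of_cycleType, hn, Multiset.sum_replicate, Multiset.card_replicate, smul_eq_mul] at h2
    have h3 := Units.ext_iff.1 h2
    rcases Nat.even_or_odd (n * 2 + n) with hh | hh
    · obtain ⟨m, hm⟩ := hh; omega
    · rw [hh.neg_one_pow] at h2; exact absurd h2 (by decide)
  have hn1 : n ≠ 0 := fun h0 => by
    subst h0
    simp at hn
    exact hp1 hn
  obtain ⟨hc8, hu2, hc4, hg2⟩ := eight_support
  have hz : ∀ d : Dt, fD d = p → (y : Spor.Ly) = d ∨ (y : Spor.Ly) = d * tL := by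
    intro d hd
    rcases mem_Tn_iff.1 (fD_ker.1 (show fD (d⁻¹ * y) = 1 by rw [map_mul, map_inv, hd, hp, inv_mul_cancel])) with a | a
    · left
      exact (inv_mul_eq_one.1 a).symm
    · right
      exact inv_mul_eq_iff_eq_mul.1 a
  have hcase : n = 2 ∨ n = 4 := by omega
  rcases hcase with rfl | rfl
  · exfalso
    obtain ⟨m, hm, hm'⟩ := cycleType_invol hg2 (fun hh => by rw [hh] at hc4; simp at hc4)
    have hm2 : m = 2 := by omega
    subst hm2
    obtain ⟨σ, hσ, hσe⟩ := conj_even (hm.trans hn.symm) (by omega)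
    obtain ⟨c, hc⟩ := fD_surjective hσ
    have hd : fD (c * ⟨gE 1, gE_mem (by norm_num)⟩ * c⁻¹) = p := by
      rw [map_mul, map_mul, map_inv, fD_gE (show 1 < 9 by norm_num), hc, hσe]
    have hsq : ((c : Spor.Ly) * gE 1 * (c : Spor.Ly)⁻¹) * ((c : Spor.Ly) * gE 1 * (c : Spor.Ly)⁻¹) = tL := by
      rw [show (c : Spor.Ly) * gE 1 * (c : Spor.Ly)⁻¹ * ((c : Spor.Ly) * gE 1 * (c : Spor.Ly)⁻¹) = c * (gE 1 * gE 1) * (c : Spor.Ly)⁻¹ by group,
        gE_one_sq, Subgroup.mem_centralizer_singleton_iff.1 (Dt_le c.2), mul_inv_cancel_right]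
    have hct : (tL : Spor.Ly) * ((c : Spor.Ly) * gE 1 * (c : Spor.Ly)⁻¹) = (c : Spor.Ly) * gE 1 * (c : Spor.Ly)⁻¹ * tL :=
      (Subgroup.mem_centralizer_singleton_iff.1 (Dt_le (mul_mem (mul_mem c.2 (gE_mem (by norm_num))) (inv_mem c.2)))).symm
    rcases hz _ hd with a | a <;> rw [a] at h <;> simp only [Subgroup.coe_mul, InvMemClass.coe_inv] at h
    · rw [hsq] at h; exact tL_ne h
    · rw [show ∀ d : Spor.Ly, d * tL * (d * tL) = d * (tL * d) * tL from fun d => by group, hct,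
        show ∀ d : Spor.Ly, d * (d * tL) * tL = d * d * (tL * tL) from fun d => by group, hsq, tL_sq, mul_one] at h
      exact tL_ne h
  · obtain ⟨m, hm, hm'⟩ := cycleType_invol hu2 (fun hh => by rw [hh] at hc8; simp at hc8)
    have hm2 : m = 4 := by omega
    subst hm2
    obtain ⟨σ, hσ, hσe⟩ := conj_even (hm.trans hn.symm) (by omega)
    obtain ⟨c, hc⟩ := fD_surjective hσ
    have hd : fD (c * ⟨uE, uE_mem⟩ * c⁻¹) = p := by
      rw [map_mul, map_mul, map_inv, fD_uE, hc, hσe]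
    obtain ⟨⟨w, hw⟩, ⟨w', hw'⟩⟩ := conj_u
    rcases hz _ hd with a | a <;> simp only [Subgroup.coe_mul, InvMemClass.coe_inv] at a
    · refine ⟨(c : Spor.Ly) * w⁻¹, ?_⟩
      rw [a, ← hw]
      group
    · refine ⟨(c : Spor.Ly) * w'⁻¹, ?_⟩
      rw [a, ← hw', show (c : Spor.Ly) * uE * (c : Spor.Ly)⁻¹ * (w' * (uE * tL) * w'⁻¹) =
        (c : Spor.Ly) * uE * (c : Spor.Ly)⁻¹ * tL by rw [hw'],
        mul_assoc _ _ tL, show ((c : Spor.Ly))⁻¹ * tL = tL * (c : Spor.Ly)⁻¹ from
          Subgroup.mem_centralizer_singleton_iff.1 (Dt_le (inv_mem c.2))]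
      group

/-- A lift of a word. -/
noncomputable def liftW (w : List ℕ) : Dt :=
  (w.map fun i => if h : i < 9 then (⟨gE i, gE_mem h⟩ : Dt) else 1).prod

theorem fD_liftW : ∀ w : List ℕ, (w.all fun i => Nat.blt i 9) = true → fD (liftW w) = wPerm w
  | [], _ => map_one fD
  | i :: w, h => by
    simp only [List.all_cons, Bool.and_eq_true, Nat.blt_eq] at h
    rw [liftW, List.map_cons, List.prod_cons, map_mul, dif_pos h.1, fD_gE h.1, Eleven.wPerm_cons]
    congr 1
    exact fD_liftW w h.2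

/-- The Sylow subgroup. -/
noncomputable def Sy : Subgroup Spor.Ly := (P11.comap fD).map Dt.subtype

theorem mem_Sy {x : Spor.Ly} : x ∈ Sy ↔ ∃ h : x ∈ Dt, fD ⟨x, h⟩ ∈ P11 := by
  constructor
  · rintro ⟨d, hd, rfl⟩
    exact ⟨d.2, hd⟩
  · rintro ⟨h, hx⟩
    exact ⟨⟨x, h⟩, hx, rfl⟩

theorem card_Sy : Nat.card Sy = 256 := by
  haveI := finite_Ly
  rw [Sy, Subgroup.card_map_of_injective Dt.subtype_injective]
  let f : P11.comap fD →* P11 := (fD.comp (P11.comap fD).subtype).codRestrict P11 fun x => x.2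
  have hf : Function.Surjective f := by
    rintro ⟨p, hp⟩
    obtain ⟨d, hd⟩ := fD_surjective (Eleven.P11_even hp)
    exact ⟨⟨d, show fD d ∈ P11 from hd ▸ hp⟩, Subtype.ext hd⟩
  have hk : f.ker = Tn.subgroupOf (P11.comap fD) := by
    ext x
    rw [MonoidHom.mem_ker, Subgroup.mem_subgroupOf, ← fD_ker]
    exact ⟨fun h => congrArg Subtype.val h, fun h => Subtype.ext h⟩
  have hle : Tn ≤ P11.comap fD := fun x hx => by
    show fD x ∈ P11
    rw [fD_ker.2 hx]
    exact one_mem _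
  rw [Subgroup.card_eq_card_quotient_mul_card_subgroup f.ker,
    Nat.card_congr (QuotientGroup.quotientKerEquivOfSurjective f hf).toEquiv, Eleven.card_P11, hk,
    Nat.card_congr (Subgroup.subgroupOfEquivOfLe hle).toEquiv, card_Tn]

theorem tL_Sy : tL ∈ Sy := mem_Sy.2 ⟨tL_mem, by
  rw [fD_ker.2 (Subgroup.mem_zpowers _)]; exact one_mem _⟩

theorem fus_data : (imgsN [1, 3, 5] == imgsN (elW 127)) = true ∧ imgsN (genW 0) = imgsN [7] ∧
    ((List.range 3).all fun j => ((sylInv.getD j []).all fun k => Nat.blt k 128 &&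
      imgsN (elW k ++ elW k) == imgsN [] &&
      ((List.range 11).filter fun x => !(Nat.beq (evN (elW k) x) x)).length == 8) &&
      imgsN ((sylInv.getD j []).flatMap elW) == imgsN (genW j)) = true := by
  decide +kernel

theorem syl_center {x : Spor.Ly} (hx : x ∈ Sy) (h : ∀ q ∈ Sy, Commute x q) : x = 1 ∨ x = tL := by
  obtain ⟨hxD, hxP⟩ := mem_Sy.1 hx
  have hc : ∀ j < 3, fD ⟨x, hxD⟩ * wPerm (genW j) = wPerm (genW j) * fD ⟨x, hxD⟩ := by
    intro j hj
    rw [← fD_liftW _ (genW_ok hj), ← map_mul, ← map_mul]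
    refine congrArg fD (Subtype.ext (h _ (mem_Sy.2 ⟨(liftW (genW j)).2, ?_⟩)).eq)
    rw [Subtype.coe_eta, fD_liftW _ (genW_ok hj)]
    exact Subgroup.subset_closure ⟨j, hj, rfl⟩
  rcases Eleven.center_P11 hxP hc with e | e
  · exact mem_Tn_iff.1 (fD_ker.1 e)
  exfalso
  have e135 : wPerm [1, 3, 5] = wPerm (elW 127) :=
    perm_ext (by decide) (elW_ok (by norm_num)) (beq_iff_eq.1 fus_data.1)
  have hk : fD (⟨uE, uE_mem⟩⁻¹ * ⟨x, hxD⟩) = 1 := by rw [map_mul, map_inv, fD_uE, e135, e, inv_mul_cancel]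
  have hg7 : gE 7 ∈ Sy := mem_Sy.2 ⟨gE_mem (by norm_num), by
    rw [fD_gE (show 7 < 9 by norm_num), show gPerm 7 = wPerm [7] by simp [Eleven.wPerm],
      ← perm_ext (genW_ok (by norm_num)) (by decide) fus_data.2.1]
    exact Subgroup.subset_closure ⟨0, by norm_num, rfl⟩⟩
  have hc7 : x * gE 7 = gE 7 * x := (h _ hg7).eq
  rcases mem_Tn_iff.1 (fD_ker.1 hk) with a | a <;> simp only [Subgroup.coe_mul, InvMemClass.coe_inv] at a
  · rw [inv_mul_eq_one] at a
    exact uE_anti (a ▸ hc7)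
  · rw [inv_mul_eq_iff_eq_mul] at a
    rw [a, mul_assoc, gE_comm (by norm_num), ← mul_assoc, ← mul_assoc] at hc7
    exact uE_anti (mul_right_cancel hc7)

theorem filter_support {w : List ℕ} (hw : (w.all fun i => Nat.blt i 9) = true) :
    (wPerm w).support.card = ((List.range 11).filter fun x => !(Nat.beq (evN w x) x)).length := by
  rw [← List.toFinset_card_of_nodup ((List.nodup_range (n := 11)).filter _)]
  refine Finset.card_bij (fun x _ => x.val) (fun x hx => ?_) (fun a _ b _ e => Fin.ext e) fun b hb => ?_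
  · rw [Perm.mem_support] at hx
    simp only [List.mem_toFinset, List.mem_filter, List.mem_range, Bool.not_eq_true', Bool.eq_false_iff]
    refine ⟨x.isLt, fun e => hx (Fin.ext ?_)⟩
    rw [evN_spec w x hw]
    exact Nat.eq_of_beq_eq_true e
  · simp only [List.mem_toFinset, List.mem_filter, List.mem_range, Bool.not_eq_true', Bool.eq_false_iff] at hb
    refine ⟨⟨b, hb.1⟩, ?_, rfl⟩
    rw [Perm.mem_support]
    intro e
    exact hb.2 (by rw [show evN w b = b from (evN_spec w ⟨b, hb.1⟩ hw).symm.trans (congrArg Fin.val e)]; exact Nat.beq_refl _)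

theorem lift_eight_sq {d : Dt} (h2 : fD d * fD d = 1) (h8 : (fD d).support.card = 8) : (d : Spor.Ly) * d = 1 := by
  obtain ⟨hc8, hu2, -, -⟩ := eight_support
  obtain ⟨m, hm, hm'⟩ := cycleType_invol h2 (fun hh => by rw [hh] at h8; simp at h8)
  obtain ⟨n, hn, hn'⟩ := cycleType_invol hu2 (fun hh => by rw [hh] at hc8; simp at hc8)
  obtain ⟨σ, hσ, hσe⟩ := conj_even (hn.trans ((show n = m by omega) ▸ hm.symm)) (by omega)
  obtain ⟨c, hc⟩ := fD_surjective hσ
  set d' := c * (⟨uE, uE_mem⟩ : Dt) * c⁻¹ with hd'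
  have hf : fD d' = fD d := by rw [hd', map_mul, map_mul, map_inv, fD_uE, hc, hσe]
  have hk : d'⁻¹ * d ∈ Tn := fD_ker.1 (by rw [map_mul, map_inv, hf, inv_mul_cancel])
  have hsq' : d' * d' = 1 := by
    rw [hd', show c * (⟨uE, uE_mem⟩ : Dt) * c⁻¹ * (c * ⟨uE, uE_mem⟩ * c⁻¹) =
      c * (⟨uE, uE_mem⟩ * ⟨uE, uE_mem⟩) * c⁻¹ by group,
      show (⟨uE, uE_mem⟩ : Dt) * ⟨uE, uE_mem⟩ = 1 from Subtype.ext uE_sq, mul_one, mul_inv_cancel]
  have hz : (d'⁻¹ * d) * (d'⁻¹ * d) = 1 := by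
    rcases mem_Tn_iff.1 hk with a | a <;> refine Subtype.ext ?_
    · show (((d'⁻¹ * d : Dt)) : Spor.Ly) * ((d'⁻¹ * d : Dt) : Spor.Ly) = 1
      rw [a, one_mul]
    · show (((d'⁻¹ * d : Dt)) : Spor.Ly) * ((d'⁻¹ * d : Dt) : Spor.Ly) = 1
      rw [a, tL_sq]
  have hd : d = d' * (d'⁻¹ * d) := (mul_inv_cancel_left d' d).symm
  have hcm : (d'⁻¹ * d) * d' = d' * (d'⁻¹ * d) := (Subgroup.mem_center_iff.1 (Tn_le_center hk) d').symm
  have : d * d = 1 := by
    conv_lhs => rw [hd]
    rw [show d' * (d'⁻¹ * d) * (d' * (d'⁻¹ * d)) = d' * ((d'⁻¹ * d) * d') * (d'⁻¹ * d) by group, hcm,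
      show d' * (d' * (d'⁻¹ * d)) * (d'⁻¹ * d) = d' * d' * ((d'⁻¹ * d) * (d'⁻¹ * d)) by group, hsq', hz, one_mul]
  exact congrArg Subtype.val this

theorem Sy_invol : Sy ≤ Subgroup.closure {x | x ∈ Sy ∧ x * x = 1} := by
  set U := Subgroup.closure {x : Spor.Ly | x ∈ Sy ∧ x * x = 1}
  let M : Subgroup (Perm (Fin 11)) := (U.comap Dt.subtype).map fD
  have hU : ∀ d : Dt, fD d ∈ M → (d : Spor.Ly) ∈ U := by
    rintro d ⟨e, he, hde⟩
    have hk : e⁻¹ * d ∈ Tn := fD_ker.1 (by rw [map_mul, map_inv, hde, inv_mul_cancel])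
    have hT : ((e⁻¹ * d : Dt) : Spor.Ly) ∈ U := by
      rcases mem_Tn_iff.1 hk with a | a <;> rw [a]
      · exact one_mem _
      · exact Subgroup.subset_closure ⟨tL_Sy, tL_sq⟩
    have := mul_mem (show (e : Spor.Ly) ∈ U from he) hT
    rwa [← Subgroup.coe_mul, mul_inv_cancel_left] at this
  have hP : P11 ≤ M := by
    refine (Subgroup.closure_le _).2 ?_
    rintro _ ⟨j, hj, rfl⟩
    have h := List.all_eq_true.1 fus_data.2.2 j (List.mem_range.2 hj)
    simp only [Bool.and_eq_true, List.all_eq_true, Nat.blt_eq, beq_iff_eq] at h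
    obtain ⟨hk, himg⟩ := h
    have hok : (((sylInv.getD j []).flatMap elW).all fun i => Nat.blt i 9) = true := by
      rw [List.all_eq_true]
      intro i hi
      obtain ⟨k, hkm, hik⟩ := List.mem_flatMap.1 hi
      exact List.all_eq_true.1 (elW_ok (hk k hkm).1.1) i hik
    rw [SetLike.mem_coe, ← perm_ext hok (genW_ok hj) himg]
    clear himg hok
    generalize sylInv.getD j [] = l at hk
    induction l with
    | nil => exact one_mem _
    | cons k l ih =>
      obtain ⟨⟨hk1, hk2⟩, hk3⟩ := hk k List.mem_cons_self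
      rw [List.flatMap_cons, wPerm_append]
      refine mul_mem ?_ (ih fun q hq => hk q (List.mem_cons_of_mem k hq))
      have hok := elW_ok hk1
      refine ⟨liftW (elW k), ?_, fD_liftW _ hok⟩
      refine Subgroup.subset_closure ⟨mem_Sy.2 ⟨(liftW (elW k)).2, ?_⟩, ?_⟩
      · show fD (liftW (elW k)) ∈ P11
        rw [fD_liftW _ hok]
        exact Eleven.mem_P11 hk1
      · refine lift_eight_sq ?_ ?_
        · rw [fD_liftW _ hok, ← wPerm_append, ← show wPerm [] = 1 from rfl]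
          exact perm_ext (by rw [List.all_append, hok]; rfl) rfl hk2
        · rw [fD_liftW _ hok, filter_support hok]
          exact hk3
  intro x hx
  obtain ⟨hxD, hxP⟩ := mem_Sy.1 hx
  exact hU ⟨x, hxD⟩ (hP hxP)

theorem normalizer_Sy : Subgroup.normalizer (Sy : Set Spor.Ly) ≤ Sy := by
  intro x hx
  have hn := Subgroup.mem_normalizer_iff.1 hx
  have hxt : x * tL = tL * x := by
    have hm : x * tL * x⁻¹ ∈ Sy := (hn _).1 tL_Sy
    rcases syl_center hm (fun q hq => by
      have hq' : x⁻¹ * q * x ∈ Sy := (hn _).2 (by rw [show x * (x⁻¹ * q * x) * x⁻¹ = q by group]; exact hq)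
      have hc : x⁻¹ * q * x * tL = tL * (x⁻¹ * q * x) :=
        Subgroup.mem_centralizer_singleton_iff.1 (Dt_le (mem_Sy.1 hq').1)
      show x * tL * x⁻¹ * q = q * (x * tL * x⁻¹)
      calc x * tL * x⁻¹ * q = x * (tL * (x⁻¹ * q * x)) * x⁻¹ := by group
        _ = x * (x⁻¹ * q * x * tL) * x⁻¹ := by rw [hc]
        _ = _ := by group) with e | e
    · exact absurd (conj_eq_one_iff.1 e) tL_ne
    · exact mul_inv_eq_iff_eq_mul.1 e
  have hxD : x ∈ Dt := by
    rw [card_cent.2]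
    exact Subgroup.mem_centralizer_singleton_iff.2 hxt
  refine mem_Sy.2 ⟨hxD, Eleven.normalizer_P11 ?_ (fD_even _)⟩
  refine Subgroup.mem_normalizer_iff.2 fun p => ⟨fun hp => ?_, fun hp => ?_⟩
  · obtain ⟨d, rfl⟩ := fD_surjective (Eleven.P11_even hp)
    obtain ⟨h', hh'⟩ := mem_Sy.1 ((hn d).1 (mem_Sy.2 ⟨d.2, hp⟩))
    rw [← map_inv, ← map_mul, ← map_mul]
    exact hh'
  · have hs : Perm.sign p = 1 := by
      have := Eleven.P11_even hp
      rwa [map_mul, map_mul, map_inv, fD_even, one_mul, inv_one, mul_one] at this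
    obtain ⟨d, rfl⟩ := fD_surjective hs
    rw [← map_inv, ← map_mul, ← map_mul] at hp
    obtain ⟨h', hh'⟩ := mem_Sy.1 ((hn d).2 (mem_Sy.2 ⟨(⟨x, hxD⟩ * d * ⟨x, hxD⟩⁻¹ : Dt).2, hp⟩))
    exact hh'

theorem fact_two : (Nat.card Spor.Ly).factorization 2 = 8 := by
  rw [card_Ly, show (51765179004000000 : ℕ) = 2 ^ 8 * 202207730484375 by norm_num,
    Nat.factorization_mul (by norm_num) (by norm_num), Nat.Prime.factorization_pow Nat.prime_two,
    Finsupp.add_apply, Finsupp.single_eq_same, Nat.factorization_eq_zero_of_not_dvd (by norm_num)]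

theorem invol_conj {y : Spor.Ly} (h : y * y = 1) (h1 : y ≠ 1) : ∃ g : Spor.Ly, g * tL * g⁻¹ = y := by
  haveI := finite_Ly
  haveI : Fact (Nat.Prime 2) := ⟨Nat.prime_two⟩
  let S : Sylow 2 Spor.Ly := Sylow.ofCard Sy (by rw [card_Sy, fact_two]; norm_num)
  have hp : IsPGroup 2 (Subgroup.zpowers y) := by
    refine IsPGroup.of_card (n := 1) ?_
    rw [Nat.card_zpowers, pow_one]
    exact orderOf_eq_prime (by rw [pow_two, h]) h1
  obtain ⟨T, hT⟩ := hp.exists_le_sylow
  obtain ⟨g, hg⟩ := MulAction.exists_smul_eq Spor.Ly T S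
  have hy : g * y * g⁻¹ ∈ Sy := by
    have : g * y * g⁻¹ ∈ ((g • T : Sylow 2 Spor.Ly) : Subgroup Spor.Ly) := by
      rw [Sylow.coe_subgroup_smul]
      exact ⟨y, hT (Subgroup.mem_zpowers y), rfl⟩
    rw [hg] at this
    exact this
  obtain ⟨hD, -⟩ := mem_Sy.1 hy
  obtain ⟨a, ha⟩ := invol_Dt (y := ⟨_, hD⟩) (by
    show g * y * g⁻¹ * (g * y * g⁻¹) = 1
    rw [show g * y * g⁻¹ * (g * y * g⁻¹) = g * (y * y) * g⁻¹ by group, h, mul_one, mul_inv_cancel])
    (fun e => h1 (conj_eq_one_iff.1 e))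
  refine ⟨g⁻¹ * a, ?_⟩
  have ha' : a * tL * a⁻¹ = g * y * g⁻¹ := ha
  rw [show g⁻¹ * a * tL * (g⁻¹ * a)⁻¹ = g⁻¹ * (a * tL * a⁻¹) * g by group, ha']
  group

theorem fusion_simple {G : Type*} [Group G] [Finite G] (e : Spor.Ly ≃* G) (S : Sylow 2 G) :
    (Cfsg.groupFusionSystem (S : Subgroup G)).IsSimple 2 := by
  haveI := finite_Ly
  haveI : Fact (Nat.Prime 2) := ⟨Nat.prime_two⟩
  let S₀ : Sylow 2 G := Sylow.ofCard (Sy.map e.toMonoidHom) (by
    rw [Subgroup.card_map_of_injective e.injective, card_Sy, ← Nat.card_congr e.toEquiv, fact_two]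
    norm_num)
  have hmem : ∀ y : G, y ∈ (S₀ : Subgroup G) ↔ e.symm y ∈ Sy := fun y => Subgroup.mem_map_equiv
  refine Cfsg.Lib.Fusion.isSimple_of_selfNormalizing (t := e tL) S₀ S
    (fun h => tL_ne (e.injective (h.trans (map_one e).symm))) ((hmem _).2 (by simpa using tL_Sy)) ?_ ?_ ?_ ?_
  · intro y hy h
    rcases syl_center ((hmem y).1 hy) fun q hq => by
      have := (h (e q) ((hmem _).2 (by simpa using hq))).map e.symm
      simpa using this with h1 | h1
    · exact Or.inl (by simpa using congrArg e h1)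
    · exact Or.inr (by simpa using congrArg e h1)
  · intro y hy hy1
    obtain ⟨g, hg⟩ := invol_conj (y := e.symm y) (by rw [← map_mul, hy, map_one])
      (fun hh => hy1 (by simpa using congrArg e hh))
    exact ⟨e g, by rw [← map_inv, ← map_mul, ← map_mul, hg, MulEquiv.apply_symm_apply]⟩
  · rintro _ ⟨y, hy, rfl⟩
    have h := Subgroup.mem_map_of_mem e.toMonoidHom (Sy_invol hy)
    rw [MonoidHom.map_closure] at h
    refine Subgroup.closure_mono ?_ h
    rintro _ ⟨z, ⟨hz, hzz⟩, rfl⟩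
    exact ⟨Subgroup.mem_map_of_mem _ hz, by rw [← map_mul, hzz, map_one]⟩
  · intro y hy
    refine (hmem y).2 (normalizer_Sy ?_)
    refine Subgroup.mem_normalizer_iff.2 fun h => ?_
    have := Subgroup.mem_normalizer_iff.1 hy (e h)
    simp only [SetLike.mem_coe, hmem, map_mul, map_inv, MulEquiv.symm_apply_apply] at this
    exact this

end Cfsg.Lib.LyPres
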