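import Cfsg.Agent.LyPres.Order
import Cfsg.Agent.LyPres.Adjoint14
import Cfsg.Agent.S1055
import Cfsg.Agent.S1059

/-!
The group on nine letters is the simple group G2(5).
-/

set_option autoImplicit false

namespace Cfsg.Lib.LyPres

open Cfsg.Lie

theorem card_G2five : Nat.card ↥(chevG2.group (ZMod 5)) = 5859000000 := by
  rw [Cfsg.Agent.S1059.result (F := ZMod 5) (q := 5) (ZMod.card 5)]
  norm_num

theorem card_F_eq : Nat.card F = 5859000000 := by
  haveI := card_F.1
  refine le_antisymm card_F.2 ?_
  rw [← card_G2five, ← range_eq]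
  exact Nat.card_le_card_of_surjective toG2.rangeRestrict toG2.rangeRestrict_surjective

theorem toG2_injective : Function.Injective toG2 := by
  haveI := card_F.1
  rw [← MonoidHom.ker_eq_bot_iff, ← Subgroup.card_eq_one]
  have h := Subgroup.card_mul_index toG2.ker
  rw [Subgroup.index_ker, range_eq, card_G2five, card_F_eq] at h
  exact Nat.eq_of_mul_eq_mul_right (by norm_num) (h.trans (one_mul _).symm)

/-- The isomorphism with the adjoint group. -/
noncomputable def equivG2 : F ≃* ↥(chevG2.group (ZMod 5)) :=
  (MonoidHom.ofInjective toG2_injective).trans (MulEquiv.subgroupCongr range_eq)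

theorem simple_F : IsSimpleGroup F := by
  haveI := (Cfsg.Agent.S1055.result (F := ZMod 5) ⟨2, by decide, by decide⟩).1
  exact equivG2.isSimpleGroup

end Cfsg.Lib.LyPres
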