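import Cfsg.Agent.LyPres.ThreeCert
import Cfsg.Agent.LyPres.ThreeStage4Data
import Cfsg.Agent.LyPres.ThreeStage3Data

/-!
The check of a stage of a program.
-/

set_option autoImplicit false
set_option maxRecDepth 100000
set_option maxHeartbeats 4000000

namespace Cfsg.Lib.LyPres

theorem stageP3_4 : stageOK progP3s4 outP3s3 outP3s4 pickP3s4 = true := by decide +kernel

end Cfsg.Lib.LyPres
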