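import Cfsg.Agent.LyPres.ThreeCheck
import Cfsg.Agent.LyPres.ThreeStage0Check
import Cfsg.Agent.LyPres.ThreeStage1Check
import Cfsg.Agent.LyPres.ThreeStage2Check
import Cfsg.Agent.LyPres.ThreeStage3Check
import Cfsg.Agent.LyPres.ThreeStage4Check

/-!
The certificate at the prime three gives a divisor of the order of the presented Lyons group.
-/

set_option autoImplicit false
set_option Elab.async false

namespace Cfsg.Lib.LyPres

open Cfsg.Spor
open Cfsg.Lib.Schur.Prime (Cert)

attribute [local irreducible] certP3 rho111 mul1 one111 let111 packRows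

theorem paired_vP3 : ∃ x, Paired vP3 x := by
  have h0 : ∃ x, Paired (slpStart ++ ([] : List (List ℕ)).map packRows) x :=
    ⟨slpStartG, by rw [List.map_nil, List.append_nil]; exact slp_start_paired⟩
  exact stage_paired stageP3_4 (stage_paired stageP3_3 (stage_paired stageP3_2 (stage_paired stageP3_1
    (stage_paired stageP3_0 h0))))

theorem mem_fixSet_ker {O : List ℕ} {g : Spor.Ly} (hg : g ∈ rho111.ker) : g ∈ fixSet O :=
  mem_fixSet fun v hv => by rw [MonoidHom.mem_ker.1 hg, Units.val_one, Matrix.vecMul_one]; exact hv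

/-- Elements moving the sets of vectors give many elements modulo the kernel of the representation. -/
theorem pow_mul_le_card_sub {c : Cert} [Finite Spor.Ly] (y : ℕ → Spor.Ly) (w : ℕ → List ℕ)
    (hw : ∀ k < c.n, (∀ j, k < j → j < c.n → y j ∈ fixSet (w k)) ∧ y k ∉ fixSet (w k) ∧ y k ^ 2 ∉ fixSet (w k)) :
    ∀ d k, k + d = c.n → 3 ^ d * Nat.card rho111.ker ≤
      Nat.card (Cfsg.Lib.Schur.Prime.sub c y k ⊔ rho111.ker : Subgroup Spor.Ly) := by
  intro d
  induction d with
  | zero =>
    intro k _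
    rw [pow_zero, one_mul]
    exact Subgroup.card_le_of_le le_sup_right
  | succ d ih =>
    intro k hk
    obtain ⟨hfix, hne, hne2⟩ := hw k (by omega)
    set H := Cfsg.Lib.Schur.Prime.sub c y (k + 1) ⊔ rho111.ker with hH
    set H' := Cfsg.Lib.Schur.Prime.sub c y k ⊔ rho111.ker with hH'
    have hHle : H ≤ fixSet (w k) := by
      refine sup_le ?_ fun g hg => mem_fixSet_ker hg
      rw [Cfsg.Lib.Schur.Prime.sub, Subgroup.closure_le]
      rintro _ ⟨j, ⟨hj1, hj2⟩, rfl⟩
      exact hfix j hj1 hj2
    have hsub : Cfsg.Lib.Schur.Prime.sub c y (k + 1) ≤ Cfsg.Lib.Schur.Prime.sub c y k :=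
      Subgroup.closure_mono (Set.image_mono fun j hj => ⟨Nat.le_of_succ_le hj.1, hj.2⟩)
    have hHk : H ≤ H' := sup_le_sup_right hsub _
    have hyk : y k ∈ H' := Subgroup.mem_sup_left (Subgroup.subset_closure ⟨k, ⟨le_rfl, by omega⟩, rfl⟩)
    let φ : Fin 3 × H → H' := fun q => ⟨y k ^ q.1.val * q.2, mul_mem (pow_mem hyk _) (hHk q.2.2)⟩
    have key : ∀ a b : Fin 3, ∀ g h : H, y k ^ a.val * g = y k ^ b.val * h → a.val < b.val → False := by
      intro a b g h e hab
      have he : y k ^ (b.val - a.val) = (g : Spor.Ly) * (h : Spor.Ly)⁻¹ := by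
        rw [← Nat.add_sub_cancel' hab.le, pow_add, mul_assoc] at e
        rw [eq_mul_inv_iff_mul_eq]
        exact (mul_left_cancel e).symm
      have hm : y k ^ (b.val - a.val) ∈ fixSet (w k) := he ▸ hHle (mul_mem g.2 (inv_mem h.2))
      rcases (show b.val - a.val = 1 ∨ b.val - a.val = 2 by omega) with e1 | e1
      · rw [e1, pow_one] at hm; exact hne hm
      · rw [e1] at hm; exact hne2 hm
    have hinj : Function.Injective φ := by
      rintro ⟨a, g⟩ ⟨b, h⟩ e
      have e' : y k ^ a.val * g = y k ^ b.val * h := congrArg Subtype.val e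
      rcases lt_trichotomy a.val b.val with hl | hl | hl
      · exact (key a b g h e' hl).elim
      · obtain rfl := Fin.ext hl
        rw [Subtype.ext (mul_left_cancel e')]
      · exact (key b a h g e'.symm hl).elim
    have hc := Nat.card_le_card_of_injective φ hinj
    rw [Nat.card_prod, Nat.card_fin] at hc
    calc 3 ^ (d + 1) * Nat.card rho111.ker = 3 * (3 ^ d * Nat.card rho111.ker) := by ring
      _ ≤ 3 * Nat.card H := Nat.mul_le_mul_left _ (ih (k + 1) (by omega))
      _ ≤ _ := hc

theorem Three_dvd [Finite Cfsg.Spor.Ly] : 2187 ∣ Nat.card Cfsg.Spor.Ly := by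
  obtain ⟨X, hX⟩ := paired_vP3
  set y : ℕ → Spor.Ly := fun k => X.getD (pcP3.getD k 0) 1 with hy
  set r : Spor.Ly →* rho111.range := rho111.rangeRestrict with hr
  set K := Cfsg.Lib.Schur.Prime.sub certP3 y 0 with hK
  have hval : ∀ l, Cfsg.Lib.Schur.Prime.val (fun k => r (y k)) l = r (Cfsg.Lib.Schur.Prime.val y l) := by
    intro l
    induction l with
    | nil => exact (map_one r).symm
    | cons a l ih => rw [Cfsg.Lib.Schur.Prime.val_cons, Cfsg.Lib.Schur.Prime.val_cons, ih, map_mul]
  have hmap : Cfsg.Lib.Schur.Prime.sub certP3 (fun k => r (y k)) 0 = K.map r := by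
    rw [hK, Cfsg.Lib.Schur.Prime.sub, Cfsg.Lib.Schur.Prime.sub, MonoidHom.map_closure, ← Set.image_comp]
    rfl
  have hup : Nat.card (K.map r) ≤ 3 ^ 7 := by
    have hshape : certP3.shapesOK = true := by
      have hc := certP3_ok
      simp only [Cfsg.Lib.Schur.Prime.Cert.ok, Bool.and_eq_true] at hc
      exact hc.1.2
    rw [← hmap]
    have h := Cfsg.Lib.Schur.Prime.card_sub_le certP3 hshape (by rw [pP3]; norm_num) (fun k => r (y k)) ?_
      certP3.n 0 (Nat.zero_add _)
    · rwa [pP3, nP3] at h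
    intro j hj i hi
    have h := List.all_eq_true.mp (List.all_eq_true.mp rulesP3 j (List.mem_range.mpr (by rwa [nP3] at hj))) i
      (List.mem_range.mpr (by omega))
    simp only [sameW111, Bool.and_eq_true, beq_iff_eq] at h
    obtain ⟨⟨hu, hw⟩, e⟩ := h
    have h1 := wN_ok hX _ hu
    have h2 := wN_ok hX _ hw
    rw [e] at h1
    rw [hval, hval, hy, val_pcPlaces, val_pcPlaces]
    exact Subtype.ext (Units.ext (h1.2.symm.trans h2.2))
  have hlow := pow_mul_le_card_sub (c := certP3) y (fun k => vecP3.getD k []) (fun k hk => pcMove_sound hX hk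
      (List.all_eq_true.mp moveP3 k (List.mem_range.mpr (by rwa [nP3] at hk)))) certP3.n 0 (Nat.zero_add _)
  rw [nP3, ← hK] at hlow
  have hker : r.ker = rho111.ker := MonoidHom.ker_rangeRestrict rho111
  have hsplit : Nat.card (K ⊔ rho111.ker : Subgroup Spor.Ly) = Nat.card rho111.ker * Nat.card (K.map r) := by
    set S := K ⊔ rho111.ker
    set f := r.comp S.subtype
    have e1 : f.range = K.map r := by
      rw [MonoidHom.range_comp, Subgroup.range_subtype, Subgroup.map_sup, ← hker,
        (Subgroup.map_eq_bot_iff r.ker).2 le_rfl, sup_bot_eq]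
    have e2 : f.ker = rho111.ker.subgroupOf S := by rw [← hker]; rfl
    rw [← e1, ← Subgroup.index_ker, ← Subgroup.card_mul_index f.ker, e2,
      Nat.card_congr (Subgroup.subgroupOfEquivOfLe (le_sup_right : rho111.ker ≤ S)).toEquiv]
  rw [hsplit, mul_comm (3 ^ 7)] at hlow
  have he := le_antisymm hup (Nat.le_of_mul_le_mul_left hlow Nat.card_pos)
  have h := Subgroup.card_subgroup_dvd_card (K.map r)
  rw [he] at h
  exact h.trans (Subgroup.card_dvd_of_surjective r rho111.rangeRestrict_surjective)

end Cfsg.Lib.LyPres
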