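import Cfsg.Agent.LyPres.Slp
import Cfsg.Agent.LyPres.WitElevenData

/-!
The checks of the orbit.
-/

set_option autoImplicit false
set_option Elab.async false

namespace Cfsg.Lib.LyPres

theorem Eleven_ok0 : orbEleven.okRange 11 0 11 = true := by decide +kernel

theorem Eleven_all : orbEleven.okRange 11 0 11 = true :=
  Eleven_ok0

theorem Eleven_distinct : orbEleven.distinct 11 = true := by decide +kernel

theorem Eleven_slp : slpOK progEleven finEleven orbEleven.gens = true := by decide +kernel

theorem Eleven_dvd [Finite Cfsg.Spor.Ly] : 11 ∣ Nat.card Cfsg.Spor.Ly :=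
  vorb_dvd orbEleven (by norm_num) Eleven_all Eleven_distinct (slp_sound Eleven_slp)

end Cfsg.Lib.LyPres
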