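import Cfsg.Agent.LyPres.Slp
import Cfsg.Agent.LyPres.WitSixtySevenData

/-!
The checks of the orbit.
-/

set_option autoImplicit false
set_option Elab.async false

namespace Cfsg.Lib.LyPres

theorem SixtySeven_ok0 : orbSixtySeven.okRange 67 0 67 = true := by decide +kernel

theorem SixtySeven_all : orbSixtySeven.okRange 67 0 67 = true :=
  SixtySeven_ok0

theorem SixtySeven_distinct : orbSixtySeven.distinct 67 = true := by decide +kernel

theorem SixtySeven_slp : slpOK progSixtySeven finSixtySeven orbSixtySeven.gens = true := by decide +kernel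

theorem SixtySeven_dvd [Finite Cfsg.Spor.Ly] : 67 ∣ Nat.card Cfsg.Spor.Ly :=
  vorb_dvd orbSixtySeven (by norm_num) SixtySeven_all SixtySeven_distinct (slp_sound SixtySeven_slp)

end Cfsg.Lib.LyPres
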