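import Cfsg.Agent.LyPres.Slp
import Cfsg.Agent.LyPres.WitThirtySevenData

/-!
The checks of the orbit.
-/

set_option autoImplicit false
set_option Elab.async false

namespace Cfsg.Lib.LyPres

theorem ThirtySeven_ok0 : orbThirtySeven.okRange 37 0 37 = true := by decide +kernel

theorem ThirtySeven_all : orbThirtySeven.okRange 37 0 37 = true :=
  ThirtySeven_ok0

theorem ThirtySeven_distinct : orbThirtySeven.distinct 37 = true := by decide +kernel

theorem ThirtySeven_slp : slpOK progThirtySeven finThirtySeven orbThirtySeven.gens = true := by decide +kernel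

theorem ThirtySeven_dvd [Finite Cfsg.Spor.Ly] : 37 ∣ Nat.card Cfsg.Spor.Ly :=
  vorb_dvd orbThirtySeven (by norm_num) ThirtySeven_all ThirtySeven_distinct (slp_sound ThirtySeven_slp)

end Cfsg.Lib.LyPres
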