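import Cfsg.Agent.LyPres.Slp
import Cfsg.Agent.LyPres.WitTwoData

/-!
The checks of the orbit.
-/

set_option autoImplicit false
set_option Elab.async false

namespace Cfsg.Lib.LyPres

theorem Two_ok0 : orbTwo.okRange 256 0 200 = true := by decide +kernel

theorem Two_ok1 : orbTwo.okRange 256 200 56 = true := by decide +kernel

theorem Two_all : orbTwo.okRange 256 0 256 = true :=
  (vokRange_cat orbTwo (m := 256) (a := 0) (b := 200) (k := 200) (c := 56) (n := 256) (by decide +kernel) (by decide +kernel) Two_ok0 Two_ok1)

theorem Two_distinct : orbTwo.distinct 256 = true := by decide +kernel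

theorem Two_slp : slpOK progTwo finTwo orbTwo.gens = true := by decide +kernel

theorem Two_dvd [Finite Cfsg.Spor.Ly] : 256 ∣ Nat.card Cfsg.Spor.Ly :=
  vorb_dvd orbTwo (by norm_num) Two_all Two_distinct (slp_sound Two_slp)

end Cfsg.Lib.LyPres
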