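import Cfsg.Agent.LyPres.Upper
import Cfsg.Agent.LyPres.WitTwoCheck
import Cfsg.Agent.LyPres.ThreePart
import Cfsg.Agent.LyPres.WitElevenCheck
import Cfsg.Agent.LyPres.WitThirtySevenCheck
import Cfsg.Agent.LyPres.WitSixtySevenCheck

/-!
The index of the subgroup on a, b, c, d and the order of the presented Lyons group.
-/

set_option autoImplicit false

namespace Cfsg.Lib.LyPres

open Cfsg.Spor

theorem finite_Ly : Finite Spor.Ly := by
  haveI := card_F.1
  haveI : Finite (KL : Subgroup Spor.Ly) := Finite.of_equiv _ (MonoidHom.ofInjective toLy_injective).toEquiv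
  haveI : KL.FiniteIndex := ⟨index_upper.1⟩
  haveI : Finite (Spor.Ly ⧸ KL) := Subgroup.finite_quotient_of_finiteIndex
  exact Finite.of_equiv _ (Subgroup.groupEquivQuotientProdSubgroup (s := KL)).symm

theorem card_KL : Nat.card KL = 5859000000 :=
  (Nat.card_congr (MonoidHom.ofInjective toLy_injective).symm.toEquiv).trans card_F_eq

theorem index_KL : KL.index = 8835156 := by
  haveI := finite_Ly
  have h := Subgroup.card_mul_index KL
  rw [card_KL] at h
  have hH : 5859000000 ∣ Nat.card Spor.Ly := h ▸ Dvd.intro _ rfl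
  have h2 : Nat.lcm (Nat.lcm (Nat.lcm (Nat.lcm (Nat.lcm 5859000000 256) 2187) 11) 37) 67 ∣ Nat.card Spor.Ly :=
    Nat.lcm_dvd (Nat.lcm_dvd (Nat.lcm_dvd (Nat.lcm_dvd (Nat.lcm_dvd hH Two_dvd) Three_dvd) Eleven_dvd)
      ThirtySeven_dvd) SixtySeven_dvd
  rw [show Nat.lcm (Nat.lcm (Nat.lcm (Nat.lcm (Nat.lcm 5859000000 256) 2187) 11) 37) 67 = 5859000000 * 8835156 by
    decide +kernel, ← h] at h2
  have h3 := Nat.dvd_of_mul_dvd_mul_left (by norm_num) h2
  exact le_antisymm index_upper.2 (Nat.le_of_dvd (Nat.pos_of_ne_zero index_upper.1) h3)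

theorem card_Ly : Nat.card Spor.Ly = 51765179004000000 := by
  haveI := finite_Ly
  rw [← Subgroup.card_mul_index KL, card_KL, index_KL]

end Cfsg.Lib.LyPres
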