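import Cfsg.Agent.Schur.SylowTransfer
import Mathlib.GroupTheory.Sylow

/-!
A perfect subgroup with full Sylow subgroup, whose central quotient has multiplier no bigger than the central part,
kills the part of the multiplier at that prime.
-/

set_option autoImplicit false

namespace Cfsg.Lib.LyPres

open scoped commutatorElement

variable {Γ Q : Type} [Group Γ] [Group Q] [Finite Γ] [Finite Q] {σ : Γ →* Q} {p : ℕ} [hp : Fact p.Prime]

theorem exists_sylow_of_perfect (hσ : Cfsg.IsStemExtension σ) (D : Subgroup Q) (hD : ⁅D, D⁆ = D)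
    (hfull : p ^ (Nat.card Q).factorization p ∣ Nat.card D) (T : Subgroup D) [T.Normal]
    (hT : T ≤ Subgroup.center D)
    (hbound : ∀ (E : Type) [Group E] [Finite E] (π : E →* D ⧸ T), Cfsg.IsStemExtension π →
      Nat.card π.ker ≤ Nat.card T) :
    ∃ S : Sylow p Γ, ∀ z ∈ σ.ker, z ∈ ⁅(S : Subgroup Γ), (S : Subgroup Γ)⁆ → z = 1 := by
  obtain ⟨P, hP⟩ := Sylow.exists_subgroup_card_pow_prime p hfull
  have hPQ : Nat.card (P.map D.subtype) = p ^ (Nat.card Q).factorization p := by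
    rw [Subgroup.card_map_of_injective D.subtype_injective, hP]
  obtain ⟨S, hS⟩ := Cfsg.Lib.Schur.exists_sylow_map_le hσ.1 (P.map D.subtype) hPQ
  refine ⟨S, fun z hz hzS => ?_⟩
  set D' : Subgroup Γ := D.comap σ with hD'
  have hSD : (S : Subgroup Γ) ≤ D' := fun x hx => Subgroup.map_subtype_le P (hS (Subgroup.mem_map_of_mem σ hx))
  set E : Subgroup Γ := ⁅D', D'⁆ with hE
  have hzE : z ∈ E := Subgroup.commutator_mono hSD hSD hzS
  have hσE : E.map σ = D := by
    rw [hE, Subgroup.map_commutator, hD', Subgroup.map_comap_eq_self_of_surjective hσ.1, hD]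
  have hc : ∀ k ∈ σ.ker, ∀ g, g * k = k * g := fun k hk => Subgroup.mem_center_iff.1 (hσ.2.1 hk)
  have hdec : ∀ x ∈ D', ∃ e ∈ E, ∃ k ∈ σ.ker, x = e * k := by
    intro x hx
    have hx' : σ x ∈ E.map σ := by rw [hσE]; exact hx
    obtain ⟨e, he, hex⟩ := hx'
    exact ⟨e, he, e⁻¹ * x, by rw [MonoidHom.mem_ker, map_mul, map_inv, hex, inv_mul_cancel],
      (mul_inv_cancel_left e x).symm⟩
  have hperf : E ≤ ⁅E, E⁆ := by
    conv_lhs => rw [hE]
    rw [Subgroup.commutator_le]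
    intro a ha b hb
    obtain ⟨e, he, k, hk, rfl⟩ := hdec a ha
    obtain ⟨f, hf, l, hl, rfl⟩ := hdec b hb
    have ck : ∀ g, g * k = k * g := hc k hk
    have cl : ∀ g, g * l = l * g := hc l hl
    have e1 : ⁅e * k, f * l⁆ = ⁅e, f⁆ := by
      simp only [commutatorElement_def, mul_inv_rev]
      calc e * k * (f * l) * (k⁻¹ * e⁻¹) * (l⁻¹ * f⁻¹) = e * (k * (f * l) * k⁻¹) * e⁻¹ * (l⁻¹ * f⁻¹) := by group
        _ = e * f * (l * e⁻¹ * l⁻¹) * f⁻¹ := by rw [← ck (f * l)]; group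
        _ = e * f * e⁻¹ * f⁻¹ := by rw [← cl e⁻¹]; group
    rw [e1]
    exact Subgroup.commutator_mem_commutator he hf
  have hcen : ∀ x : Γ, x ∈ D' → (∀ d ∈ D', σ x * σ d = σ d * σ x) → ∀ e ∈ E, x * e = e * x := by
    intro x _ hx
    have : E ≤ Subgroup.centralizer {x} := by
      rw [hE, Subgroup.commutator_le]
      intro a ha b hb
      have key : ∀ d ∈ D', ∃ k ∈ σ.ker, x * d * x⁻¹ = d * k := fun d hd =>
        ⟨d⁻¹ * (x * d * x⁻¹), by
          rw [MonoidHom.mem_ker]; simp only [map_mul, map_inv]; rw [hx d hd]; group, by group⟩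
      obtain ⟨k, hk, ek⟩ := key a ha
      obtain ⟨l, hl, el⟩ := key b hb
      rw [Subgroup.mem_centralizer_singleton_iff]
      have e2 : x * ⁅a, b⁆ * x⁻¹ = ⁅a, b⁆ := by
        rw [show x * ⁅a, b⁆ * x⁻¹ = ⁅x * a * x⁻¹, x * b * x⁻¹⁆ by simp only [commutatorElement_def]; group, ek, el]
        have ck : ∀ g, g * k = k * g := hc k hk
        have cl : ∀ g, g * l = l * g := hc l hl
        simp only [commutatorElement_def, mul_inv_rev]
        calc a * k * (b * l) * (k⁻¹ * a⁻¹) * (l⁻¹ * b⁻¹) = a * (k * (b * l) * k⁻¹) * a⁻¹ * (l⁻¹ * b⁻¹) := by group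
          _ = a * b * (l * a⁻¹ * l⁻¹) * b⁻¹ := by rw [← ck (b * l)]; group
          _ = a * b * a⁻¹ * b⁻¹ := by rw [← cl a⁻¹]; group
      exact (mul_inv_eq_iff_eq_mul.1 e2).symm
    intro e he
    exact (Subgroup.mem_centralizer_singleton_iff.1 (this he)).symm
  have hED : ∀ e : E, σ e ∈ D := fun e => hσE ▸ Subgroup.mem_map_of_mem σ e.2
  let ρ : E →* D := (σ.comp E.subtype).codRestrict D hED
  have hρ : Function.Surjective ρ := fun d => by
    have hd : (d : Q) ∈ E.map σ := by rw [hσE]; exact d.2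
    obtain ⟨e, he, hed⟩ := hd
    exact ⟨⟨e, he⟩, Subtype.ext hed⟩
  let π : E →* D ⧸ T := (QuotientGroup.mk' T).comp ρ
  have hπ : Cfsg.IsStemExtension π := by
    refine ⟨(QuotientGroup.mk'_surjective T).comp hρ, fun x hx => ?_, fun x _ => ?_⟩
    · have hxT : ρ x ∈ T := (QuotientGroup.eq_one_iff _).1 hx
      have hxD : (x : Γ) ∈ D' := hED x
      rw [Subgroup.mem_center_iff]
      intro y
      refine Subtype.ext (hcen x hxD (fun d hd => ?_) y y.2).symm
      exact (congrArg Subtype.val (Subgroup.mem_center_iff.1 (hT hxT) ⟨σ d, hd⟩)).symm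
    · have hx2 := hperf x.2
      rw [← Subgroup.map_subtype_commutator] at hx2
      obtain ⟨y, hy, hyx⟩ := hx2
      exact (Subtype.ext hyx : y = x) ▸ hy
  have hle := hbound E π hπ
  let ψ : π.ker → T := fun x => ⟨ρ x, (QuotientGroup.eq_one_iff _).1 x.2⟩
  have hψ : Function.Surjective ψ := fun t => by
    obtain ⟨e, he⟩ := hρ t
    exact ⟨⟨e, (QuotientGroup.eq_one_iff _).2 (he ▸ t.2)⟩, Subtype.ext he⟩
  have hbij : Function.Bijective ψ := (Nat.bijective_iff_surjective_and_card ψ).2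
    ⟨hψ, le_antisymm hle (Nat.card_le_card_of_surjective ψ hψ)⟩
  have hz1 : ρ ⟨z, hzE⟩ = 1 := Subtype.ext hz
  have hzker : (⟨z, hzE⟩ : E) ∈ π.ker := (QuotientGroup.eq_one_iff _).2 (by rw [hz1]; exact one_mem T)
  have := hbij.1 (a₁ := ⟨_, hzker⟩) (a₂ := 1) (Subtype.ext (by
    show ρ ⟨z, hzE⟩ = ρ 1
    rw [hz1, map_one]))
  exact congrArg (fun x : π.ker => ((x : E) : Γ)) this

end Cfsg.Lib.LyPres
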