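import Cfsg.Agent.LyPres.InvolCent
import Cfsg.Agent.LyPres.MultReduce
import Cfsg.Agent.Schur.Alternating
import Cfsg.Agent.Chev.Univ.Multi.Main
import Cfsg.Prelude.Def_KGroupFacts

/-!
The multiplier of the presented Lyons group has no part at primes other than three.
-/

set_option autoImplicit false
set_option maxRecDepth 100000
set_option Elab.async false

namespace Cfsg.Lib.LyPres

open Cfsg.Spor
open scoped commutatorElement

attribute [local irreducible] one111 let111 rho111 mul1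

theorem perfect_simple (G : Type) [Group G] [IsSimpleGroup G] (h : ∃ a b : G, a * b ≠ b * a) : ⁅(⊤ : Subgroup G), (⊤ : Subgroup G)⁆ = ⊤ := by
  rcases IsSimpleGroup.eq_bot_or_eq_top_of_normal ⁅(⊤ : Subgroup G), (⊤ : Subgroup G)⁆ inferInstance with e | e
  · obtain ⟨a, b, hab⟩ := h
    have := Subgroup.commutator_mem_commutator (Subgroup.mem_top a) (Subgroup.mem_top b)
    rw [e, Subgroup.mem_bot, commutatorElement_eq_one_iff_mul_comm] at this
    exact absurd this hab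
  · exact e

theorem perfect_KL : ⁅KL, KL⁆ = KL := by
  haveI := simple_F
  have h : ∃ a b : F, a * b ≠ b * a := by
    by_contra h
    push Not at h
    letI : CommGroup F := { (inferInstance : Group F) with mul_comm := h }
    have h2 : Nat.Prime (Nat.card F) := IsSimpleGroup.prime_card (α := F)
    rw [card_F_eq] at h2
    exact Nat.not_prime_mul (a := 5859000) (b := 1000) (by norm_num) (by norm_num) h2
  show ⁅toLy.range, toLy.range⁆ = toLy.range
  rw [MonoidHom.range_eq_map, ← Subgroup.map_commutator, perfect_simple F h]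

theorem perfect_Dt : ⁅Dt, Dt⁆ = Dt := by
  obtain ⟨e⟩ := exists_equiv_alt
  haveI : IsSimpleGroup (alternatingGroup (Fin 11)) := alternatingGroup.isSimpleGroup (by simp)
  haveI := e.isSimpleGroup
  have hQ : ⁅(⊤ : Subgroup (Dt ⧸ Tn)), (⊤ : Subgroup (Dt ⧸ Tn))⁆ = ⊤ := by
    refine perfect_simple _ ?_
    by_contra hab
    push Not at hab
    have hc : Subgroup.center (alternatingGroup (Fin 11)) = ⊤ := by
      rw [eq_top_iff]
      intro a _
      rw [Subgroup.mem_center_iff]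
      intro b
      obtain ⟨c, rfl⟩ := e.surjective a
      obtain ⟨d, rfl⟩ := e.surjective b
      rw [← map_mul, ← map_mul, hab]
    rw [alternatingGroup.center_eq_bot (α := Fin 11) (by simp)] at hc
    exact bot_ne_top hc
  refine le_antisymm (Subgroup.commutator_le_self _) ?_
  have key : ∀ d : Dt, ∃ c ∈ ⁅(⊤ : Subgroup Dt), (⊤ : Subgroup Dt)⁆, ∃ z ∈ Tn, d = c * z := fun d => by
    have h : (d : Dt ⧸ Tn) ∈ ⁅(⊤ : Subgroup Dt), (⊤ : Subgroup Dt)⁆.map (QuotientGroup.mk' Tn) := by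
      rw [Subgroup.map_commutator, Subgroup.map_top_of_surjective _ (QuotientGroup.mk'_surjective Tn), hQ]
      exact Subgroup.mem_top _
    obtain ⟨c, hc, hcd⟩ := h
    exact ⟨c, hc, c⁻¹ * d, QuotientGroup.eq.1 hcd, (mul_inv_cancel_left c d).symm⟩
  have hsub : ∀ x : Dt, x ∈ ⁅(⊤ : Subgroup Dt), (⊤ : Subgroup Dt)⁆ → (x : Spor.Ly) ∈ ⁅Dt, Dt⁆ := fun x hx => by
    rw [← Subgroup.map_subtype_commutator]
    exact ⟨x, hx, rfl⟩
  have ht : tL ∈ ⁅Dt, Dt⁆ := by
    obtain ⟨c, hc, z, hz, he⟩ := key ⟨gE 1, gE_mem (by norm_num)⟩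
    have hz2 : (z : Spor.Ly) * z = 1 := by
      obtain ⟨k, rfl⟩ := hz
      show tL ^ k * tL ^ k = 1
      rw [← (Commute.refl tL).mul_zpow, tL_sq, one_zpow]
    have hzc : (z : Spor.Ly) * c = c * z := (congrArg Subtype.val (Subgroup.mem_center_iff.1 (Tn_le_center hz) c)).symm
    have h1 : gE 1 = (c : Spor.Ly) * z := congrArg Subtype.val he
    rw [← gE_one_sq, h1, show (c : Spor.Ly) * z * (c * z) = c * (z * c) * z by group, hzc,
      show (c : Spor.Ly) * (c * z) * z = c * c * (z * z) by group, hz2, mul_one]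
    exact mul_mem (hsub c hc) (hsub c hc)
  intro x hx
  obtain ⟨c, hc, z, hz, he⟩ := key ⟨x, hx⟩
  rw [show x = (c : Spor.Ly) * z from congrArg Subtype.val he]
  refine mul_mem (hsub c hc) ?_
  obtain ⟨k, rfl⟩ := hz
  exact zpow_mem ht k

theorem fact_Ly {p k : ℕ} (hp : p.Prime) (h1 : p ^ k ∣ 51765179004000000) (h2 : ¬ p ^ (k + 1) ∣ 51765179004000000) :
    (Nat.card Spor.Ly).factorization p = k := by
  rw [card_Ly]
  refine le_antisymm ?_ ((hp.pow_dvd_iff_le_factorization (by norm_num)).mp h1)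
  by_contra h
  exact h2 ((hp.pow_dvd_iff_le_factorization (by norm_num)).mpr (by omega))

section Primes

variable {Γ : Type} [Group Γ] [Finite Γ] {σ : Γ →* Spor.Ly}

theorem sylow_two (hσ : Cfsg.IsStemExtension σ) [Fact (Nat.Prime 2)] :
    ∃ S : Sylow 2 Γ, ∀ z ∈ σ.ker, z ∈ ⁅(S : Subgroup Γ), (S : Subgroup Γ)⁆ → z = 1 := by
  haveI := finite_Ly
  obtain ⟨e⟩ := exists_equiv_alt
  refine exists_sylow_of_perfect hσ Dt perfect_Dt ?_ Tn Tn_le_center fun E _ _ π hπ => ?_
  · rw [fact_Ly Nat.prime_two (k := 8) (by norm_num) (by norm_num), card_Dt]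
    norm_num
  · rw [card_Tn]
    exact Cfsg.Lib.Schur.Alt.card_le (n := 11) (by norm_num) (by norm_num) (by norm_num) π.ker hπ.2.1 hπ.2.2
      ((QuotientGroup.quotientKerEquivOfSurjective π hπ.1).trans e)

theorem sylow_five (hσ : Cfsg.IsStemExtension σ) [Fact (Nat.Prime 5)] :
    ∃ S : Sylow 5 Γ, ∀ z ∈ σ.ker, z ∈ ⁅(S : Subgroup Γ), (S : Subgroup Γ)⁆ → z = 1 := by
  haveI := finite_Ly
  haveI : Fact (Nat.Prime 5) := inferInstance
  refine exists_sylow_of_perfect hσ KL perfect_KL ?_ (⊥ : Subgroup KL) bot_le fun E _ _ π hπ => ?_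
  · rw [fact_Ly Nat.prime_five (k := 6) (by norm_num) (by norm_num), card_KL]
    norm_num
  · let i : KL ⧸ (⊥ : Subgroup KL) ≃* ↥(Cfsg.Lie.chevG2.group (ZMod 5)) :=
      QuotientGroup.quotientBot.trans ((MonoidHom.ofInjective toLy_injective).symm.trans equivG2)
    haveI : Finite ↥(Cfsg.Lie.chevG2.group (ZMod 5)) := Finite.of_equiv _ i.toEquiv
    have hker : (i.toMonoidHom.comp π).ker = π.ker := by
      ext x
      simp [MonoidHom.mem_ker]
    have hst : Cfsg.IsStemExtension (i.toMonoidHom.comp π) :=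
      ⟨i.surjective.comp hπ.1, hker ▸ hπ.2.1, hker ▸ hπ.2.2⟩
    have h := Cfsg.Lib.Schur.ker_eq_bot_of_hasCyclicSchurMultiplier_one
      (Cfsg.Lib.Chev.Univ.Multi.multiplier_G2 (K := ZMod 5) (by rw [ZMod.card])) hst
    rw [hker] at h
    rw [h, Subgroup.card_bot, Subgroup.card_bot]

theorem multiplier_of_three (h3 : ∀ (Γ : Type) [Group Γ] [Finite Γ] (σ : Γ →* Spor.Ly), Cfsg.IsStemExtension σ →
    ∀ [Fact (Nat.Prime 3)], ∃ S : Sylow 3 Γ, ∀ z ∈ σ.ker, z ∈ ⁅(S : Subgroup Γ), (S : Subgroup Γ)⁆ → z = 1) :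
    Cfsg.HasCyclicSchurMultiplier Spor.Ly 1 := by
  haveI := finite_Ly
  refine Cfsg.Lib.Schur.hasCyclicSchurMultiplier_one_of fun Γ _ _ σ hσ => ?_
  refine Cfsg.Lib.Schur.ker_eq_bot_of_sylow hσ fun p hp => ?_
  haveI := hp
  by_cases h : p ^ 2 ∣ Nat.card Spor.Ly
  · rw [card_Ly] at h
    have h1 : p ∣ 2 ^ 8 * (3 ^ 7 * (5 ^ 6 * (7 * (11 * (31 * (37 * 67)))))) :=
      ((dvd_pow_self p two_ne_zero).trans h).trans (by norm_num)
    have hpp := hp.out
    have hcases : p = 2 ∨ p = 3 ∨ p = 5 ∨ p = 7 ∨ p = 11 ∨ p = 31 ∨ p = 37 ∨ p = 67 := by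
      simp only [hpp.dvd_mul] at h1
      rcases h1 with h1 | h1 | h1 | h1 | h1 | h1 | h1 | h1
      · exact Or.inl ((Nat.prime_dvd_prime_iff_eq hpp Nat.prime_two).1 (hpp.dvd_of_dvd_pow h1))
      · exact Or.inr (Or.inl ((Nat.prime_dvd_prime_iff_eq hpp Nat.prime_three).1 (hpp.dvd_of_dvd_pow h1)))
      · exact Or.inr (Or.inr (Or.inl ((Nat.prime_dvd_prime_iff_eq hpp Nat.prime_five).1 (hpp.dvd_of_dvd_pow h1))))
      all_goals have := (Nat.prime_dvd_prime_iff_eq hpp (by norm_num)).1 h1; omega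
    rcases hcases with rfl | rfl | rfl | rfl | rfl | rfl | rfl | rfl
    · exact sylow_two hσ
    · exact h3 Γ σ hσ
    · exact sylow_five hσ
    all_goals norm_num at h
  · exact Cfsg.Lib.Schur.exists_sylow_cyclic hσ h

end Primes

end Cfsg.Lib.LyPres
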