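import Cfsg.Agent.CosetTable.Basic

/-!
Joining checked blocks of a table, with the numbers given.
-/

set_option autoImplicit false

namespace Cfsg.Lib.LyPres

open Cfsg.Lib.CosetTable

theorem catstepsOK (C : Cert) (a b k c n : ℕ) (hk : a + b = k) (hn : b + c = n) (h1 : C.stepsOK a b = true)
    (h2 : C.stepsOK k c = true) : C.stepsOK a n = true := by
  subst hk hn; exact stepsOK_cat C h1 h2

theorem catentsOK (C : Cert) (a b k c n : ℕ) (hk : a + b = k) (hn : b + c = n) (h1 : C.entsOK a b = true)
    (h2 : C.entsOK k c = true) : C.entsOK a n = true := by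
  subst hk hn; exact entsOK_cat C h1 h2

theorem catrowsOK (C : Cert) (a b k c n : ℕ) (hk : a + b = k) (hn : b + c = n) (h1 : C.rowsOK a b = true)
    (h2 : C.rowsOK k c = true) : C.rowsOK a n = true := by
  subst hk hn; exact rowsOK_cat C h1 h2

end Cfsg.Lib.LyPres
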