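import Cfsg.Agent.LyPres.TabAData
import Cfsg.Agent.LyPres.TabCat

/-!
The checks of the table.
-/

set_option autoImplicit false
set_option Elab.async false

namespace Cfsg.Lib.LyPres.TabA

open Cfsg.Lib.CosetTable Cfsg.Lib.LyPres

theorem stepsOK_0 : cert.stepsOK 0 500 = true := by decide +kernel

theorem stepsOK_1 : cert.stepsOK 500 460 = true := by decide +kernel

theorem stepsOK_all : cert.stepsOK 0 960 = true := (catstepsOK cert 0 500 500 460 960 (by decide +kernel) (by decide +kernel) stepsOK_0 stepsOK_1)

theorem entsOK_0 : cert.entsOK 0 250 = true := by decide +kernel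

theorem entsOK_1 : cert.entsOK 250 230 = true := by decide +kernel

theorem entsOK_all : cert.entsOK 0 480 = true := (catentsOK cert 0 250 250 230 480 (by decide +kernel) (by decide +kernel) entsOK_0 entsOK_1)

theorem rowsOK_0 : cert.rowsOK 0 250 = true := by decide +kernel

theorem rowsOK_1 : cert.rowsOK 250 230 = true := by decide +kernel

theorem rowsOK_all : cert.rowsOK 0 480 = true := (catrowsOK cert 0 250 250 230 480 (by decide +kernel) (by decide +kernel) rowsOK_0 rowsOK_1)

theorem valid : cert.Valid :=
  ⟨by decide, by decide +kernel, stepsOK_all, entsOK_all⟩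

end Cfsg.Lib.LyPres.TabA
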