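import Cfsg.Agent.LyPres.TabPData
import Cfsg.Agent.LyPres.TabCat

/-!
The checks of the table.
-/

set_option autoImplicit false
set_option Elab.async false

namespace Cfsg.Lib.LyPres.TabP

open Cfsg.Lib.CosetTable Cfsg.Lib.LyPres

theorem stepsOK_0 : cert.stepsOK 0 500 = true := by decide +kernel

theorem stepsOK_1 : cert.stepsOK 500 500 = true := by decide +kernel

theorem stepsOK_2 : cert.stepsOK 1000 500 = true := by decide +kernel

theorem stepsOK_3 : cert.stepsOK 1500 500 = true := by decide +kernel

theorem stepsOK_4 : cert.stepsOK 2000 500 = true := by decide +kernel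

theorem stepsOK_5 : cert.stepsOK 2500 500 = true := by decide +kernel

theorem stepsOK_6 : cert.stepsOK 3000 500 = true := by decide +kernel

theorem stepsOK_7 : cert.stepsOK 3500 500 = true := by decide +kernel

theorem stepsOK_8 : cert.stepsOK 4000 500 = true := by decide +kernel

theorem stepsOK_9 : cert.stepsOK 4500 500 = true := by decide +kernel

theorem stepsOK_10 : cert.stepsOK 5000 500 = true := by decide +kernel

theorem stepsOK_11 : cert.stepsOK 5500 500 = true := by decide +kernel

theorem stepsOK_12 : cert.stepsOK 6000 500 = true := by decide +kernel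

theorem stepsOK_13 : cert.stepsOK 6500 500 = true := by decide +kernel

theorem stepsOK_14 : cert.stepsOK 7000 500 = true := by decide +kernel

theorem stepsOK_15 : cert.stepsOK 7500 500 = true := by decide +kernel

theorem stepsOK_16 : cert.stepsOK 8000 500 = true := by decide +kernel

theorem stepsOK_17 : cert.stepsOK 8500 500 = true := by decide +kernel

theorem stepsOK_18 : cert.stepsOK 9000 500 = true := by decide +kernel

theorem stepsOK_19 : cert.stepsOK 9500 500 = true := by decide +kernel

theorem stepsOK_20 : cert.stepsOK 10000 500 = true := by decide +kernel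

theorem stepsOK_21 : cert.stepsOK 10500 500 = true := by decide +kernel

theorem stepsOK_22 : cert.stepsOK 11000 500 = true := by decide +kernel

theorem stepsOK_23 : cert.stepsOK 11500 500 = true := by decide +kernel

theorem stepsOK_24 : cert.stepsOK 12000 500 = true := by decide +kernel

theorem stepsOK_25 : cert.stepsOK 12500 500 = true := by decide +kernel

theorem stepsOK_26 : cert.stepsOK 13000 500 = true := by decide +kernel

theorem stepsOK_27 : cert.stepsOK 13500 500 = true := by decide +kernel

theorem stepsOK_28 : cert.stepsOK 14000 500 = true := by decide +kernel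

theorem stepsOK_29 : cert.stepsOK 14500 500 = true := by decide +kernel

theorem stepsOK_30 : cert.stepsOK 15000 500 = true := by decide +kernel

theorem stepsOK_31 : cert.stepsOK 15500 500 = true := by decide +kernel

theorem stepsOK_32 : cert.stepsOK 16000 500 = true := by decide +kernel

theorem stepsOK_33 : cert.stepsOK 16500 500 = true := by decide +kernel

theorem stepsOK_34 : cert.stepsOK 17000 500 = true := by decide +kernel

theorem stepsOK_35 : cert.stepsOK 17500 500 = true := by decide +kernel

theorem stepsOK_36 : cert.stepsOK 18000 500 = true := by decide +kernel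

theorem stepsOK_37 : cert.stepsOK 18500 500 = true := by decide +kernel

theorem stepsOK_38 : cert.stepsOK 19000 500 = true := by decide +kernel

theorem stepsOK_39 : cert.stepsOK 19500 500 = true := by decide +kernel

theorem stepsOK_40 : cert.stepsOK 20000 500 = true := by decide +kernel

theorem stepsOK_41 : cert.stepsOK 20500 500 = true := by decide +kernel

theorem stepsOK_42 : cert.stepsOK 21000 500 = true := by decide +kernel

theorem stepsOK_43 : cert.stepsOK 21500 500 = true := by decide +kernel

theorem stepsOK_44 : cert.stepsOK 22000 500 = true := by decide +kernel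

theorem stepsOK_45 : cert.stepsOK 22500 500 = true := by decide +kernel

theorem stepsOK_46 : cert.stepsOK 23000 500 = true := by decide +kernel

theorem stepsOK_47 : cert.stepsOK 23500 500 = true := by decide +kernel

theorem stepsOK_48 : cert.stepsOK 24000 500 = true := by decide +kernel

theorem stepsOK_49 : cert.stepsOK 24500 500 = true := by decide +kernel

theorem stepsOK_50 : cert.stepsOK 25000 500 = true := by decide +kernel

theorem stepsOK_51 : cert.stepsOK 25500 500 = true := by decide +kernel

theorem stepsOK_52 : cert.stepsOK 26000 500 = true := by decide +kernel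

theorem stepsOK_53 : cert.stepsOK 26500 500 = true := by decide +kernel

theorem stepsOK_54 : cert.stepsOK 27000 500 = true := by decide +kernel

theorem stepsOK_55 : cert.stepsOK 27500 500 = true := by decide +kernel

theorem stepsOK_56 : cert.stepsOK 28000 500 = true := by decide +kernel

theorem stepsOK_57 : cert.stepsOK 28500 500 = true := by decide +kernel

theorem stepsOK_58 : cert.stepsOK 29000 316 = true := by decide +kernel

theorem stepsOK_all : cert.stepsOK 0 29316 = true := (catstepsOK cert 0 500 500 28816 29316 (by decide +kernel) (by decide +kernel) stepsOK_0 (catstepsOK cert 500 500 1000 28316 28816 (by decide +kernel) (by decide +kernel) stepsOK_1 (catstepsOK cert 1000 500 1500 27816 28316 (by decide +kernel) (by decide +kernel) stepsOK_2 (catstepsOK cert 1500 500 2000 27316 27816 (by decide +kernel) (by decide +kernel) stepsOK_3 (catstepsOK cert 2000 500 2500 26816 27316 (by decide +kernel) (by decide +kernel) stepsOK_4 (catstepsOK cert 2500 500 3000 26316 26816 (by decide +kernel) (by decide +kernel) stepsOK_5 (catstepsOK cert 3000 500 3500 25816 26316 (by decide +kernel) (by decide +kernel) stepsOK_6 (catstepsOK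 cert 3500 500 4000 25316 25816 (by decide +kernel) (by decide +kernel) stepsOK_7 (catstepsOK cert 4000 500 4500 24816 25316 (by decide +kernel) (by decide +kernel) stepsOK_8 (catstepsOK cert 4500 500 5000 24316 24816 (by decide +kernel) (by decide +kernel) stepsOK_9 (catstepsOK cert 5000 500 5500 23816 24316 (by decide +kernel) (by decide +kernel) stepsOK_10 (catstepsOK cert 5500 500 6000 23316 23816 (by decide +kernel) (by decide +kernel) stepsOK_11 (catstepsOK cert 6000 500 6500 22816 23316 (by decide +kernel) (by decide +kernel) stepsOK_12 (catstepsOK cert 6500 500 7000 22316 22816 (by decide +kernel) (by decide +kernel) stepsOK_13 (catstepsOK cert 7000 500 7500 21816 22316 (by decide +kernel) (by decide +kernel) stepsOK_14 (catstepsOK cert 7500 500 8000 21316 21816 (by decide +kernel) (by decide +kernel) stepsOK_15 (catstepsOK cert 8000 500 8500 20816 21316 (by decide +kernel) (by decide +kernel) stepsOK_16 (catstepsOK cert 8500 500 9000 20316 20816 (by decide +kernel) (by decide +kernel) stepsOK_17 (catstepsOK cert 9000 500 9500 19816 20316 (by decide +kernel) (by decide +kernel) stepsOK_18 (catstepsOK cert 9500 500 10000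 19316 19816 (by decide +kernel) (by decide +kernel) stepsOK_19 (catstepsOK cert 10000 500 10500 18816 19316 (by decide +kernel) (by decide +kernel) stepsOK_20 (catstepsOK cert 10500 500 11000 18316 18816 (by decide +kernel) (by decide +kernel) stepsOK_21 (catstepsOK cert 11000 500 11500 17816 18316 (by decide +kernel) (by decide +kernel) stepsOK_22 (catstepsOK cert 11500 500 12000 17316 17816 (by decide +kernel) (by decide +kernel) stepsOK_23 (catstepsOK cert 12000 500 12500 16816 17316 (by decide +kernel) (by decide +kernel) stepsOK_24 (catstepsOK cert 12500 500 13000 16316 16816 (by decide +kernel) (by decide +kernel) stepsOK_25 (catstepsOK cert 13000 500 13500 15816 16316 (by decide +kernel) (by decide +kernel) stepsOK_26 (catstepsOK cert 13500 500 14000 15316 15816 (by decide +kernel) (by decide +kernel) stepsOK_27 (catstepsOK cert 14000 500 14500 14816 15316 (by decide +kernel) (by decide +kernel) stepsOK_28 (catstepsOK cert 14500 500 15000 14316 14816 (by decide +kernel) (by decide +kernel) stepsOK_29 (catstepsOK cert 15000 500 15500 13816 14316 (by decide +kernel) (by decide +kernel) stepsOK_30 (catstepsOK cert 15500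 500 16000 13316 13816 (by decide +kernel) (by decide +kernel) stepsOK_31 (catstepsOK cert 16000 500 16500 12816 13316 (by decide +kernel) (by decide +kernel) stepsOK_32 (catstepsOK cert 16500 500 17000 12316 12816 (by decide +kernel) (by decide +kernel) stepsOK_33 (catstepsOK cert 17000 500 17500 11816 12316 (by decide +kernel) (by decide +kernel) stepsOK_34 (catstepsOK cert 17500 500 18000 11316 11816 (by decide +kernel) (by decide +kernel) stepsOK_35 (catstepsOK cert 18000 500 18500 10816 11316 (by decide +kernel) (by decide +kernel) stepsOK_36 (catstepsOK cert 18500 500 19000 10316 10816 (by decide +kernel) (by decide +kernel) stepsOK_37 (catstepsOK cert 19000 500 19500 9816 10316 (by decide +kernel) (by decide +kernel) stepsOK_38 (catstepsOK cert 19500 500 20000 9316 9816 (by decide +kernel) (by decide +kernel) stepsOK_39 (catstepsOK cert 20000 500 20500 8816 9316 (by decide +kernel) (by decide +kernel) stepsOK_40 (catstepsOK cert 20500 500 21000 8316 8816 (by decide +kernel) (by decide +kernel) stepsOK_41 (catstepsOK cert 21000 500 21500 7816 8316 (by decide +kernel) (by decide +kernel) stepsOK_42 (catstepsOK cert 21500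 500 22000 7316 7816 (by decide +kernel) (by decide +kernel) stepsOK_43 (catstepsOK cert 22000 500 22500 6816 7316 (by decide +kernel) (by decide +kernel) stepsOK_44 (catstepsOK cert 22500 500 23000 6316 6816 (by decide +kernel) (by decide +kernel) stepsOK_45 (catstepsOK cert 23000 500 23500 5816 6316 (by decide +kernel) (by decide +kernel) stepsOK_46 (catstepsOK cert 23500 500 24000 5316 5816 (by decide +kernel) (by decide +kernel) stepsOK_47 (catstepsOK cert 24000 500 24500 4816 5316 (by decide +kernel) (by decide +kernel) stepsOK_48 (catstepsOK cert 24500 500 25000 4316 4816 (by decide +kernel) (by decide +kernel) stepsOK_49 (catstepsOK cert 25000 500 25500 3816 4316 (by decide +kernel) (by decide +kernel) stepsOK_50 (catstepsOK cert 25500 500 26000 3316 3816 (by decide +kernel) (by decide +kernel) stepsOK_51 (catstepsOK cert 26000 500 26500 2816 3316 (by decide +kernel) (by decide +kernel) stepsOK_52 (catstepsOK cert 26500 500 27000 2316 2816 (by decide +kernel) (by decide +kernel) stepsOK_53 (catstepsOK cert 27000 500 27500 1816 2316 (by decide +kernel) (by decide +kernel) stepsOK_54 (catstepsOK cert 27500 500 28000 1316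 1816 (by decide +kernel) (by decide +kernel) stepsOK_55 (catstepsOK cert 28000 500 28500 816 1316 (by decide +kernel) (by decide +kernel) stepsOK_56 (catstepsOK cert 28500 500 29000 316 816 (by decide +kernel) (by decide +kernel) stepsOK_57 stepsOK_58))))))))))))))))))))))))))))))))))))))))))))))))))))))))))

theorem entsOK_0 : cert.entsOK 0 250 = true := by decide +kernel

theorem entsOK_1 : cert.entsOK 250 250 = true := by decide +kernel

theorem entsOK_2 : cert.entsOK 500 250 = true := by decide +kernel

theorem entsOK_3 : cert.entsOK 750 250 = true := by decide +kernel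

theorem entsOK_4 : cert.entsOK 1000 250 = true := by decide +kernel

theorem entsOK_5 : cert.entsOK 1250 250 = true := by decide +kernel

theorem entsOK_6 : cert.entsOK 1500 250 = true := by decide +kernel

theorem entsOK_7 : cert.entsOK 1750 250 = true := by decide +kernel

theorem entsOK_8 : cert.entsOK 2000 250 = true := by decide +kernel

theorem entsOK_9 : cert.entsOK 2250 250 = true := by decide +kernel

theorem entsOK_10 : cert.entsOK 2500 250 = true := by decide +kernel

theorem entsOK_11 : cert.entsOK 2750 250 = true := by decide +kernel

theorem entsOK_12 : cert.entsOK 3000 250 = true := by decide +kernel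

theorem entsOK_13 : cert.entsOK 3250 250 = true := by decide +kernel

theorem entsOK_14 : cert.entsOK 3500 250 = true := by decide +kernel

theorem entsOK_15 : cert.entsOK 3750 156 = true := by decide +kernel

theorem entsOK_all : cert.entsOK 0 3906 = true := (catentsOK cert 0 250 250 3656 3906 (by decide +kernel) (by decide +kernel) entsOK_0 (catentsOK cert 250 250 500 3406 3656 (by decide +kernel) (by decide +kernel) entsOK_1 (catentsOK cert 500 250 750 3156 3406 (by decide +kernel) (by decide +kernel) entsOK_2 (catentsOK cert 750 250 1000 2906 3156 (by decide +kernel) (by decide +kernel) entsOK_3 (catentsOK cert 1000 250 1250 2656 2906 (by decide +kernel) (by decide +kernel) entsOK_4 (catentsOK cert 1250 250 1500 2406 2656 (by decide +kernel) (by decide +kernel) entsOK_5 (catentsOK cert 1500 250 1750 2156 2406 (by decide +kernel) (by decide +kernel) entsOK_6 (catentsOK cert 1750 250 2000 1906 2156 (by decide +kernel) (by decide +kernel) entsOK_7 (catentsOK cert 2000 250 2250 1656 1906 (by decide +kernel) (by decide +kernel) entsOK_8 (catentsOK cert 2250 250 2500 1406 1656 (by decide +kernel) (by decide +kernel) entsOK_9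 (catentsOK cert 2500 250 2750 1156 1406 (by decide +kernel) (by decide +kernel) entsOK_10 (catentsOK cert 2750 250 3000 906 1156 (by decide +kernel) (by decide +kernel) entsOK_11 (catentsOK cert 3000 250 3250 656 906 (by decide +kernel) (by decide +kernel) entsOK_12 (catentsOK cert 3250 250 3500 406 656 (by decide +kernel) (by decide +kernel) entsOK_13 (catentsOK cert 3500 250 3750 156 406 (by decide +kernel) (by decide +kernel) entsOK_14 entsOK_15)))))))))))))))

theorem rowsOK_0 : cert.rowsOK 0 250 = true := by decide +kernel

theorem rowsOK_1 : cert.rowsOK 250 250 = true := by decide +kernel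

theorem rowsOK_2 : cert.rowsOK 500 250 = true := by decide +kernel

theorem rowsOK_3 : cert.rowsOK 750 250 = true := by decide +kernel

theorem rowsOK_4 : cert.rowsOK 1000 250 = true := by decide +kernel

theorem rowsOK_5 : cert.rowsOK 1250 250 = true := by decide +kernel

theorem rowsOK_6 : cert.rowsOK 1500 250 = true := by decide +kernel

theorem rowsOK_7 : cert.rowsOK 1750 250 = true := by decide +kernel

theorem rowsOK_8 : cert.rowsOK 2000 250 = true := by decide +kernel

theorem rowsOK_9 : cert.rowsOK 2250 250 = true := by decide +kernel

theorem rowsOK_10 : cert.rowsOK 2500 250 = true := by decide +kernel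

theorem rowsOK_11 : cert.rowsOK 2750 250 = true := by decide +kernel

theorem rowsOK_12 : cert.rowsOK 3000 250 = true := by decide +kernel

theorem rowsOK_13 : cert.rowsOK 3250 250 = true := by decide +kernel

theorem rowsOK_14 : cert.rowsOK 3500 250 = true := by decide +kernel

theorem rowsOK_15 : cert.rowsOK 3750 156 = true := by decide +kernel

theorem rowsOK_all : cert.rowsOK 0 3906 = true := (catrowsOK cert 0 250 250 3656 3906 (by decide +kernel) (by decide +kernel) rowsOK_0 (catrowsOK cert 250 250 500 3406 3656 (by decide +kernel) (by decide +kernel) rowsOK_1 (catrowsOK cert 500 250 750 3156 3406 (by decide +kernel) (by decide +kernel) rowsOK_2 (catrowsOK cert 750 250 1000 2906 3156 (by decide +kernel) (by decide +kernel) rowsOK_3 (catrowsOK cert 1000 250 1250 2656 2906 (by decide +kernel) (by decide +kernel) rowsOK_4 (catrowsOK cert 1250 250 1500 2406 2656 (by decide +kernel) (by decide +kernel) rowsOK_5 (catrowsOK cert 1500 250 1750 2156 2406 (by decide +kernel) (by decide +kernel) rowsOK_6 (catrowsOK cert 1750 250 2000 1906 2156 (by decide +kernel) (by decide +kernel) rowsOK_7 (catrowsOK cert 2000 250 2250 1656 1906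 (by decide +kernel) (by decide +kernel) rowsOK_8 (catrowsOK cert 2250 250 2500 1406 1656 (by decide +kernel) (by decide +kernel) rowsOK_9 (catrowsOK cert 2500 250 2750 1156 1406 (by decide +kernel) (by decide +kernel) rowsOK_10 (catrowsOK cert 2750 250 3000 906 1156 (by decide +kernel) (by decide +kernel) rowsOK_11 (catrowsOK cert 3000 250 3250 656 906 (by decide +kernel) (by decide +kernel) rowsOK_12 (catrowsOK cert 3250 250 3500 406 656 (by decide +kernel) (by decide +kernel) rowsOK_13 (catrowsOK cert 3500 250 3750 156 406 (by decide +kernel) (by decide +kernel) rowsOK_14 rowsOK_15)))))))))))))))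

theorem valid : cert.Valid :=
  ⟨by decide, by decide +kernel, stepsOK_all, entsOK_all⟩

end Cfsg.Lib.LyPres.TabP
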