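import Cfsg.Agent.LyPres.TabQData
import Cfsg.Agent.LyPres.TabCat

/-!
The checks of the table.
-/

set_option autoImplicit false
set_option Elab.async false

namespace Cfsg.Lib.LyPres.TabQ

open Cfsg.Lib.CosetTable Cfsg.Lib.LyPres

theorem stepsOK_0 : cert.stepsOK 0 500 = true := by decide +kernel

theorem stepsOK_1 : cert.stepsOK 500 500 = true := by decide +kernel

theorem stepsOK_2 : cert.stepsOK 1000 500 = true := by decide +kernel

theorem stepsOK_3 : cert.stepsOK 1500 500 = true := by decide +kernel

theorem stepsOK_4 : cert.stepsOK 2000 500 = true := by decide +kernel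

theorem stepsOK_5 : cert.stepsOK 2500 500 = true := by decide +kernel

theorem stepsOK_6 : cert.stepsOK 3000 500 = true := by decide +kernel

theorem stepsOK_7 : cert.stepsOK 3500 500 = true := by decide +kernel

theorem stepsOK_8 : cert.stepsOK 4000 500 = true := by decide +kernel

theorem stepsOK_9 : cert.stepsOK 4500 500 = true := by decide +kernel

theorem stepsOK_10 : cert.stepsOK 5000 500 = true := by decide +kernel

theorem stepsOK_11 : cert.stepsOK 5500 500 = true := by decide +kernel

theorem stepsOK_12 : cert.stepsOK 6000 500 = true := by decide +kernel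

theorem stepsOK_13 : cert.stepsOK 6500 500 = true := by decide +kernel

theorem stepsOK_14 : cert.stepsOK 7000 500 = true := by decide +kernel

theorem stepsOK_15 : cert.stepsOK 7500 500 = true := by decide +kernel

theorem stepsOK_16 : cert.stepsOK 8000 500 = true := by decide +kernel

theorem stepsOK_17 : cert.stepsOK 8500 500 = true := by decide +kernel

theorem stepsOK_18 : cert.stepsOK 9000 500 = true := by decide +kernel

theorem stepsOK_19 : cert.stepsOK 9500 500 = true := by decide +kernel

theorem stepsOK_20 : cert.stepsOK 10000 500 = true := by decide +kernel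

theorem stepsOK_21 : cert.stepsOK 10500 500 = true := by decide +kernel

theorem stepsOK_22 : cert.stepsOK 11000 500 = true := by decide +kernel

theorem stepsOK_23 : cert.stepsOK 11500 500 = true := by decide +kernel

theorem stepsOK_24 : cert.stepsOK 12000 500 = true := by decide +kernel

theorem stepsOK_25 : cert.stepsOK 12500 500 = true := by decide +kernel

theorem stepsOK_26 : cert.stepsOK 13000 500 = true := by decide +kernel

theorem stepsOK_27 : cert.stepsOK 13500 500 = true := by decide +kernel

theorem stepsOK_28 : cert.stepsOK 14000 500 = true := by decide +kernel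

theorem stepsOK_29 : cert.stepsOK 14500 500 = true := by decide +kernel

theorem stepsOK_30 : cert.stepsOK 15000 500 = true := by decide +kernel

theorem stepsOK_31 : cert.stepsOK 15500 125 = true := by decide +kernel

theorem stepsOK_all : cert.stepsOK 0 15625 = true := (catstepsOK cert 0 500 500 15125 15625 (by decide +kernel) (by decide +kernel) stepsOK_0 (catstepsOK cert 500 500 1000 14625 15125 (by decide +kernel) (by decide +kernel) stepsOK_1 (catstepsOK cert 1000 500 1500 14125 14625 (by decide +kernel) (by decide +kernel) stepsOK_2 (catstepsOK cert 1500 500 2000 13625 14125 (by decide +kernel) (by decide +kernel) stepsOK_3 (catstepsOK cert 2000 500 2500 13125 13625 (by decide +kernel) (by decide +kernel) stepsOK_4 (catstepsOK cert 2500 500 3000 12625 13125 (by decide +kernel) (by decide +kernel) stepsOK_5 (catstepsOK cert 3000 500 3500 12125 12625 (by decide +kernel) (by decide +kernel) stepsOK_6 (catstepsOK cert 3500 500 4000 11625 12125 (by decide +kernel) (by decide +kernel) stepsOK_7 (catstepsOK cert 4000 500 4500 11125 11625 (by decide +kernel) (by decide +kernel) stepsOK_8 (catstepsOK cert 4500 500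 5000 10625 11125 (by decide +kernel) (by decide +kernel) stepsOK_9 (catstepsOK cert 5000 500 5500 10125 10625 (by decide +kernel) (by decide +kernel) stepsOK_10 (catstepsOK cert 5500 500 6000 9625 10125 (by decide +kernel) (by decide +kernel) stepsOK_11 (catstepsOK cert 6000 500 6500 9125 9625 (by decide +kernel) (by decide +kernel) stepsOK_12 (catstepsOK cert 6500 500 7000 8625 9125 (by decide +kernel) (by decide +kernel) stepsOK_13 (catstepsOK cert 7000 500 7500 8125 8625 (by decide +kernel) (by decide +kernel) stepsOK_14 (catstepsOK cert 7500 500 8000 7625 8125 (by decide +kernel) (by decide +kernel) stepsOK_15 (catstepsOK cert 8000 500 8500 7125 7625 (by decide +kernel) (by decide +kernel) stepsOK_16 (catstepsOK cert 8500 500 9000 6625 7125 (by decide +kernel) (by decide +kernel) stepsOK_17 (catstepsOK cert 9000 500 9500 6125 6625 (by decide +kernel) (by decide +kernel) stepsOK_18 (catstepsOK cert 9500 500 10000 5625 6125 (by decide +kernel) (by decide +kernel) stepsOK_19 (catstepsOK cert 10000 500 10500 5125 5625 (by decide +kernel) (by decide +kernel) stepsOK_20 (catstepsOK cert 10500 500 11000 4625 5125 (by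 decide +kernel) (by decide +kernel) stepsOK_21 (catstepsOK cert 11000 500 11500 4125 4625 (by decide +kernel) (by decide +kernel) stepsOK_22 (catstepsOK cert 11500 500 12000 3625 4125 (by decide +kernel) (by decide +kernel) stepsOK_23 (catstepsOK cert 12000 500 12500 3125 3625 (by decide +kernel) (by decide +kernel) stepsOK_24 (catstepsOK cert 12500 500 13000 2625 3125 (by decide +kernel) (by decide +kernel) stepsOK_25 (catstepsOK cert 13000 500 13500 2125 2625 (by decide +kernel) (by decide +kernel) stepsOK_26 (catstepsOK cert 13500 500 14000 1625 2125 (by decide +kernel) (by decide +kernel) stepsOK_27 (catstepsOK cert 14000 500 14500 1125 1625 (by decide +kernel) (by decide +kernel) stepsOK_28 (catstepsOK cert 14500 500 15000 625 1125 (by decide +kernel) (by decide +kernel) stepsOK_29 (catstepsOK cert 15000 500 15500 125 625 (by decide +kernel) (by decide +kernel) stepsOK_30 stepsOK_31)))))))))))))))))))))))))))))))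

theorem entsOK_0 : cert.entsOK 0 250 = true := by decide +kernel

theorem entsOK_1 : cert.entsOK 250 250 = true := by decide +kernel

theorem entsOK_2 : cert.entsOK 500 250 = true := by decide +kernel

theorem entsOK_3 : cert.entsOK 750 250 = true := by decide +kernel

theorem entsOK_4 : cert.entsOK 1000 250 = true := by decide +kernel

theorem entsOK_5 : cert.entsOK 1250 250 = true := by decide +kernel

theorem entsOK_6 : cert.entsOK 1500 250 = true := by decide +kernel

theorem entsOK_7 : cert.entsOK 1750 250 = true := by decide +kernel

theorem entsOK_8 : cert.entsOK 2000 250 = true := by decide +kernel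

theorem entsOK_9 : cert.entsOK 2250 250 = true := by decide +kernel

theorem entsOK_10 : cert.entsOK 2500 250 = true := by decide +kernel

theorem entsOK_11 : cert.entsOK 2750 250 = true := by decide +kernel

theorem entsOK_12 : cert.entsOK 3000 125 = true := by decide +kernel

theorem entsOK_all : cert.entsOK 0 3125 = true := (catentsOK cert 0 250 250 2875 3125 (by decide +kernel) (by decide +kernel) entsOK_0 (catentsOK cert 250 250 500 2625 2875 (by decide +kernel) (by decide +kernel) entsOK_1 (catentsOK cert 500 250 750 2375 2625 (by decide +kernel) (by decide +kernel) entsOK_2 (catentsOK cert 750 250 1000 2125 2375 (by decide +kernel) (by decide +kernel) entsOK_3 (catentsOK cert 1000 250 1250 1875 2125 (by decide +kernel) (by decide +kernel) entsOK_4 (catentsOK cert 1250 250 1500 1625 1875 (by decide +kernel) (by decide +kernel) entsOK_5 (catentsOK cert 1500 250 1750 1375 1625 (by decide +kernel) (by decide +kernel) entsOK_6 (catentsOK cert 1750 250 2000 1125 1375 (by decide +kernel) (by decide +kernel) entsOK_7 (catentsOK cert 2000 250 2250 875 1125 (by decide +kernel) (by decide +kernel) entsOK_8 (catentsOK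 cert 2250 250 2500 625 875 (by decide +kernel) (by decide +kernel) entsOK_9 (catentsOK cert 2500 250 2750 375 625 (by decide +kernel) (by decide +kernel) entsOK_10 (catentsOK cert 2750 250 3000 125 375 (by decide +kernel) (by decide +kernel) entsOK_11 entsOK_12))))))))))))

theorem rowsOK_0 : cert.rowsOK 0 250 = true := by decide +kernel

theorem rowsOK_1 : cert.rowsOK 250 250 = true := by decide +kernel

theorem rowsOK_2 : cert.rowsOK 500 250 = true := by decide +kernel

theorem rowsOK_3 : cert.rowsOK 750 250 = true := by decide +kernel

theorem rowsOK_4 : cert.rowsOK 1000 250 = true := by decide +kernel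

theorem rowsOK_5 : cert.rowsOK 1250 250 = true := by decide +kernel

theorem rowsOK_6 : cert.rowsOK 1500 250 = true := by decide +kernel

theorem rowsOK_7 : cert.rowsOK 1750 250 = true := by decide +kernel

theorem rowsOK_8 : cert.rowsOK 2000 250 = true := by decide +kernel

theorem rowsOK_9 : cert.rowsOK 2250 250 = true := by decide +kernel

theorem rowsOK_10 : cert.rowsOK 2500 250 = true := by decide +kernel

theorem rowsOK_11 : cert.rowsOK 2750 250 = true := by decide +kernel

theorem rowsOK_12 : cert.rowsOK 3000 125 = true := by decide +kernel

theorem rowsOK_all : cert.rowsOK 0 3125 = true := (catrowsOK cert 0 250 250 2875 3125 (by decide +kernel) (by decide +kernel) rowsOK_0 (catrowsOK cert 250 250 500 2625 2875 (by decide +kernel) (by decide +kernel) rowsOK_1 (catrowsOK cert 500 250 750 2375 2625 (by decide +kernel) (by decide +kernel) rowsOK_2 (catrowsOK cert 750 250 1000 2125 2375 (by decide +kernel) (by decide +kernel) rowsOK_3 (catrowsOK cert 1000 250 1250 1875 2125 (by decide +kernel) (by decide +kernel) rowsOK_4 (catrowsOK cert 1250 250 1500 1625 1875 (by decide +kernel) (by decide +kernel) rowsOK_5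 (catrowsOK cert 1500 250 1750 1375 1625 (by decide +kernel) (by decide +kernel) rowsOK_6 (catrowsOK cert 1750 250 2000 1125 1375 (by decide +kernel) (by decide +kernel) rowsOK_7 (catrowsOK cert 2000 250 2250 875 1125 (by decide +kernel) (by decide +kernel) rowsOK_8 (catrowsOK cert 2250 250 2500 625 875 (by decide +kernel) (by decide +kernel) rowsOK_9 (catrowsOK cert 2500 250 2750 375 625 (by decide +kernel) (by decide +kernel) rowsOK_10 (catrowsOK cert 2750 250 3000 125 375 (by decide +kernel) (by decide +kernel) rowsOK_11 rowsOK_12))))))))))))

theorem valid : cert.Valid :=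
  ⟨by decide, by decide +kernel, stepsOK_all, entsOK_all⟩

end Cfsg.Lib.LyPres.TabQ
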