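import Cfsg.Agent.LyPres.Group
import Cfsg.Agent.LyPres.TabPCheck
import Cfsg.Agent.LyPres.TabQCheck
import Cfsg.Agent.LyPres.TabACheck

/-!
The group on nine letters has at most the order of G2(5).
-/

set_option autoImplicit false

namespace Cfsg.Lib.LyPres

open Cfsg.Lib

/-- Cancel neighbours inverse to each other. -/
def cancel (inv : List ℕ) : List ℕ → List ℕ
  | [] => []
  | l :: w =>
    match cancel inv w with
    | [] => [l]
    | m :: r => bif Nat.beq m (inv.getD l 0) then r else l :: m :: r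

theorem cancel_val {G : Type*} [Group G] (im : ℕ → G) (inv : List ℕ) (n : ℕ)
    (hinv : ∀ l < n, im (inv.getD l 0) = (im l)⁻¹) : ∀ w : List ℕ, (∀ l ∈ w, l < n) →
      CosetTable.wval im (cancel inv w) = CosetTable.wval im w
  | [], _ => rfl
  | l :: w, h => by
    have e := cancel_val im inv n hinv w fun a ha => h a (List.mem_cons_of_mem l ha)
    have ew : CosetTable.wval im (l :: w) = im l * CosetTable.wval im w := by simp [CosetTable.wval]
    rw [ew, ← e, cancel]
    cases hc : cancel inv w with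
    | nil => simp [CosetTable.wval]
    | cons m r =>
      dsimp only
      cases hb : Nat.beq m (inv.getD l 0) with
      | false => simp [CosetTable.wval]
      | true =>
        rw [cond_true, Nat.eq_of_beq_eq_true hb]
        simp only [CosetTable.wval, List.map_cons, List.prod_cons, hinv l (h l List.mem_cons_self), mul_inv_cancel_left]

theorem rel_pair (k : ℕ) (w : List ℕ) (hw : rels9.getD k [] = w) (hk : k < rels9.length) : wval fgen w = 1 := by
  subst hw
  refine fgen_rels _ ?_
  rw [List.getD_eq_getElem _ _ hk]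
  exact List.getElem_mem hk

theorem e_sq : fgen 4 * fgen 4 = 1 := by
  have h : [8, 8] ∈ rels9 := by decide +kernel
  simpa [wval] using fgen_rels _ h

theorem c2_eq : fgen 5 = (fgen 0)⁻¹ * fgen 2 * fgen 0 := by
  have h : [10, 1, 5, 0] ∈ rels9 := by decide +kernel
  have e := fgen_rels _ h
  simp [wval] at e
  rw [← mul_inv_eq_one, mul_inv_rev, mul_inv_rev, inv_inv]
  simpa [mul_assoc] using e

theorem c3_eq : fgen 6 = (fgen 1)⁻¹ * fgen 2 * fgen 1 := by
  have h : [12, 3, 5, 2] ∈ rels9 := by decide +kernel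
  have e := fgen_rels _ h
  simp [wval] at e
  rw [← mul_inv_eq_one, mul_inv_rev, mul_inv_rev, inv_inv]
  simpa [mul_assoc] using e

theorem c4_eq : fgen 7 = fgen 1 * fgen 2 * (fgen 1)⁻¹ := by
  have h : [14, 2, 5, 3] ∈ rels9 := by decide +kernel
  have e := fgen_rels _ h
  simp [wval] at e
  rw [← mul_inv_eq_one, mul_inv_rev, mul_inv_rev, inv_inv]
  simpa [mul_assoc] using e

/-- The fifteen letters of the table over the subgroup on a, b, c. -/
def imP (l : ℕ) : F :=
  match l with
  | 0 => fgen 0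
  | 1 => (fgen 0)⁻¹
  | 2 => fgen 1
  | 3 => (fgen 1)⁻¹
  | 4 => fgen 2
  | 5 => (fgen 2)⁻¹
  | 6 => fgen 3
  | 7 => (fgen 3)⁻¹
  | 8 => fgen 4
  | 9 => fgen 5
  | 10 => (fgen 5)⁻¹
  | 11 => fgen 6
  | 12 => (fgen 6)⁻¹
  | 13 => fgen 8
  | _ => (fgen 8)⁻¹

/-- The letters replacing those of the nine. -/
def subP : List (List ℕ) :=
  [[0], [1], [2], [3], [4], [5], [6], [7], [8], [8], [9], [10], [11], [12], [2, 4, 3], [2, 5, 3], [13], [14]]

theorem imP_inv : ∀ l < 15, imP (TabP.cert.iv.getD l 0) = (imP l)⁻¹ := by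
  intro l hl
  interval_cases l <;> simp [TabP.cert, imP]
  exact (inv_eq_of_mul_eq_one_right e_sq).symm

theorem subP_val (l : ℕ) (hl : l < 18) : CosetTable.wval imP (subP.getD l []) = wval fgen [l] := by
  interval_cases l <;> simp [subP, CosetTable.wval, wval, imP, c4_eq, mul_assoc]
  exact (inv_eq_of_mul_eq_one_right e_sq).symm

theorem flat_val : ∀ w : List ℕ, (∀ l ∈ w, l < 18) →
    CosetTable.wval imP (w.flatMap fun l => subP.getD l []) = wval fgen w
  | [], _ => rfl
  | l :: w, h => by
    have e := flat_val w fun a ha => h a (List.mem_cons_of_mem l ha)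
    rw [List.flatMap_cons, CosetTable.wval, List.map_append, List.prod_append]
    rw [CosetTable.wval] at e
    rw [e]
    have h1 := subP_val l (h l List.mem_cons_self)
    rw [CosetTable.wval] at h1
    rw [h1]
    simp [wval]

theorem relsP_ok : (TabP.cert.rels.all fun r => rels9.any fun w =>
    r == cancel TabP.cert.iv (w.flatMap fun l => subP.getD l [])) = true := by decide +kernel

theorem subP_lt : (subP.all fun w => w.all fun l => Nat.blt l 15) = true := by decide +kernel

theorem relsP : ∀ r ∈ TabP.cert.rels, CosetTable.wval imP r = 1 := by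
  intro r hr
  obtain ⟨w, hw, e⟩ := List.any_eq_true.1 (List.all_eq_true.1 relsP_ok r hr)
  rw [beq_iff_eq] at e
  subst e
  have h18 : ∀ l ∈ w, l < 18 := fun l hl => by
    simpa [Nat.blt_eq] using List.all_eq_true.1 (List.all_eq_true.1 rels9_letters w hw) l hl
  rw [cancel_val imP _ 15 imP_inv, flat_val w h18, fgen_rels w hw]
  intro a ha
  obtain ⟨l, hl, ha⟩ := List.mem_flatMap.1 ha
  have hlt : l < subP.length := h18 l hl
  rw [List.getD_eq_getElem _ _ hlt] at ha
  simpa [Nat.blt_eq] using List.all_eq_true.1 (List.all_eq_true.1 subP_lt _ (List.getElem_mem hlt)) a ha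

/-- The five c. -/
def cSet : List ℕ := [2, 5, 6, 7, 8]

/-- The subgroup on the five c. -/
def Qc : Subgroup F := Subgroup.closure {g | ∃ k ∈ cSet, fgen k = g}

/-- The subgroup on a and b. -/
def Ab : Subgroup F := Subgroup.closure {fgen 0, fgen 1}

/-- The subgroup on a, b, c. -/
def Par : Subgroup F := Subgroup.closure {fgen 0, fgen 1, fgen 2}

theorem fgen_mem_Qc {k : ℕ} (h : k ∈ cSet) : fgen k ∈ Qc := Subgroup.subset_closure ⟨k, h, rfl⟩

/-- The letters of the table of the five c. -/
def imQ (l : ℕ) : F := bif l % 2 == 0 then fgen (cSet.getD (l / 2) 0) else (fgen (cSet.getD (l / 2) 0))⁻¹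

/-- A letter of the five c as a letter of the nine. -/
def upQ (l : ℕ) : ℕ := 2 * cSet.getD (l / 2) 0 + l % 2

theorem upQ_val (w : List ℕ) : CosetTable.wval imQ w = wval fgen (w.map upQ) := by
  simp only [CosetTable.wval, wval, List.map_map]
  congr 1
  refine List.map_congr_left fun l _ => ?_
  simp only [Function.comp_apply, imQ, upQ]
  rw [show (2 * cSet.getD (l / 2) 0 + l % 2) % 2 = l % 2 by omega,
    show (2 * cSet.getD (l / 2) 0 + l % 2) / 2 = cSet.getD (l / 2) 0 by omega]

theorem pow_five : fgen 5 ^ 5 = 1 ∧ fgen 6 ^ 5 = 1 ∧ fgen 7 ^ 5 = 1 := by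
  have h : [4, 4, 4, 4, 4] ∈ rels9 := by decide +kernel
  have e : fgen 2 ^ 5 = 1 := by simpa [wval, pow_succ, mul_assoc] using fgen_rels _ h
  refine ⟨?_, ?_, ?_⟩
  · rw [c2_eq, show (fgen 0)⁻¹ * fgen 2 * fgen 0 = (fgen 0)⁻¹ * fgen 2 * ((fgen 0)⁻¹)⁻¹ by rw [inv_inv],
      conj_pow, e]
    group
  · rw [c3_eq, show (fgen 1)⁻¹ * fgen 2 * fgen 1 = (fgen 1)⁻¹ * fgen 2 * ((fgen 1)⁻¹)⁻¹ by rw [inv_inv],
      conj_pow, e]
    group
  · rw [c4_eq, conj_pow, e]
    group

theorem relsQ_ok : (TabQ.cert.rels.all fun r => rels9.contains (r.map upQ) ||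
    r == [2, 2, 2, 2, 2] || r == [4, 4, 4, 4, 4] || r == [6, 6, 6, 6, 6]) = true := by decide +kernel

theorem relsQ : ∀ r ∈ TabQ.cert.rels, CosetTable.wval imQ r = 1 := by
  intro r hr
  have h := List.all_eq_true.1 relsQ_ok r hr
  simp only [Bool.or_eq_true, beq_iff_eq, List.contains_iff_mem] at h
  rcases h with ((h | rfl) | rfl) | rfl
  · rw [upQ_val, fgen_rels _ h]
  · simpa [CosetTable.wval, imQ, cSet, pow_succ, mul_assoc] using pow_five.1
  · simpa [CosetTable.wval, imQ, cSet, pow_succ, mul_assoc] using pow_five.2.1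
  · simpa [CosetTable.wval, imQ, cSet, pow_succ, mul_assoc] using pow_five.2.2

theorem card_Qc : Finite Qc ∧ Nat.card Qc ≤ 3125 := by
  have hS : TabQ.cert.Sound imQ (⊥ : Subgroup F) :=
    ⟨fun l hl => by
      have hl' : l < 10 := hl
      interval_cases l <;> simp [CosetTable.Cert.inv, TabQ.cert, imQ],
    fun l hl => by
      have hl' : l < 10 := hl
      interval_cases l <;> simp [CosetTable.Cert.inv, TabQ.cert],
    relsQ, fun r hr => absurd hr (by simp [TabQ.cert])⟩
  obtain ⟨h1, h2⟩ := CosetTable.card_le TabQ.cert imQ ⊥ TabQ.valid hS TabQ.rowsOK_all (L := Qc) ((Subgroup.closure_le _).2 (by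
    rintro _ ⟨k, hk, rfl⟩
    refine Subgroup.subset_closure ⟨2 * cSet.idxOf k, ?_, ?_⟩
    · simp only [cSet, List.mem_cons, List.not_mem_nil, or_false] at hk
      rcases hk with rfl | rfl | rfl | rfl | rfl <;> simp [TabQ.cert, cSet, List.idxOf, List.findIdx, List.findIdx.go]
    · simp only [cSet, List.mem_cons, List.not_mem_nil, or_false] at hk
      rcases hk with rfl | rfl | rfl | rfl | rfl <;> simp [imQ, cSet, List.idxOf, List.findIdx, List.findIdx.go]))
  exact ⟨h1, by simpa [TabQ.cert, Subgroup.card_bot] using h2⟩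

/-- The letters of the table of a and b. -/
def imA (l : ℕ) : F :=
  match l with
  | 0 => fgen 0
  | 1 => (fgen 0)⁻¹
  | 2 => fgen 1
  | _ => (fgen 1)⁻¹

theorem relsA_ok : (TabA.cert.rels.all fun r => rels9.contains r && r.all fun l => Nat.blt l 4) = true := by
  decide +kernel

theorem card_Ab : Finite Ab ∧ Nat.card Ab ≤ 480 := by
  have hS : TabA.cert.Sound imA (⊥ : Subgroup F) :=
    ⟨fun l hl => by
      have hl' : l < 4 := hl
      interval_cases l <;> simp [CosetTable.Cert.inv, TabA.cert, imA],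
    fun l hl => by
      have hl' : l < 4 := hl
      interval_cases l <;> simp [CosetTable.Cert.inv, TabA.cert],
    fun r hr => by
      have h := List.all_eq_true.1 relsA_ok r hr
      simp only [Bool.and_eq_true, List.contains_iff_mem, List.all_eq_true, Nat.blt_eq] at h
      rw [← fgen_rels r h.1, CosetTable.wval, wval]
      congr 1
      refine List.map_congr_left fun l hl => ?_
      have := h.2 l hl
      interval_cases l <;> simp [imA],
    fun r hr => absurd hr (by simp [TabA.cert])⟩
  obtain ⟨h1, h2⟩ := CosetTable.card_le TabA.cert imA ⊥ TabA.valid hS TabA.rowsOK_all (L := Ab) ((Subgroup.closure_le _).2 (by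
    rintro g (rfl | rfl)
    · exact Subgroup.subset_closure ⟨0, by simp [TabA.cert], rfl⟩
    · exact Subgroup.subset_closure ⟨2, by simp [TabA.cert], rfl⟩))
  exact ⟨h1, by simpa [TabA.cert, Subgroup.card_bot] using h2⟩

theorem conj_word {x y : ℕ} {r : List ℕ} (h : (2 * x + 1) :: 2 * y :: 2 * x :: r ∈ rels9)
    (hr : (r.all fun l => cSet.contains (l / 2)) = true) : (fgen x)⁻¹ * fgen y * fgen x ∈ Qc := by
  have e := fgen_rels _ h
  simp only [wval, List.map_cons, List.prod_cons] at e
  rw [show (2 * x + 1) % 2 = 1 by omega, show (2 * y) % 2 = 0 by omega, show (2 * x) % 2 = 0 by omega,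
    show (2 * x + 1) / 2 = x by omega, show (2 * y) / 2 = y by omega, show (2 * x) / 2 = x by omega] at e
  simp only [Nat.one_ne_zero, beq_eq_false_iff_ne.2 Nat.one_ne_zero, beq_self_eq_true, cond_true, cond_false,
    ← mul_assoc] at e
  rw [← mul_inv_cancel_right ((fgen x)⁻¹ * fgen y * fgen x) (wval fgen r)]
  refine mul_mem (by rw [show (fgen x)⁻¹ * fgen y * fgen x * wval fgen r = 1 from e]; exact one_mem _)
    (inv_mem (list_prod_mem fun g hg => ?_))
  obtain ⟨l, hl, rfl⟩ := List.mem_map.1 hg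
  have hm := fgen_mem_Qc (List.contains_iff_mem.1 (List.all_eq_true.1 hr l hl))
  cases l % 2 == 0 with
  | true => exact hm
  | false => exact inv_mem hm

theorem conj_Qc : ∀ g ∈ ({fgen 0, fgen 1} : Set F), ∀ k ∈ cSet, g⁻¹ * fgen k * g ∈ Qc := by
  rintro g (rfl | rfl) k hk <;> simp only [cSet, List.mem_cons, List.not_mem_nil, or_false] at hk
  · rcases hk with rfl | rfl | rfl | rfl | rfl
    · rw [← c2_eq]; exact fgen_mem_Qc (by decide)
    · exact conj_word (x := 0) (y := 5) (r := [4, 4]) (by decide +kernel) (by decide +kernel)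
    · exact conj_word (x := 0) (y := 6) (r := [15, 5, 12, 12]) (by decide +kernel) (by decide +kernel)
    · exact conj_word (x := 0) (y := 7) (r := [15, 5, 15, 12, 10, 5]) (by decide +kernel) (by decide +kernel)
    · exact conj_word (x := 0) (y := 8) (r := [17, 17]) (by decide +kernel) (by decide +kernel)
  · rcases hk with rfl | rfl | rfl | rfl | rfl
    · rw [← c3_eq]; exact fgen_mem_Qc (by decide)
    · exact conj_word (x := 1) (y := 5) (r := [14, 4, 14, 13, 11]) (by decide +kernel) (by decide +kernel)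
    · exact conj_word (x := 1) (y := 6) (r := [12, 12, 15, 5, 5]) (by decide +kernel) (by decide +kernel)
    · rw [c4_eq, show (fgen 1)⁻¹ * (fgen 1 * fgen 2 * (fgen 1)⁻¹) * fgen 1 = fgen 2 by group]
      exact fgen_mem_Qc (by decide)
    · exact conj_word (x := 1) (y := 8) (r := [17]) (by decide +kernel) (by decide +kernel)

theorem Ab_le_normalizer : Ab ≤ Subgroup.normalizer (Qc : Set F) := by
  haveI := card_Qc.1
  refine (Subgroup.closure_le _).2 fun g hg => ?_
  have hmap : Qc.map (MulAut.conj g⁻¹).toMonoidHom ≤ Qc := by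
    rw [Qc, MonoidHom.map_closure, Subgroup.closure_le]
    rintro _ ⟨_, ⟨k, hk, rfl⟩, rfl⟩
    show g⁻¹ * fgen k * g⁻¹⁻¹ ∈ Qc
    rw [inv_inv]
    exact conj_Qc g hg k hk
  have heq : Qc.map (MulAut.conj g⁻¹).toMonoidHom = Qc :=
    Subgroup.eq_of_le_of_card_ge hmap (le_of_eq (Nat.card_congr
      (Qc.equivMapOfInjective _ (MulAut.conj g⁻¹).injective).toEquiv))
  rw [SetLike.mem_coe, Subgroup.mem_normalizer_iff'']
  refine fun h => ⟨fun hh => ?_, fun hh => ?_⟩
  · have := hmap ⟨h, hh, rfl⟩
    simpa using this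
  · rw [← heq] at hh
    obtain ⟨y, hy, e⟩ := hh
    have : y = h := (MulAut.conj g⁻¹).injective (by simpa using e)
    exact this ▸ hy

theorem card_Par_le : Nat.card Par ≤ 480 * Nat.card Qc := by
  haveI := card_Qc.1
  haveI := card_Ab.1
  let f : Ab × Qc → F := fun z => z.1.1 * z.2.1
  have hsub : (Par : Set F) ⊆ Set.range f := by
    have h : (Par : Set F) ⊆ ((Ab ⊔ Qc : Subgroup F) : Set F) := by
      refine (Subgroup.closure_le _).2 ?_
      rintro g (rfl | rfl | rfl)
      · exact Subgroup.mem_sup_left (Subgroup.subset_closure (by simp))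
      · exact Subgroup.mem_sup_left (Subgroup.subset_closure (by simp))
      · exact Subgroup.mem_sup_right (fgen_mem_Qc (by decide))
    intro g hg
    have h' := h hg
    rw [Subgroup.coe_mul_of_left_le_normalizer_right Ab Qc Ab_le_normalizer] at h'
    obtain ⟨u, hu, v, hv, rfl⟩ := h'
    exact ⟨(⟨u, hu⟩, ⟨v, hv⟩), rfl⟩
  calc Nat.card Par = (Par : Set F).ncard := Nat.card_coe_set_eq _
    _ ≤ (Set.range f).ncard := Set.ncard_le_ncard hsub (Set.finite_range f)
    _ ≤ Nat.card (Ab × Qc) := by rw [← Nat.card_coe_set_eq]; exact Finite.card_range_le f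
    _ ≤ 480 * Nat.card Qc := by rw [Nat.card_prod]; exact Nat.mul_le_mul card_Ab.2 le_rfl

theorem card_Par : Finite Par ∧ Nat.card Par ≤ 1500000 := by
  haveI := card_Qc.1
  haveI := card_Ab.1
  let f : Ab × Qc → F := fun z => z.1.1 * z.2.1
  have hsub : (Par : Set F) ⊆ Set.range f := by
    have h : (Par : Set F) ⊆ ((Ab ⊔ Qc : Subgroup F) : Set F) := by
      refine (Subgroup.closure_le _).2 ?_
      rintro g (rfl | rfl | rfl)
      · exact Subgroup.mem_sup_left (Subgroup.subset_closure (by simp))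
      · exact Subgroup.mem_sup_left (Subgroup.subset_closure (by simp))
      · exact Subgroup.mem_sup_right (fgen_mem_Qc (by decide))
    intro g hg
    have h' := h hg
    rw [Subgroup.coe_mul_of_left_le_normalizer_right Ab Qc Ab_le_normalizer] at h'
    obtain ⟨u, hu, v, hv, rfl⟩ := h'
    exact ⟨(⟨u, hu⟩, ⟨v, hv⟩), rfl⟩
  have hfin : Finite Par := Set.Finite.to_subtype ((Set.finite_range f).subset hsub)
  refine ⟨hfin, ?_⟩
  exact card_Par_le.trans (le_trans (Nat.mul_le_mul le_rfl card_Qc.2) (by norm_num))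

theorem closure_fgen : Subgroup.closure {g | ∃ k < 9, fgen k = g} = (⊤ : Subgroup F) := by
  rw [eq_top_iff, ← PresentedGroup.closure_range_of relsF, Subgroup.closure_le]
  rintro _ ⟨i, rfl⟩
  exact Subgroup.subset_closure ⟨i.val, i.isLt, by simp [fgen]⟩

/-- The group on nine letters is finite and bounded by its parabolic subgroup. -/
theorem card_F_Par : Finite F ∧ Nat.card F ≤ 3906 * Nat.card Par := by
  haveI := card_Par.1
  have ha : fgen 0 ∈ Par := Subgroup.subset_closure (by simp)
  have hb : fgen 1 ∈ Par := Subgroup.subset_closure (by simp)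
  have hc : fgen 2 ∈ Par := Subgroup.subset_closure (by simp)
  have h5 : fgen 8 ∈ Par := by
    have h : [16, 11, 5, 10, 4] ∈ rels9 := by decide +kernel
    have e := fgen_rels _ h
    simp [wval] at e
    rw [eq_inv_of_mul_eq_one_left e]
    refine inv_mem ?_
    rw [c2_eq]
    exact mul_mem (mul_mem (inv_mem ha) (mul_mem (inv_mem hc) ha)) (mul_mem (inv_mem hc) (mul_mem (mul_mem (mul_mem (inv_mem ha) hc) ha) hc))
  have hS : TabP.cert.Sound imP Par :=
    ⟨fun l hl => imP_inv l hl,
    fun l hl => by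
      have hl' : l < 15 := hl
      interval_cases l <;> simp [CosetTable.Cert.inv, TabP.cert],
    relsP,
    fun r hr => by
      simp only [TabP.cert, List.mem_cons, List.not_mem_nil, or_false] at hr
      rcases hr with rfl | rfl | rfl | rfl | rfl | rfl <;>
        simp [CosetTable.wval, imP, c2_eq, c3_eq, ha, hb, hc, h5, mul_mem, inv_mem]⟩
  obtain ⟨h1, h2⟩ := CosetTable.card_le TabP.cert imP Par TabP.valid hS TabP.rowsOK_all (L := (⊤ : Subgroup F)) (by
    rw [← closure_fgen, Subgroup.closure_le]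
    rintro _ ⟨k, hk, rfl⟩
    have hm : ∀ l < 15, imP l ∈ Subgroup.closure (imP '' Set.Iio TabP.cert.ng) := fun l hl =>
      Subgroup.subset_closure ⟨l, hl, rfl⟩
    interval_cases k
    · exact hm 0 (by norm_num)
    · exact hm 2 (by norm_num)
    · exact hm 4 (by norm_num)
    · exact hm 6 (by norm_num)
    · exact hm 8 (by norm_num)
    · exact hm 9 (by norm_num)
    · exact hm 11 (by norm_num)
    · rw [c4_eq]; exact mul_mem (mul_mem (hm 2 (by norm_num)) (hm 4 (by norm_num))) (hm 3 (by norm_num))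
    · exact hm 13 (by norm_num))
  rw [Subgroup.card_top] at h2
  exact ⟨Finite.of_equiv _ Subgroup.topEquiv.toEquiv, h2.trans (le_of_eq rfl)⟩

/-- The group on nine letters has at most 5859000000 elements. -/
theorem card_F : Finite F ∧ Nat.card F ≤ 5859000000 :=
  ⟨card_F_Par.1, card_F_Par.2.trans (le_trans (Nat.mul_le_mul le_rfl card_Par.2) (by norm_num))⟩

end Cfsg.Lib.LyPres
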