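import Cfsg.Agent.LyPres.InvolCent
import Cfsg.Prelude.Def_Exceptional

/-!
The presented Lyons group as a permutation group on the cosets of the subgroup on a, b, c, d.
-/

set_option autoImplicit false
set_option maxRecDepth 100000
set_option Elab.async false

namespace Cfsg.Lib.LyPres

open Cfsg.Spor

attribute [local irreducible] one111 let111 rho111 mul1

/-- Transport of a non-split double cover along an isomorphism. -/
theorem nonsplit_congr {H H' K : Type*} [Group H] [Group H'] [Group K] (e : H ≃* H')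
    (h : Cfsg.IsNonsplitDoubleCover H K) : Cfsg.IsNonsplitDoubleCover H' K := by
  obtain ⟨h1, ⟨f⟩, h3⟩ := h
  have hmap : (Subgroup.center H).map e.toMonoidHom = Subgroup.center H' := by
    ext x
    constructor
    · rintro ⟨y, hy, rfl⟩
      refine Subgroup.mem_center_iff.2 fun z => ?_
      obtain ⟨w, rfl⟩ := e.surjective z
      show e w * e y = e y * e w
      rw [← map_mul, ← map_mul, Subgroup.mem_center_iff.1 hy w]
    · intro hx
      refine ⟨e.symm x, Subgroup.mem_center_iff.2 fun w => e.injective ?_, e.apply_symm_apply x⟩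
      rw [map_mul, map_mul, e.apply_symm_apply, Subgroup.mem_center_iff.1 hx (e w)]
  refine ⟨?_, ⟨(QuotientGroup.congr (Subgroup.center H) (Subgroup.center H') e hmap).symm.trans f⟩, fun L hL => ?_⟩
  · rw [← hmap, Subgroup.card_map_of_injective e.injective]
    exact h1
  · have hbij : Function.Bijective (fun p : Subgroup.center H × L.comap e.toMonoidHom => (p.1 : H) * p.2) := by
      constructor
      · rintro ⟨⟨a, ha⟩, ⟨b, hb⟩⟩ ⟨⟨c, hc⟩, ⟨d, hd⟩⟩ he
        have := congrArg e (show a * b = c * d from he)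
        rw [map_mul, map_mul] at this
        have hac := @hL.1 (⟨e a, hmap ▸ ⟨a, ha, rfl⟩⟩, ⟨e b, hb⟩) (⟨e c, hmap ▸ ⟨c, hc, rfl⟩⟩, ⟨e d, hd⟩) this
        have k1 : a = c := e.injective (congrArg Subtype.val (congrArg Prod.fst hac))
        have k2 : b = d := e.injective (congrArg Subtype.val (congrArg Prod.snd hac))
        subst k1 k2
        rfl
      · intro x
        obtain ⟨⟨⟨a, ha⟩, ⟨b, hb⟩⟩, hab⟩ := hL.2 (e x)
        rw [← hmap] at ha
        obtain ⟨a', ha', rfl⟩ := ha
        refine ⟨(⟨a', ha'⟩, ⟨e.symm b, by rw [Subgroup.mem_comap]; simpa using hb⟩), e.injective ?_⟩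
        show e (a' * e.symm b) = e x
        rw [map_mul, e.apply_symm_apply]
        exact hab
    exact h3 _ hbij

theorem isG2_KL : Cfsg.IsG2 KL := by
  haveI := simple_F
  haveI : IsSimpleGroup KL := (MonoidHom.ofInjective toLy_injective).symm.isSimpleGroup
  exact ⟨inferInstance, 5, Nat.prime_five.isPrimePow, by norm_num, by rw [card_KL]; norm_num⟩

theorem exists_perm : ∃ H : Subgroup (Equiv.Perm (Fin 8835156)), Cfsg.IsLy H ∧
    MulAction.IsPretransitive H (Fin 8835156) ∧ Cfsg.IsG2 (MulAction.stabilizer H (0 : Fin 8835156)) ∧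
    ∃ t : H, orderOf t = 2 ∧
      Cfsg.IsNonsplitDoubleCover (Subgroup.centralizer ({t} : Set H)) (alternatingGroup (Fin 11)) := by
  classical
  haveI := finite_Ly
  haveI := isLy_Ly.1
  have hcard : Nat.card (Spor.Ly ⧸ KL) = 8835156 := index_KL
  let e₀ : Spor.Ly ⧸ KL ≃ Fin 8835156 := (Finite.equivFin _).trans (finCongr hcard)
  let q₀ : Spor.Ly ⧸ KL := ((1 : Spor.Ly) : Spor.Ly ⧸ KL)
  let e : Spor.Ly ⧸ KL ≃ Fin 8835156 := e₀.trans (Equiv.swap (e₀ q₀) 0)
  have he : e q₀ = 0 := Equiv.swap_apply_left _ _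
  let f : Spor.Ly →* Equiv.Perm (Fin 8835156) := e.permCongrHom.toMonoidHom.comp (MulAction.toPermHom _ _)
  have hf : ∀ g x, f g x = e (g • e.symm x) := fun g x => rfl
  have hinj : Function.Injective f := by
    rw [← MonoidHom.ker_eq_bot_iff]
    refine f.normal_ker.eq_bot_or_eq_top.resolve_right fun h => ?_
    have hle : (⊤ : Subgroup Spor.Ly) ≤ KL := by
      intro g _
      have hg : f g = 1 := (h ▸ Subgroup.mem_top g : g ∈ f.ker)
      have h1 := DFunLike.congr_fun hg (0 : Fin 8835156)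
      rw [hf, ← he, e.symm_apply_apply, Equiv.Perm.one_apply] at h1
      have h2 : ((g * 1 : Spor.Ly) : Spor.Ly ⧸ KL) = q₀ := e.injective h1
      rw [QuotientGroup.eq, mul_one, mul_one] at h2
      exact (Subgroup.inv_mem_iff _).1 h2
    have h1 := card_KL
    rw [top_le_iff.1 hle, Subgroup.card_top, card_Ly] at h1
    norm_num at h1
  let ε : Spor.Ly ≃* f.range := MonoidHom.ofInjective hinj
  have hε : ∀ g, ((ε g : f.range) : Equiv.Perm (Fin 8835156)) = f g := fun g => rfl
  refine ⟨f.range, ⟨ε.symm.isSimpleGroup, (Nat.card_congr ε.toEquiv).symm.trans card_Ly⟩, ⟨fun x y => ?_⟩, ?_,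
    ε tL, ?_, ?_⟩
  · obtain ⟨g, hg⟩ := MulAction.exists_smul_eq Spor.Ly (e.symm x) (e.symm y)
    exact ⟨ε g, by show f g x = y; rw [hf, hg, e.apply_symm_apply]⟩
  · have hst : (MulAction.stabilizer f.range (0 : Fin 8835156)) = KL.map ε.toMonoidHom := by
      ext z
      obtain ⟨g, rfl⟩ := ε.surjective z
      rw [MulAction.mem_stabilizer_iff, Subgroup.mem_map_equiv, ε.symm_apply_apply]
      show f g 0 = 0 ↔ _
      rw [hf, ← he, e.symm_apply_apply, e.injective.eq_iff]
      show ((g * 1 : Spor.Ly) : Spor.Ly ⧸ KL) = ((1 : Spor.Ly) : Spor.Ly ⧸ KL) ↔ _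
      rw [QuotientGroup.eq, mul_one, mul_one, Subgroup.inv_mem_iff]
    rw [hst]
    let κ := Subgroup.equivMapOfInjective KL ε.toMonoidHom ε.injective
    haveI := isG2_KL.1
    refine ⟨κ.symm.isSimpleGroup, 5, Nat.prime_five.isPrimePow, by norm_num, ?_⟩
    rw [← Nat.card_congr κ.toEquiv, card_KL]
    norm_num
  · rw [MulEquiv.orderOf_eq, orderOf_tL]
  · have hC : Subgroup.centralizer ({ε tL} : Set f.range) = (Subgroup.centralizer {tL}).map ε.toMonoidHom := by
      ext z
      obtain ⟨g, rfl⟩ := ε.surjective z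
      rw [Subgroup.mem_map_equiv, ε.symm_apply_apply, Subgroup.mem_centralizer_singleton_iff,
        Subgroup.mem_centralizer_singleton_iff, ← map_mul, ← map_mul, ε.injective.eq_iff]
    rw [hC]
    exact nonsplit_congr (Subgroup.equivMapOfInjective _ ε.toMonoidHom ε.injective) (card_cent.2 ▸ nonsplit_Dt)

end Cfsg.Lib.LyPres
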