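import Cfsg.Agent.LyPres.Group
import Cfsg.Agent.LyPres.Big111
import Cfsg.Agent.LyPres.Rep0Data
import Cfsg.Agent.LyPres.Rep1Data
import Cfsg.Agent.LyPres.Rep2Data
import Cfsg.Agent.LyPres.Rep3Data

/-!
The thirty-nine matrices of degree 111 and products of them along words.
-/

set_option autoImplicit false
set_option Elab.async false

namespace Cfsg.Lib.LyPres

/-- The matrices of degree 111. -/
def gen111 : List (List ℕ) :=
  [m111_0, m111_1, m111_2, m111_3, m111_4, m111_5, m111_6, m111_7, m111_8, m111_9, m111_10, m111_11, m111_12, m111_13, m111_14, m111_15, m111_16, m111_17, m111_18, m111_19, m111_20, m111_21, m111_22, m111_23, m111_24, m111_25, m111_26, m111_27, m111_28, m111_29, m111_30, m111_31, m111_32, m111_33, m111_34, m111_35, m111_36, m111_37, m111_38]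

/-- Their inverses. -/
def gen111i : List (List ℕ) :=
  [m111i_0, m111i_1, m111i_2, m111i_3, m111i_4, m111i_5, m111i_6, m111i_7, m111i_8, m111i_9, m111i_10, m111i_11, m111i_12, m111i_13, m111i_14, m111i_15, m111i_16, m111i_17, m111i_18, m111i_19, m111i_20, m111i_21, m111i_22, m111i_23, m111i_24, m111i_25, m111i_26, m111i_27, m111i_28, m111i_29, m111i_30, m111i_31, m111i_32, m111i_33, m111i_34, m111i_35, m111i_36, m111i_37, m111i_38]

/-- The packed identity. -/
def one111 : ℕ := packRows (idMat 111)

/-- The checks of a generator. -/
def genOK111 (k : ℕ) : Bool :=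
  let A := gen111.getD k []
  let B := gen111i.getD k []
  let p := mul1 (packRows A) (packRows B)
  let q := mul1 (packRows B) (packRows A)
  packOK A && packOK B && p.2 && q.2 && p.1 == one111 && q.1 == one111

theorem gen111_ok0 : genOK111 0 = true := by decide +kernel

theorem gen111_ok1 : genOK111 1 = true := by decide +kernel

theorem gen111_ok2 : genOK111 2 = true := by decide +kernel

theorem gen111_ok3 : genOK111 3 = true := by decide +kernel

theorem gen111_ok4 : genOK111 4 = true := by decide +kernel

theorem gen111_ok5 : genOK111 5 = true := by decide +kernel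

theorem gen111_ok6 : genOK111 6 = true := by decide +kernel

theorem gen111_ok7 : genOK111 7 = true := by decide +kernel

theorem gen111_ok8 : genOK111 8 = true := by decide +kernel

theorem gen111_ok9 : genOK111 9 = true := by decide +kernel

theorem gen111_ok10 : genOK111 10 = true := by decide +kernel

theorem gen111_ok11 : genOK111 11 = true := by decide +kernel

theorem gen111_ok12 : genOK111 12 = true := by decide +kernel

theorem gen111_ok13 : genOK111 13 = true := by decide +kernel

theorem gen111_ok14 : genOK111 14 = true := by decide +kernel

theorem gen111_ok15 : genOK111 15 = true := by decide +kernel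

theorem gen111_ok16 : genOK111 16 = true := by decide +kernel

theorem gen111_ok17 : genOK111 17 = true := by decide +kernel

theorem gen111_ok18 : genOK111 18 = true := by decide +kernel

theorem gen111_ok19 : genOK111 19 = true := by decide +kernel

theorem gen111_ok20 : genOK111 20 = true := by decide +kernel

theorem gen111_ok21 : genOK111 21 = true := by decide +kernel

theorem gen111_ok22 : genOK111 22 = true := by decide +kernel

theorem gen111_ok23 : genOK111 23 = true := by decide +kernel

theorem gen111_ok24 : genOK111 24 = true := by decide +kernel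

theorem gen111_ok25 : genOK111 25 = true := by decide +kernel

theorem gen111_ok26 : genOK111 26 = true := by decide +kernel

theorem gen111_ok27 : genOK111 27 = true := by decide +kernel

theorem gen111_ok28 : genOK111 28 = true := by decide +kernel

theorem gen111_ok29 : genOK111 29 = true := by decide +kernel

theorem gen111_ok30 : genOK111 30 = true := by decide +kernel

theorem gen111_ok31 : genOK111 31 = true := by decide +kernel

theorem gen111_ok32 : genOK111 32 = true := by decide +kernel

theorem gen111_ok33 : genOK111 33 = true := by decide +kernel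

theorem gen111_ok34 : genOK111 34 = true := by decide +kernel

theorem gen111_ok35 : genOK111 35 = true := by decide +kernel

theorem gen111_ok36 : genOK111 36 = true := by decide +kernel

theorem gen111_ok37 : genOK111 37 = true := by decide +kernel

theorem gen111_ok38 : genOK111 38 = true := by decide +kernel

theorem gens111_ok : (List.range 39).all genOK111 = true := by
  rw [List.all_eq_true]
  intro k hk
  have hk' : k < 39 := List.mem_range.1 hk
  interval_cases k
  · exact gen111_ok0
  · exact gen111_ok1
  · exact gen111_ok2
  · exact gen111_ok3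
  · exact gen111_ok4
  · exact gen111_ok5
  · exact gen111_ok6
  · exact gen111_ok7
  · exact gen111_ok8
  · exact gen111_ok9
  · exact gen111_ok10
  · exact gen111_ok11
  · exact gen111_ok12
  · exact gen111_ok13
  · exact gen111_ok14
  · exact gen111_ok15
  · exact gen111_ok16
  · exact gen111_ok17
  · exact gen111_ok18
  · exact gen111_ok19
  · exact gen111_ok20
  · exact gen111_ok21
  · exact gen111_ok22
  · exact gen111_ok23
  · exact gen111_ok24
  · exact gen111_ok25
  · exact gen111_ok26
  · exact gen111_ok27
  · exact gen111_ok28
  · exact gen111_ok29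
  · exact gen111_ok30
  · exact gen111_ok31
  · exact gen111_ok32
  · exact gen111_ok33
  · exact gen111_ok34
  · exact gen111_ok35
  · exact gen111_ok36
  · exact gen111_ok37
  · exact gen111_ok38

theorem one111_ok : packOK (idMat 111) = true := by decide +kernel

/-- The thirty-nine units. -/
def u111 (k : ℕ) : (Matrix (Fin 111) (Fin 111) (ZMod 5))ˣ :=
  if hk : k < 39 then
    have h : ((((packOK (gen111.getD k []) = true ∧ packOK (gen111i.getD k []) = true) ∧
        (mul1 (packRows (gen111.getD k [])) (packRows (gen111i.getD k []))).2 = true) ∧
        (mul1 (packRows (gen111i.getD k [])) (packRows (gen111.getD k []))).2 = true) ∧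
        (mul1 (packRows (gen111.getD k [])) (packRows (gen111i.getD k []))).1 = one111) ∧
        (mul1 (packRows (gen111i.getD k [])) (packRows (gen111.getD k []))).1 = one111 := by
      have := List.all_eq_true.1 gens111_ok k (List.mem_range.2 hk)
      simpa only [genOK111, Bool.and_eq_true, beq_iff_eq] using this
    { val := toM (packRows (gen111.getD k []))
      inv := toM (packRows (gen111i.getD k []))
      val_inv := by
        rw [← (mul_raw (pack_small h.1.1.1.1.1).1 (pack_small h.1.1.1.1.2).1 h.1.1.1.2).2, h.1.2, one111,
          (pack_small one111_ok).2, toMat_idMat]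
      inv_val := by
        rw [← (mul_raw (pack_small h.1.1.1.1.2).1 (pack_small h.1.1.1.1.1).1 h.1.1.2).2, h.2, one111,
          (pack_small one111_ok).2, toMat_idMat] }
  else 1

/-- The packed matrix of a letter. -/
def let111 (l : ℕ) : ℕ :=
  bif l % 2 == 0 then packRows (gen111.getD (l / 2) []) else packRows (gen111i.getD (l / 2) [])

/-- The product along a word, with a flag. -/
def word111 : List ℕ → ℕ × Bool
  | [] => (one111, true)
  | l :: w =>
    let r := word111 w
    let m := mul1 (let111 l) r.1
    (m.1, r.2 && m.2 && Nat.blt l 78)

theorem ok1_one : Ok1 1 one111 :=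
  ⟨(pack_small one111_ok).1, by rw [one111, (pack_small one111_ok).2, toMat_idMat, Units.val_one]⟩

theorem ok1_let {l : ℕ} (hl : l < 78) : Ok1 (bif l % 2 == 0 then u111 (l / 2) else (u111 (l / 2))⁻¹) (let111 l) := by
  have hk : l / 2 < 39 := by omega
  have h := List.all_eq_true.1 gens111_ok _ (List.mem_range.2 hk)
  simp only [genOK111, Bool.and_eq_true, beq_iff_eq] at h
  unfold u111
  rw [dif_pos hk, let111]
  cases l % 2 == 0
  · exact ⟨(pack_small h.1.1.1.1.2).1, rfl⟩
  · exact ⟨(pack_small h.1.1.1.1.1).1, rfl⟩

attribute [local irreducible] mul1 packRows one111 let111 u111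

theorem word111_nil : word111 [] = (one111, true) := word111.eq_1

theorem word111_cons (l : ℕ) (w : List ℕ) : word111 (l :: w) = ((mul1 (let111 l) (word111 w).1).1,
    (word111 w).2 && (mul1 (let111 l) (word111 w).1).2 && Nat.blt l 78) := word111.eq_2 l w

theorem wval_cons {G : Type*} [Group G] (im : ℕ → G) (l : ℕ) (w : List ℕ) :
    wval im (l :: w) = (bif l % 2 == 0 then im (l / 2) else (im (l / 2))⁻¹) * wval im w := rfl

theorem ok1_word : ∀ w : List ℕ, (word111 w).2 = true → Ok1 (wval u111 w) (word111 w).1
  | [], _ => by rw [word111_nil]; exact ok1_one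
  | l :: w, h => by
    rw [word111_cons] at h ⊢
    rw [Bool.and_eq_true, Bool.and_eq_true, Nat.blt_eq] at h
    rw [wval_cons]
    exact (ok1_let h.2).mul (ok1_word w h.1.1) h.1.2

/-- A word is the identity. -/
def triv111 (w : List ℕ) : Bool :=
  let r := word111 w
  r.2 && r.1 == one111

theorem triv111_sound {w : List ℕ} (h : triv111 w = true) : wval u111 w = 1 := by
  simp only [triv111, Bool.and_eq_true, beq_iff_eq] at h
  have e := ok1_word w h.1
  rw [h.2] at e
  exact Units.ext (e.2.symm.trans ok1_one.2)

end Cfsg.Lib.LyPres
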