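import Cfsg.Agent.LyPres.RepHom

/-!
Closed lists of vectors of the representation give divisors of the order of the presented Lyons group.
-/

set_option autoImplicit false
set_option linter.unusedVariables false

namespace Cfsg.Lib.LyPres

open Cfsg.Spor

/-- A packed vector. -/
def vec (x : ℕ) : Fin 111 → ZMod 5 := fun j => (fld x j.val : ZMod 5)

/-- A packed vector times a packed matrix. -/
def vm (x : ℕ) (A : List ℕ) : ℕ := red 111 (comb x A)

theorem vec_vm {x : ℕ} {A : List ℕ} (hx : rowOK 111 x = true) (hA : matOK 111 A = true) :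
    vec (vm x A) = Matrix.vecMul (vec x) (toMat 111 A) := by
  simp only [matOK, Bool.and_eq_true, beq_iff_eq, List.all_eq_true] at hA
  obtain ⟨hl, hA⟩ := hA
  funext j
  have hc := (fld_comb A x j.val (by omega) (fun k => fld_lt k hx) (fun r hr k => fld_lt k (hA r hr))).2
  rw [vec, vm, fld_red, if_pos j.isLt, ZMod.natCast_mod, hc, Nat.cast_sum]
  show _ = ∑ i : Fin 111, vec x i * toMat 111 A i j
  refine Fintype.sum_equiv (finCongr hl) _ _ fun i => ?_
  rw [Nat.cast_mul, vec, toMat, Matrix.of_apply, List.getD_eq_getElem A _ (by simp)]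
  simp

theorem vec_inj {x y : ℕ} (hx : rowOK 111 x = true) (hy : rowOK 111 y = true) (h : vec x = vec y) : x = y := by
  have key : ∀ (k a b : ℕ), rowOK k a = true → rowOK k b = true → (∀ j < k, fld a j = fld b j) → a = b := by
    intro k
    induction k with
    | zero => intro a b ha hb _; simp [rowOK] at ha hb; omega
    | succ k ih =>
      intro a b ha hb e
      simp [rowOK] at ha hb
      have e0 := e 0 (Nat.succ_pos k)
      simp [fld] at e0
      have e1 := ih (a / 65536) (b / 65536) ha.2 hb.2 fun j hj => by simpa [fld] using e (j + 1) (by omega)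
      omega
  refine key 111 x y hx hy fun j hj => ?_
  have e := congrFun h ⟨j, hj⟩
  simp only [vec, ZMod.natCast_eq_natCast_iff'] at e
  have a1 := fld_lt j hx
  have a2 := fld_lt j hy
  omega

/-- The data of a closed orbit: the images with their parent and element, the images of each under the elements, and
the order of increasing codes. -/
structure VOrb where
  gens : List (List ℕ)
  pts : List (List (ℕ × ℕ × ℕ))
  succs : List (List (List ℕ))
  sorted : List ℕ

/-- An image by number. -/
def VOrb.at' (O : VOrb) (k : ℕ) : ℕ × ℕ × ℕ := (O.pts.getD (k / 64) []).getD (k % 64) (0, 0, 0)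

/-- The numbers of the images under the elements. -/
def VOrb.succAt (O : VOrb) (k : ℕ) : List ℕ := (O.succs.getD (k / 64) []).getD (k % 64) []

/-- The check of one image. -/
def VOrb.ptOK (O : VOrb) (n k : ℕ) : Bool :=
  let p := O.at' k
  rowOK 111 p.1 && (Nat.beq k 0 || (Nat.blt p.2.1 k && Nat.blt p.2.2 O.gens.length &&
      vm (O.at' p.2.1).1 (O.gens.getD p.2.2 []) == p.1)) &&
    (List.range O.gens.length).all fun g => Nat.blt ((O.succAt k).getD g n) n &&
      vm p.1 (O.gens.getD g []) == (O.at' ((O.succAt k).getD g n)).1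

/-- A range of images is checked. -/
def VOrb.okRange (O : VOrb) (n lo len : ℕ) : Bool := (List.range' lo len).all (O.ptOK n)

/-- Increasing numbers. -/
def incr : List ℕ → Bool
  | a :: b :: l => Nat.blt a b && incr (b :: l)
  | _ => true

/-- The images differ. -/
def VOrb.distinct (O : VOrb) (n : ℕ) : Bool :=
  Nat.beq O.sorted.length n && O.sorted.all (fun k => Nat.blt k n) && incr (O.sorted.map fun k => (O.at' k).1)

theorem incr_pairwise : ∀ l : List ℕ, incr l = true → l.Pairwise (· < ·)
  | [], _ => List.Pairwise.nil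
  | [a], _ => List.pairwise_singleton _ a
  | a :: b :: l, h => by
    simp only [incr, Bool.and_eq_true, Nat.blt_eq] at h
    have ih := incr_pairwise (b :: l) h.2
    refine List.pairwise_cons.2 ⟨fun c hc => ?_, ih⟩
    rcases List.mem_cons.1 hc with rfl | hc
    · exact h.1
    · exact h.1.trans ((List.pairwise_cons.1 ih).1 c hc)

theorem VOrb.inj (O : VOrb) {n : ℕ} (h : O.distinct n = true) :
    ∀ i < n, ∀ j < n, (O.at' i).1 = (O.at' j).1 → i = j := by
  simp only [VOrb.distinct, Bool.and_eq_true, List.all_eq_true, Nat.blt_eq] at h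
  obtain ⟨⟨hlen, hlt⟩, hinc⟩ := h
  have hnd : (O.sorted.map fun k => (O.at' k).1).Nodup := (incr_pairwise _ hinc).imp fun hab => Nat.ne_of_lt hab
  have hnd' : O.sorted.Nodup := List.Nodup.of_map _ hnd
  have hset : O.sorted.toFinset = Finset.range n := Finset.eq_of_subset_of_card_le
    (fun k hk => Finset.mem_range.2 (hlt k (List.mem_toFinset.1 hk)))
    (by rw [Finset.card_range, List.toFinset_card_of_nodup hnd', Nat.eq_of_beq_eq_true hlen])
  intro i hi j hj e
  have hi' : i ∈ O.sorted := List.mem_toFinset.1 (hset ▸ Finset.mem_range.2 hi)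
  have hj' : j ∈ O.sorted := List.mem_toFinset.1 (hset ▸ Finset.mem_range.2 hj)
  exact List.inj_on_of_nodup_map hnd hi' hj' e

theorem vorb_dvd (O : VOrb) {n : ℕ} [Finite Spor.Ly] (hn : 0 < n) (hok : O.okRange n 0 n = true)
    (hd : O.distinct n = true)
    (hg : ∀ g < O.gens.length, matOK 111 (O.gens.getD g []) = true ∧
      ∃ x : Spor.Ly, ((rho111 x : (Matrix (Fin 111) (Fin 111) (ZMod 5))ˣ) : Matrix _ _ _) =
        toMat 111 (O.gens.getD g [])) :
    n ∣ Nat.card Spor.Ly := by
  classical
  let gx : ℕ → Spor.Ly := fun g => if h : g < O.gens.length then (hg g h).2.choose else 1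
  have hgx : ∀ g < O.gens.length, ((rho111 (gx g) : (Matrix (Fin 111) (Fin 111) (ZMod 5))ˣ) : Matrix _ _ _) =
      toMat 111 (O.gens.getD g []) := fun g h => by
    simpa only [gx, dif_pos h] using (hg g h).2.choose_spec
  let S : Subgroup Spor.Ly := Subgroup.closure (gx '' Set.Iio O.gens.length)
  letI act : MulAction S (Fin 111 → ZMod 5) :=
    { smul := fun s v => Matrix.vecMul v ((rho111 (s : Spor.Ly))⁻¹ : (Matrix (Fin 111) (Fin 111) (ZMod 5))ˣ).val
      one_smul := fun v => by
        show Matrix.vecMul v _ = v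
        simp
      mul_smul := fun s t v => by
        show Matrix.vecMul v _ = Matrix.vecMul (Matrix.vecMul v _) _
        rw [Matrix.vecMul_vecMul, ← Units.val_mul, Subgroup.coe_mul, map_mul, mul_inv_rev] }
  have hsmul : ∀ (s : S) v, s • v =
      Matrix.vecMul v ((rho111 (s : Spor.Ly))⁻¹ : (Matrix (Fin 111) (Fin 111) (ZMod 5))ˣ).val := fun _ _ => rfl
  have hp : ∀ k < n, rowOK 111 (O.at' k).1 = true ∧ (k = 0 ∨ ((O.at' k).2.1 < k ∧ (O.at' k).2.2 < O.gens.length ∧
      vm (O.at' (O.at' k).2.1).1 (O.gens.getD (O.at' k).2.2 []) = (O.at' k).1)) ∧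
      ∀ g < O.gens.length, (O.succAt k).getD g n < n ∧
        vm (O.at' k).1 (O.gens.getD g []) = (O.at' ((O.succAt k).getD g n)).1 := by
    intro k hk
    have h := List.all_eq_true.1 hok k (List.mem_range'_1.2 ⟨Nat.zero_le k, by omega⟩)
    simp only [VOrb.ptOK, Bool.and_eq_true, Bool.or_eq_true, List.all_eq_true, List.mem_range, Nat.blt_eq,
      beq_iff_eq] at h
    refine ⟨h.1.1, h.1.2.imp Nat.eq_of_beq_eq_true fun q => ⟨q.1.1, q.1.2, q.2⟩, h.2⟩
  let v0 := vec (O.at' 0).1
  let P : Set (Fin 111 → ZMod 5) := (fun k => vec (O.at' k).1) '' Set.Iio n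
  have hstep : ∀ g < O.gens.length, ∀ v ∈ P, Matrix.vecMul v (rho111 (gx g)).val ∈ P := by
    rintro g hg' _ ⟨k, hk, rfl⟩
    obtain ⟨hr, -, hs⟩ := hp k hk
    obtain ⟨ht, he⟩ := hs g hg'
    exact ⟨_, ht, by rw [hgx g hg', ← vec_vm hr (hg g hg').1, he]⟩
  have hback : ∀ g < O.gens.length, ∀ v ∈ P, Matrix.vecMul v ((rho111 (gx g))⁻¹).val ∈ P := by
    intro g hg' v hv
    have hpow : ∀ m : ℕ, Matrix.vecMul v (rho111 (gx g ^ m)).val ∈ P := fun m => by
      induction m with
      | zero => simpa using hv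
      | succ m ih =>
        rw [pow_succ, map_mul, Units.val_mul, ← Matrix.vecMul_vecMul]
        exact hstep g hg' _ ih
    have ho := orderOf_pos (gx g)
    have := hpow (orderOf (gx g) - 1)
    rwa [show gx g ^ (orderOf (gx g) - 1) = (gx g)⁻¹ from eq_inv_of_mul_eq_one_left (by
      rw [← pow_succ, Nat.sub_add_cancel ho, pow_orderOf_eq_one]), map_inv] at this
  have hclosed : ∀ s ∈ S, ∀ v ∈ P, Matrix.vecMul v (rho111 s).val ∈ P ∧ Matrix.vecMul v ((rho111 s)⁻¹).val ∈ P := by
    intro s hs
    induction hs using Subgroup.closure_induction with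
    | mem x hx => obtain ⟨g, hg', rfl⟩ := hx; exact fun v hv => ⟨hstep g hg' v hv, hback g hg' v hv⟩
    | one => intro v hv; simpa using hv
    | mul x y _ _ hx hy =>
      intro v hv
      constructor
      · rw [map_mul, Units.val_mul, ← Matrix.vecMul_vecMul]
        exact (hy _ (hx v hv).1).1
      · rw [map_mul, mul_inv_rev, Units.val_mul, ← Matrix.vecMul_vecMul]
        exact (hx _ (hy v hv).2).2
    | inv x _ hx =>
      intro v hv
      rw [map_inv, inv_inv]
      exact (hx v hv).symm
  have horb : MulAction.orbit S v0 = P := by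
    apply Set.Subset.antisymm
    · rintro _ ⟨s, rfl⟩
      exact (hclosed s s.2 v0 ⟨0, hn, rfl⟩).2
    · rintro _ ⟨k, hk, rfl⟩
      suffices h : ∀ k, k < n → ∃ s ∈ S, vec (O.at' k).1 = Matrix.vecMul v0 (rho111 s).val by
        obtain ⟨s, hs, e⟩ := h k hk
        refine ⟨⟨s⁻¹, inv_mem hs⟩, ?_⟩
        simp only [hsmul, map_inv, inv_inv]
        exact e.symm
      intro k
      induction k using Nat.strong_induction_on with
      | _ k ih =>
        intro hk
        rcases (hp k hk).2.1 with rfl | ⟨hpar, hg', he⟩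
        · exact ⟨1, one_mem S, by simp [v0]⟩
        · obtain ⟨s, hs, e⟩ := ih _ hpar (hpar.trans hk)
          refine ⟨s * gx (O.at' k).2.2, mul_mem hs (Subgroup.subset_closure ⟨_, hg', rfl⟩), ?_⟩
          rw [map_mul, Units.val_mul, ← Matrix.vecMul_vecMul, ← e, hgx _ hg',
            ← vec_vm (hp _ (hpar.trans hk)).1 (hg _ hg').1, he]
  have hcard : Nat.card (MulAction.orbit S v0) = n := by
    rw [horb, Nat.card_coe_set_eq, Set.InjOn.ncard_image, ← Finset.coe_range, Set.ncard_coe_finset, Finset.card_range]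
    intro i hi j hj e
    exact O.inj hd i hi j hj (vec_inj (hp i hi).1 (hp j hj).1 e)
  have h1 : Nat.card (MulAction.orbit S v0) ∣ Nat.card S := by
    rw [Nat.card_congr (MulAction.orbitEquivQuotientStabilizer S v0)]
    exact Subgroup.card_quotient_dvd_card _
  rw [hcard] at h1
  exact h1.trans (Subgroup.card_subgroup_dvd_card S)

theorem vokRange_cat (O : VOrb) {m a b k c n : ℕ} (hk : a + b = k) (hn : b + c = n) (h1 : O.okRange m a b = true)
    (h2 : O.okRange m k c = true) : O.okRange m a n = true := by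
  subst hk hn
  rw [VOrb.okRange] at *
  rw [← List.range'_append_1, List.all_append, h1, h2]
  rfl

end Cfsg.Lib.LyPres
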