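import Cfsg.Agent.LyPres.Cosets

/-!
Following the steps of a covering in groups of blocks.
-/

set_option autoImplicit false

namespace Cfsg.Lib.LyPres

/-- A group of blocks leads from one set to the other. -/
def NodeCov.runOK (N : NodeCov) (L : List (List ℕ)) (a b : ℕ) : Bool :=
  match N.runAll L a with
  | some m => Nat.beq m b
  | none => false

/-- The blocks from a number on end at everything. -/
def NodeCov.RunFrom (N : NodeCov) (M k a : ℕ) : Prop := N.runAll (N.steps.drop k) a = some M

theorem runAll_append (N : NodeCov) : ∀ (L M : List (List ℕ)) (a : ℕ),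
    N.runAll (L ++ M) a = (N.runAll L a).bind (N.runAll M)
  | [], M, a => rfl
  | b :: L, M, a => by
    simp only [List.cons_append, NodeCov.runAll]
    cases N.run b a with
    | none => rfl
    | some m => exact runAll_append N L M m

theorem runOK_nil (N : NodeCov) {k M : ℕ} (a : ℕ)
    (h : (Nat.ble N.steps.length k && Nat.beq a M) = true) : N.RunFrom M k a := by
  simp only [Bool.and_eq_true, Nat.ble_eq] at h
  rw [NodeCov.RunFrom, List.drop_eq_nil_of_le h.1, NodeCov.runAll, Nat.eq_of_beq_eq_true h.2]

theorem runOK_step (N : NodeCov) (k g : ℕ) {M a b : ℕ} (h : N.runOK ((N.steps.drop k).take g) a b = true)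
    (h2 : N.RunFrom M (k + g) b) : N.RunFrom M k a := by
  rw [NodeCov.RunFrom] at h2 ⊢
  rw [← List.take_append_drop g (N.steps.drop k), runAll_append, List.drop_drop]
  simp only [NodeCov.runOK] at h
  split at h
  · rename_i m hm
    rw [hm, Nat.eq_of_beq_eq_true h]
    exact h2
  · exact Bool.noConfusion h

theorem covers_of_run (N : NodeCov) {M : ℕ} (h : N.RunFrom M 0 0) (hM : Nat.beq M (2 ^ 19530 - 1) = true) :
    N.covers = true := by
  rw [NodeCov.RunFrom, List.drop_zero] at h
  unfold NodeCov.covers
  rw [h]
  exact hM

end Cfsg.Lib.LyPres
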