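import Cfsg.Prelude.Def_Sporadic
import Cfsg.Agent.LyPres.Lower

/-!
The presented Lyons group is simple: a normal subgroup meeting the subgroup on a, b, c, d trivially has at most
five classes under it, and one containing it contains z.
-/

set_option autoImplicit false
set_option Elab.async false

namespace Cfsg.Lib.LyPres

open Cfsg.Spor

/-- The number of z letters. -/
def zCount : List Tok → ℕ
  | [] => 0
  | .h _ :: t => zCount t
  | .z :: t => zCount t + 1

theorem tval_mod {Q : Type*} [Group Q] (f : Spor.Ly →* Q) (hf : ∀ a : F, f (toLy a) = 1) :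
    ∀ t : List Tok, f (tval t) = f zL ^ zCount t
  | [] => by simp [tval, zCount]
  | .h w :: t => by simp [tval, zCount, hf, tval_mod f hf t]
  | .z :: t => by simp [tval, zCount, tval_mod f hf t, pow_succ']

theorem odd_relator : (zWords.any fun w => zCount (toks w) % 2 == 1) = true := by decide +kernel

theorem top_of_KL_le {N : Subgroup Spor.Ly} [N.Normal] (h : KL ≤ N) : N = ⊤ := by
  have hz : zL ∈ N := by
    obtain ⟨w, hw, ho⟩ := List.any_eq_true.1 odd_relator
    rw [beq_iff_eq] at ho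
    have hf : ∀ a : F, QuotientGroup.mk' N (toLy a) = 1 := fun a =>
      (QuotientGroup.eq_one_iff _).2 (h ⟨a, rfl⟩)
    have e1 : tval (toks w) = 1 := by
      have := certEqs_ok (toks w, []) (List.mem_cons_of_mem _ (List.mem_cons_of_mem _
        (List.mem_flatMap.2 ⟨w, hw, List.mem_cons_self⟩)))
      simpa [tval] using this
    have e2 : QuotientGroup.mk' N zL ^ zCount (toks w) = 1 := by rw [← tval_mod _ hf, e1, map_one]
    have e3 : QuotientGroup.mk' N zL ^ 2 = 1 := by
      rw [pow_two, ← map_mul, z_sq]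
      exact hf _
    rw [← Nat.div_add_mod (zCount (toks w)) 2, ho, pow_succ, pow_mul, e3, one_pow, one_mul] at e2
    exact (QuotientGroup.eq_one_iff _).1 e2
  rw [eq_top_iff, ← top_KL_z, Subgroup.closure_le]
  exact Set.union_subset h (Set.singleton_subset_iff.2 hz)

theorem inter_KL (N : Subgroup Spor.Ly) [hN : N.Normal] : N ⊓ KL = ⊥ ∨ KL ≤ N := by
  haveI := simple_F
  haveI : (N.comap toLy).Normal := hN.comap _
  rcases this.eq_bot_or_eq_top with h | h
  · left
    rw [eq_bot_iff]
    rintro _ ⟨hx, a, rfl⟩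
    have : a ∈ N.comap toLy := hx
    rw [h, Subgroup.mem_bot] at this
    rw [this, map_one]
    exact one_mem ⊥
  · right
    rintro _ ⟨a, rfl⟩
    exact (h ▸ Subgroup.mem_top a : a ∈ N.comap toLy)

/-- The coset of a node. -/
noncomputable def qN (n : ℕ) : Spor.Ly ⧸ KL := (((crt.v n)⁻¹ : Spor.Ly) : Spor.Ly ⧸ KL)

/-- The largest possible size of the orbit of a node. -/
def size5 (n : ℕ) : ℕ := 5859000000 / ord5 n

open Classical in
/-- The cosets in the orbit of a node. -/
noncomputable def orb5 [Fintype F] (n : ℕ) : Finset (Spor.Ly ⧸ KL) :=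
  Finset.univ.image fun a : F => toLy a • qN n

theorem card_orb5 [Fintype F] {n : ℕ} (hn : n ∈ live5) : (orb5 n).card ≤ size5 n := by
  classical
  let f : F ⧸ stabN n → Spor.Ly ⧸ KL := fun q =>
    Quotient.liftOn' q (fun a => toLy a • qN n) fun a b hab => by
      rw [QuotientGroup.leftRel_apply] at hab
      show ((toLy a * (crt.v n)⁻¹ : Spor.Ly) : Spor.Ly ⧸ KL) = ((toLy b * (crt.v n)⁻¹ : Spor.Ly) : Spor.Ly ⧸ KL)
      rw [QuotientGroup.eq]
      have : crt.v n * toLy (a⁻¹ * b) * (crt.v n)⁻¹ ∈ KL := hab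
      simpa [mul_assoc] using this
  have h1 : orb5 n ⊆ Finset.univ.image f := by
    intro q hq
    obtain ⟨a, -, rfl⟩ := Finset.mem_image.1 hq
    exact Finset.mem_image.2 ⟨((a : F) : F ⧸ stabN n), Finset.mem_univ _, rfl⟩
  refine (Finset.card_le_card h1).trans (Finset.card_image_le.trans ?_)
  rw [Finset.card_univ, ← Nat.card_eq_fintype_card]
  obtain ⟨h2, h3⟩ := stab_ord5 n hn
  have h4 := Subgroup.card_mul_index (stabN n)
  rw [card_F_eq] at h4
  show (stabN n).index ≤ _
  rw [size5, Nat.le_div_iff_mul_le h2, ← h4, mul_comm]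
  exact Nat.mul_le_mul_right _ h3

theorem cover5 [Fintype F] (q : Spor.Ly ⧸ KL) : ∃ n ∈ live5, q ∈ orb5 n := by
  classical
  refine Quotient.inductionOn' q fun g => ?_
  obtain ⟨n, hn, a, ha⟩ := inO_all (live := live5) (by decide) closed_five g⁻¹
  refine ⟨n, hn, Finset.mem_image.2 ⟨a⁻¹, Finset.mem_univ _, ?_⟩⟩
  show ((toLy a⁻¹ * (crt.v n)⁻¹ : Spor.Ly) : Spor.Ly ⧸ KL) = (g : Spor.Ly ⧸ KL)
  rw [QuotientGroup.eq, mul_inv_rev, inv_inv, ← map_inv, inv_inv]
  have h := ha.symm
  simpa [Eqv, mul_assoc] using h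

theorem size5_sets : (live5.sublists.all fun T => !(T.map size5).sum ∣ 8835156 || !T.contains 0 ||
    (T.map size5).sum == 1 || T == live5) = true ∧ (live5.map size5).sum = 8835156 := by
  decide +kernel

theorem card_dvd_index {N : Subgroup Spor.Ly} [N.Normal] [Finite Spor.Ly] (hd : N ⊓ KL = ⊥) :
    Nat.card N ∣ 8835156 := by
  have h1 : Nat.card N * Nat.card KL = Nat.card ↥(N ⊔ KL) := by
    have := (N.subgroupOf (N ⊔ KL)).card_mul_index
    rw [Nat.card_congr (Subgroup.subgroupOfEquivOfLe le_sup_left).toEquiv] at this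
    rw [← this]
    congr 1
    show _ = N.relIndex (N ⊔ KL)
    rw [sup_comm, Subgroup.relIndex_sup_right, ← Subgroup.inf_relIndex_right, hd, Subgroup.relIndex_bot_left]
  have h2 := Subgroup.card_subgroup_dvd_card (N ⊔ KL)
  rw [← h1, ← Subgroup.card_mul_index KL, index_KL, mul_comm (Nat.card N)] at h2
  exact Nat.dvd_of_mul_dvd_mul_left Nat.card_pos h2

theorem bot_of_inter {N : Subgroup Spor.Ly} [hN : N.Normal] (hd : N ⊓ KL = ⊥) : N = ⊥ := by
  classical
  haveI := finite_Ly
  haveI := card_F.1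
  haveI : Fintype F := Fintype.ofFinite _
  haveI : Fintype Spor.Ly := Fintype.ofFinite _
  haveI : Fintype (Spor.Ly ⧸ KL) := Fintype.ofFinite _
  haveI : Fintype N := Fintype.ofFinite _
  let π : N → Spor.Ly ⧸ KL := fun x => ((x : Spor.Ly) : Spor.Ly ⧸ KL)
  have hinj : Function.Injective π := by
    intro x y e
    have h : (x : Spor.Ly)⁻¹ * y ∈ N ⊓ KL :=
      Subgroup.mem_inf.2 ⟨N.mul_mem (N.inv_mem x.2) y.2, QuotientGroup.eq.1 e⟩
    rw [hd, Subgroup.mem_bot, inv_mul_eq_one] at h
    exact Subtype.ext h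
  let cj : F → N → N := fun c x => ⟨toLy c * x * (toLy c)⁻¹, hN.conj_mem _ x.2 _⟩
  have hcj : ∀ c x, π (cj c x) = toLy c • π x := by
    intro c x
    show ((toLy c * x * (toLy c)⁻¹ : Spor.Ly) : Spor.Ly ⧸ KL) = ((toLy c * x : Spor.Ly) : Spor.Ly ⧸ KL)
    rw [QuotientGroup.eq]
    simpa [mul_assoc] using (show toLy c ∈ KL from ⟨c, rfl⟩)
  let I : Finset (Spor.Ly ⧸ KL) := Finset.univ.image π
  have hI : ∀ q ∈ I, ∀ n, q ∈ orb5 n → qN n ∈ I := by
    intro q hq n hn
    obtain ⟨x, -, rfl⟩ := Finset.mem_image.1 hq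
    obtain ⟨a, -, ha⟩ := Finset.mem_image.1 hn
    refine Finset.mem_image.2 ⟨cj a⁻¹ x, Finset.mem_univ _, ?_⟩
    rw [hcj, ← ha, map_inv, inv_smul_smul]
  set T := live5.filter fun n => decide (qN n ∈ I) with hT
  have hle : ∀ l : List ℕ, (∀ n ∈ l, n ∈ live5) → l.Nodup →
      (l.toFinset.biUnion orb5).card ≤ (l.map size5).sum := by
    intro l hl hnd
    refine Finset.card_biUnion_le.trans ?_
    rw [← List.sum_toFinset _ hnd]
    exact Finset.sum_le_sum fun n hn => card_orb5 (hl n (List.mem_toFinset.1 hn))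
  have hIT : I ⊆ T.toFinset.biUnion orb5 := by
    intro q hq
    obtain ⟨n, hn, hq'⟩ := cover5 q
    exact Finset.mem_biUnion.2 ⟨n, List.mem_toFinset.2 (List.mem_filter.2 ⟨hn, decide_eq_true (hI q hq n hq')⟩), hq'⟩
  set T' := live5.filter fun n => !decide (qN n ∈ I) with hT'
  have hU : (Finset.univ : Finset (Spor.Ly ⧸ KL)) ⊆ I ∪ T'.toFinset.biUnion orb5 := by
    intro q _
    obtain ⟨n, hn, hq⟩ := cover5 q
    by_cases h : qN n ∈ I
    · obtain ⟨a, -, rfl⟩ := Finset.mem_image.1 hq
      obtain ⟨x, -, hx⟩ := Finset.mem_image.1 h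
      refine Finset.mem_union_left _ (Finset.mem_image.2 ⟨cj a x, Finset.mem_univ _, ?_⟩)
      rw [hcj, hx]
    · exact Finset.mem_union_right _ (Finset.mem_biUnion.2
        ⟨n, List.mem_toFinset.2 (List.mem_filter.2 ⟨hn, by simp [h]⟩), hq⟩)
  have hIc : I.card = Nat.card N := by
    rw [Finset.card_image_of_injective _ hinj, Finset.card_univ, Nat.card_eq_fintype_card]
  have hnd : live5.Nodup := by decide
  have e1 : I.card ≤ (T.map size5).sum :=
    (Finset.card_le_card hIT).trans (hle T (fun n h => (List.mem_filter.1 h).1) (hnd.filter _))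
  have e2 : 8835156 ≤ I.card + (T'.map size5).sum := by
    rw [← index_KL, Subgroup.index, Nat.card_eq_fintype_card, ← Finset.card_univ]
    exact ((Finset.card_le_card hU).trans (Finset.card_union_le _ _)).trans
      (Nat.add_le_add_left (hle T' (fun n h => (List.mem_filter.1 h).1) (hnd.filter _)) _)
  have e3 : (T.map size5).sum + (T'.map size5).sum = 8835156 := by
    rw [← List.sum_append, ← List.map_append, ← size5_sets.2]
    exact ((List.filter_append_perm _ live5).map size5).sum_eq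
  have e4 : (T.map size5).sum = Nat.card N := by omega
  have h0 : qN 0 ∈ I := by
    refine Finset.mem_image.2 ⟨1, Finset.mem_univ _, ?_⟩
    simp [π, qN, crt_v0]
  have hall := List.all_eq_true.1 size5_sets.1 T (List.mem_sublists.2 List.filter_sublist)
  have hd' : (T.map size5).sum ∣ 8835156 := e4 ▸ card_dvd_index hd
  have hc0 : T.contains 0 = true :=
    List.contains_iff_mem.2 (List.mem_filter.2 ⟨by decide, decide_eq_true h0⟩)
  simp only [hd', hc0, decide_true, Bool.not_true, Bool.false_or, Bool.or_eq_true, beq_iff_eq] at hall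
  rcases hall with hall | hall
  · exact Subgroup.eq_bot_of_card_eq N (e4 ▸ hall)
  exfalso
  have hm : Nat.card N = 8835156 := by rw [← e4, hall, size5_sets.2]
  let g : ℕ → ℕ := fun n => if h : qN n ∈ I then orderOf (Finset.mem_image.1 h).choose else 0
  have hord : ∀ x : N, orderOf x ∈ live5.toFinset.image g := by
    intro x
    obtain ⟨n, hn, hq⟩ := cover5 (π x)
    have h := hI _ (Finset.mem_image.2 ⟨x, Finset.mem_univ _, rfl⟩) n hq
    refine Finset.mem_image.2 ⟨n, List.mem_toFinset.2 hn, ?_⟩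
    simp only [g, dif_pos h]
    obtain ⟨a, -, ha⟩ := Finset.mem_image.1 hq
    have e : cj a (Finset.mem_image.1 h).choose = x := hinj (by
      rw [hcj, (Finset.mem_image.1 h).choose_spec.2, ha])
    conv_rhs => rw [← e, ← Subgroup.orderOf_coe]
    rw [← Subgroup.orderOf_coe]
    exact (MulAut.conj (toLy a)).orderOf_eq _ |>.symm
  have hp : ∀ p ∈ [1, 2, 3, 11, 37, 67], p ∈ live5.toFinset.image g := by
    intro p hp
    have key : ∀ p, p.Prime → p ∣ 8835156 → p ∈ live5.toFinset.image g := fun p h1 h2 => by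
      haveI := Fact.mk h1
      obtain ⟨x, hx⟩ := exists_prime_orderOf_dvd_card' (G := N) p (hm ▸ h2)
      exact hx ▸ hord x
    simp only [List.mem_cons, List.not_mem_nil, or_false] at hp
    rcases hp with rfl | rfl | rfl | rfl | rfl | rfl
    · exact orderOf_one (G := N) ▸ hord 1
    all_goals exact key _ (by norm_num) (by norm_num)
  have h6 : ([1, 2, 3, 11, 37, 67] : List ℕ).toFinset.card ≤ (live5.toFinset.image g).card :=
    Finset.card_le_card fun p h => hp p (List.mem_toFinset.1 h)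
  have h5 := (Finset.card_image_le (s := live5.toFinset) (f := g)).trans (List.toFinset_card_le live5)
  have : ([1, 2, 3, 11, 37, 67] : List ℕ).toFinset.card = 6 := by decide
  rw [show live5.length = 5 from rfl] at h5
  omega

theorem isLy_Ly : Cfsg.IsLy Spor.Ly := by
  haveI := finite_Ly
  haveI : Nontrivial Spor.Ly := Finite.one_lt_card_iff_nontrivial.1 (by rw [card_Ly]; norm_num)
  refine ⟨⟨fun N hN => ?_⟩, card_Ly⟩
  haveI := hN
  rcases inter_KL N with h | h
  · exact Or.inl (bot_of_inter h)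
  · exact Or.inr (top_of_KL_le h)

end Cfsg.Lib.LyPres
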