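import Cfsg.Agent.LyPres.RepOrbit

/-!
Products given by a program lie in the image of the representation.
-/

set_option autoImplicit false
set_option Elab.async false

namespace Cfsg.Lib.LyPres

open Cfsg.Spor

/-- The identity and the ten letters of a, b, c, d, z. -/
def slpStart : List ℕ :=
  [one111, let111 0, let111 1, let111 2, let111 3, let111 4, let111 5, let111 6, let111 7, let111 8, let111 9]

/-- The products of a program, with a flag. -/
def slpRun : List (ℕ × ℕ) → List ℕ → Bool → List ℕ × Bool
  | [], v, b => (v, b)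
  | (i, j) :: l, v, b =>
    let m := mul1 (v.getD i 0) (v.getD j 0)
    slpRun l (v ++ [m.1]) (b && m.2 && Nat.blt i v.length && Nat.blt j v.length)

/-- The results of a program are the given matrices. -/
def slpOK (prog : List (ℕ × ℕ)) (fin : List ℕ) (gens : List (List ℕ)) : Bool :=
  let r := slpRun prog slpStart true
  r.2 && Nat.beq fin.length gens.length && (List.range gens.length).all fun g =>
    let A := gens.getD g []
    matOK 111 A && packOK A && Nat.blt (fin.getD g 0) r.1.length && r.1.getD (fin.getD g 0) 0 == packRows A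

attribute [local irreducible] mul1 packRows one111 let111 u111 rho111

/-- A number is the packed image of an element. -/
def InImage (N : ℕ) : Prop := ∃ x : Spor.Ly, Ok1 (rho111 x) N

theorem inImage_let {l : ℕ} (hl : l < 78) : InImage (let111 l) := by
  have h := ok1_let hl
  refine ⟨bif l % 2 == 0 then g39 (l / 2) else (g39 (l / 2))⁻¹, ?_⟩
  cases hb : l % 2 == 0 <;> rw [hb] at h <;> simp only [cond_false, cond_true] at h ⊢
  · rw [map_inv, rho111_gen (by omega)]
    exact h
  · rw [rho111_gen (by omega)]
    exact h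

theorem slpStart_ok : ∀ N ∈ slpStart, InImage N := by
  intro N hN
  simp only [slpStart, List.mem_cons, List.not_mem_nil, or_false] at hN
  rcases hN with rfl | rfl | rfl | rfl | rfl | rfl | rfl | rfl | rfl | rfl | rfl
  · exact ⟨1, by rw [map_one]; exact ok1_one⟩
  all_goals exact inImage_let (by norm_num)

theorem slpRun_ok : ∀ (prog : List (ℕ × ℕ)) (v : List ℕ) (b : Bool), (∀ N ∈ v, InImage N) →
    (slpRun prog v b).2 = true → b = true ∧ ∀ N ∈ (slpRun prog v b).1, InImage N
  | [], v, b, hv, h => by
    rw [slpRun] at h ⊢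
    exact ⟨h, hv⟩
  | (i, j) :: l, v, b, hv, h => by
    rw [slpRun] at h ⊢
    have hstep := fun hv' => slpRun_ok l _ _ hv' h
    by_cases hok : (b && (mul1 (v.getD i 0) (v.getD j 0)).2 && Nat.blt i v.length && Nat.blt j v.length) = true
    · simp only [Bool.and_eq_true, Nat.blt_eq] at hok
      obtain ⟨⟨⟨hb, hm⟩, hi⟩, hj⟩ := hok
      have h1 : InImage (v.getD i 0) := by
        rw [List.getD_eq_getElem _ _ hi]; exact hv _ (List.getElem_mem hi)
      have h2 : InImage (v.getD j 0) := by
        rw [List.getD_eq_getElem _ _ hj]; exact hv _ (List.getElem_mem hj)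
      obtain ⟨x, hx⟩ := h1
      obtain ⟨y, hy⟩ := h2
      refine ⟨hb, (hstep fun N hN => ?_).2⟩
      rcases List.mem_append.1 hN with hN | hN
      · exact hv N hN
      · rw [List.mem_singleton] at hN
        exact ⟨x * y, by rw [map_mul, hN]; exact hx.mul hy hm⟩
    · exfalso
      have : ∀ (l : List (ℕ × ℕ)) (v : List ℕ), (slpRun l v false).2 = false := by
        intro l
        induction l with
        | nil => intro v; rw [slpRun]
        | cons a l ih => intro v; obtain ⟨i, j⟩ := a; rw [slpRun]; simpa using ih _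
      rw [Bool.not_eq_true] at hok
      rw [hok, this] at h
      exact Bool.noConfusion h

theorem slp_sound {prog : List (ℕ × ℕ)} {fin : List ℕ} {gens : List (List ℕ)} (h : slpOK prog fin gens = true) :
    ∀ g < gens.length, matOK 111 (gens.getD g []) = true ∧
      ∃ x : Spor.Ly, ((rho111 x : (Matrix (Fin 111) (Fin 111) (ZMod 5))ˣ) : Matrix _ _ _) =
        toMat 111 (gens.getD g []) := by
  simp only [slpOK, Bool.and_eq_true, List.all_eq_true, List.mem_range, Nat.blt_eq, beq_iff_eq] at h
  intro g hg
  obtain ⟨⟨⟨hok, hp⟩, hlt⟩, he⟩ := h.2 g hg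
  refine ⟨hok, ?_⟩
  obtain ⟨-, hall⟩ := slpRun_ok prog slpStart true slpStart_ok h.1.1
  obtain ⟨x, hx⟩ := hall _ (List.getElem_mem hlt)
  rw [← List.getD_eq_getElem _ 0 hlt, he] at hx
  exact ⟨x, hx.2.symm.trans (pack_small hp).2⟩

end Cfsg.Lib.LyPres
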