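import Cfsg.Agent.LyPres.Slp

/-!
Elements of the presented Lyons group along a program, next to their matrices.
-/

set_option autoImplicit false
set_option maxRecDepth 100000

namespace Cfsg.Lib.LyPres

open Cfsg.Spor

attribute [local irreducible] one111 let111 rho111 mul1

/-- The elements at the start. -/
def slpStartG : List Spor.Ly :=
  1 :: (List.range 10).map fun l => bif l % 2 == 0 then g39 (l / 2) else (g39 (l / 2))⁻¹

/-- The elements along a program. -/
def slpRunG : List (ℕ × ℕ) → List Spor.Ly → List Spor.Ly
  | [], v => v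
  | (i, j) :: l, v => slpRunG l (v ++ [v.getD i 1 * v.getD j 1])

/-- Packed numbers stand for elements. -/
def Paired (v : List ℕ) (x : List Spor.Ly) : Prop :=
  v.length = x.length ∧ ∀ i < v.length, Ok1 (rho111 (x.getD i 1)) (v.getD i 0)

theorem slp_start_paired : Paired slpStart slpStartG := by
  refine ⟨by simp only [slpStart, slpStartG, List.length_cons, List.length_nil, List.length_map, List.length_range], fun i hi => ?_⟩
  simp only [slpStart, List.length_cons, List.length_nil] at hi
  have key : ∀ l < 10, Ok1 (rho111 (bif l % 2 == 0 then g39 (l / 2) else (g39 (l / 2))⁻¹)) (let111 l) := by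
    intro l hl
    have h := ok1_let (show l < 78 by omega)
    cases hb : l % 2 == 0 <;> rw [hb] at h <;> simp only [cond_false, cond_true] at h ⊢
    · rw [map_inv, rho111_gen (by omega)]
      exact h
    · rw [rho111_gen (by omega)]
      exact h
  interval_cases i
  · show Ok1 (rho111 1) one111
    rw [map_one]
    exact ok1_one
  all_goals
    first
      | exact key 0 (by norm_num) | exact key 1 (by norm_num) | exact key 2 (by norm_num)
      | exact key 3 (by norm_num) | exact key 4 (by norm_num) | exact key 5 (by norm_num)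
      | exact key 6 (by norm_num) | exact key 7 (by norm_num) | exact key 8 (by norm_num)
      | exact key 9 (by norm_num)

theorem slpRun_false : ∀ (l : List (ℕ × ℕ)) (v : List ℕ), (slpRun l v false).2 = false := by
  intro l
  induction l with
  | nil => intro v; rw [slpRun]
  | cons a l ih => intro v; obtain ⟨i, j⟩ := a; rw [slpRun]; simpa using ih _

theorem slp_paired : ∀ (prog : List (ℕ × ℕ)) (v : List ℕ) (x : List Spor.Ly) (b : Bool), Paired v x →
    (slpRun prog v b).2 = true → Paired (slpRun prog v b).1 (slpRunG prog x)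
  | [], v, x, b, hv, _ => by rw [slpRun, slpRunG]; exact hv
  | (i, j) :: l, v, x, b, hv, h => by
    rw [slpRun] at h ⊢
    rw [slpRunG]
    refine slp_paired l _ _ _ ⟨by simp [hv.1], fun k hk => ?_⟩ h
    by_cases hok : (b && (mul1 (v.getD i 0) (v.getD j 0)).2 && Nat.blt i v.length && Nat.blt j v.length) = true
    · simp only [Bool.and_eq_true, Nat.blt_eq] at hok
      obtain ⟨⟨⟨-, hm⟩, hi⟩, hj⟩ := hok
      rw [List.length_append, List.length_cons, List.length_nil] at hk
      rcases Nat.lt_or_ge k v.length with hk' | hk'
      · rw [List.getD_append _ _ _ _ (hv.1 ▸ hk'), List.getD_append _ _ _ _ hk']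
        exact hv.2 k hk'
      · rw [List.getD_append_right _ _ _ _ (hv.1 ▸ hk'), List.getD_append_right _ _ _ _ hk', ← hv.1,
          show k - v.length = 0 by omega, List.getD_cons_zero, List.getD_cons_zero, map_mul]
        exact (hv.2 i hi).mul (hv.2 j hj) hm
    · rw [Bool.not_eq_true] at hok
      rw [hok, slpRun_false] at h
      exact Bool.noConfusion h

/-- The packed product of entries with a flag. -/
def wN (v : List ℕ) : List ℕ → ℕ × Bool
  | [] => (one111, true)
  | i :: w => let r := wN v w
    let p := mul1 (v.getD i 0) r.1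
    (p.1, p.2 && r.2 && Nat.blt i v.length)

/-- The product of entries. -/
def wG (x : List Spor.Ly) (w : List ℕ) : Spor.Ly := (w.map fun i => x.getD i 1).prod

theorem wG_append (x : List Spor.Ly) (u w : List ℕ) : wG x (u ++ w) = wG x u * wG x w := by simp [wG]

theorem wN_ok {v : List ℕ} {x : List Spor.Ly} (hv : Paired v x) :
    ∀ w : List ℕ, (wN v w).2 = true → Ok1 (rho111 (wG x w)) (wN v w).1
  | [], _ => by
    show Ok1 (rho111 1) one111
    rw [map_one]
    exact ok1_one
  | i :: w, h => by
    simp only [wN, Bool.and_eq_true, Nat.blt_eq] at h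
    obtain ⟨⟨hm, hr⟩, hi⟩ := h
    rw [show wG x (i :: w) = x.getD i 1 * wG x w by simp [wG], map_mul]
    exact (hv.2 i hi).mul (wN_ok hv w hr) hm

/-- Two products agree. -/
def sameW111 (v : List ℕ) (u w : List ℕ) : Bool := (wN v u).2 && (wN v w).2 && (wN v u).1 == (wN v w).1

theorem sameW111_sound {v : List ℕ} {x : List Spor.Ly} (hv : Paired v x)
    (hinj : Function.Injective rho111) {u w : List ℕ} (h : sameW111 v u w = true) : wG x u = wG x w := by
  simp only [sameW111, Bool.and_eq_true, beq_iff_eq] at h
  obtain ⟨⟨hu, hw⟩, e⟩ := h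
  have h1 := wN_ok hv u hu
  have h2 := wN_ok hv w hw
  rw [e] at h1
  exact hinj (Units.ext (h1.2.symm.trans h2.2))

end Cfsg.Lib.LyPres
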