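import Cfsg.Agent.LyPres.Words

/-!
The group presented by the relators among a, b, c, d and the letters defined from them, and its map into the
presented Lyons group.
-/

set_option autoImplicit false

namespace Cfsg.Lib.LyPres

open Cfsg.Spor

/-- The nine generators among the thirty-nine. -/
def nine : List ℕ := [0, 1, 2, 3, 5, 11, 12, 13, 14]

/-- The numbers of the relators used, from zero. -/
def relIdx : List ℕ := [0, 1, 2, 3, 4, 6, 7, 8, 9, 10, 11, 12, 13, 14, 15, 16, 17, 18, 19, 20, 21, 22, 23, 24, 25, 26, 27, 28, 29, 30, 31, 32, 33, 34, 35, 36, 37, 38, 39, 40, 41, 42, 43]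

/-- A letter of the thirty-nine as a letter of the nine; c1 is read as c. -/
def down (l : ℕ) : ℕ :=
  2 * nine.idxOf (bif l / 2 == 10 then 2 else l / 2) + l % 2

/-- The relators on nine letters. -/
def rels9 : List (List ℕ) :=
  [[0, 0, 0, 0, 0, 0, 0, 0],
    [2, 2, 2, 2, 2],
    [0, 2, 0, 2, 0, 2, 0, 2],
    [1, 1, 3, 0, 0, 2],
    [1, 3, 0, 2, 1, 3, 0, 2, 1, 3, 0, 2],
    [10, 1, 5, 0],
    [12, 3, 5, 2],
    [14, 2, 5, 3],
    [16, 11, 5, 10, 4],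
    [4, 4, 4, 4, 4],
    [16, 16, 16, 16, 16],
    [5, 17, 4, 16],
    [11, 17, 10, 16],
    [13, 17, 12, 16],
    [15, 17, 14, 16],
    [5, 13, 4, 12, 16, 16],
    [5, 15, 4, 14, 17, 17],
    [11, 13, 10, 12, 16],
    [11, 15, 10, 14],
    [13, 15, 12, 14, 16],
    [1, 10, 0, 4, 4],
    [1, 12, 0, 15, 5, 12, 12],
    [1, 14, 0, 15, 5, 15, 12, 10, 5],
    [1, 16, 0, 17, 17],
    [3, 10, 2, 14, 4, 14, 13, 11],
    [3, 12, 2, 12, 12, 15, 5, 5],
    [3, 16, 2, 17],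
    [8, 7, 5, 7, 2, 1, 3, 5, 7, 1, 5, 0, 5, 1, 4, 0, 2, 2],
    [8, 8],
    [9, 4, 8, 4, 3, 13, 3],
    [9, 12, 8, 0, 14, 4, 11, 1, 3, 3],
    [9, 14, 8, 15, 12, 3, 3],
    [9, 16, 8, 14, 5, 12, 5],
    [8, 0, 0, 8, 14, 17, 5, 1, 2, 1, 3, 3, 1],
    [9, 2, 8, 14, 14, 12, 5],
    [8, 0, 2, 2, 0, 3, 0, 8, 14, 17, 5, 1, 1],
    [8, 10, 8, 11, 8, 10, 15, 0, 12, 0, 0, 0],
    [6, 9, 3, 10, 1, 9, 1, 9, 1, 16, 14, 4, 2, 0, 3, 3, 1],
    [6, 6, 1, 1, 1, 1],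
    [3, 7, 2, 6],
    [7, 0, 6, 1, 1, 1],
    [6, 16, 6, 16, 6, 16, 6, 16, 6, 16],
    [6, 16, 6, 17, 6, 16, 1, 1]]

theorem rels9_eq : rels9 = relIdx.map fun k => (relWords.getD k []).map down := by decide +kernel

theorem relIdx_lt : (relIdx.all fun k => Nat.blt k relWords.length) = true := by decide +kernel

theorem up_down : (relIdx.all fun k => (relWords.getD k []).all fun l =>
    Nat.beq (down l % 2) (l % 2) && Nat.beq (nine.getD (down l / 2) 0) (bif l / 2 == 10 then 2 else l / 2)) = true := by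
  decide +kernel

end Cfsg.Lib.LyPres
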