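import Cfsg.Agent.LyPres.ThreePart
import Cfsg.Agent.LyPres.Mult

/-!
The multiplier of the presented Lyons group is trivial.
-/

set_option autoImplicit false
set_option Elab.async false

namespace Cfsg.Lib.LyPres

attribute [local irreducible] certP3 rho111 mul1 one111 let111 packRows

theorem multiplier_Ly : Cfsg.HasCyclicSchurMultiplier Cfsg.Spor.Ly 1 := by
  refine multiplier_of_three fun Γ _ _ σ hσ _ => ?_
  haveI := finite_Ly
  obtain ⟨X, hX⟩ := paired_vP3
  refine certP3.exists_sylow (σ := σ) ?_
  refine three_not_dvd certP3 vP3 pcP3 fwP3 vecP3 X rho111_injective hX pP3 certP3_ok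
    (fun j hj => ?_) (fun f hf => ?_) (fun k hk => ?_) ?_ hσ
  · exact List.all_eq_true.mp rulesP3 j (List.mem_range.mpr (by rwa [nP3] at hj))
  · exact List.all_eq_true.mp fuseP3 f (List.mem_range.mpr (by rwa [lenP3] at hf))
  · exact List.all_eq_true.mp moveP3 k (List.mem_range.mpr (by rwa [nP3] at hk))
  · rw [nP3]
    exact fact_Ly Nat.prime_three (by norm_num) (by norm_num)

end Cfsg.Lib.LyPres
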