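import Cfsg.Agent.LyPres.SlpGroup
import Cfsg.Agent.Schur.PrimeCert

/-!
Checks that elements of the presented Lyons group carry a certificate at a prime.
-/

set_option autoImplicit false
set_option Elab.async false

namespace Cfsg.Lib.LyPres

open Cfsg.Spor
open Cfsg.Lib.Schur.Prime (Cert val)

attribute [local irreducible] one111 let111 rho111 mul1 packRows rowPart

/-- The places in the program of a word in the generators. -/
def pcPlaces (pc : List ℕ) (l : List ℕ) : List ℕ := l.map fun k => pc.getD k 0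

/-- The rules with a given first index. -/
def pcRules (c : Cert) (v pc : List ℕ) (j : ℕ) : Bool :=
  (List.range (j + 1)).all fun i => sameW111 v (pcPlaces pc (c.lhs j i)) (pcPlaces pc (c.tail j i))

/-- One conjugation of the certificate. -/
def pcFuse (c : Cert) (v pc fw : List ℕ) (f : ℕ) : Bool :=
  let t := c.fuse.getD f ([], [], [])
  (List.range t.1.length).all fun k =>
    sameW111 v (fw.getD f 0 :: pcPlaces pc (t.1.getD k [])) (pcPlaces pc (t.2.1.getD k []) ++ [fw.getD f 0])

/-- The rows of a packed matrix. -/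
def rowsOf (N : ℕ) : List ℕ := (List.range 111).map (rowPart N)

/-- Vectors permuted by the later generators, the first moved out of them by one generator and by its square. -/
def pcMove (c : Cert) (v pc : List ℕ) (O : List ℕ) (k : ℕ) : Bool :=
  let A := fun j => rowsOf (v.getD (pc.getD j 0) 0)
  let u := vm (O.getD 0 0) (A k)
  Nat.blt 0 O.length && O.all (rowOK 111) &&
    (List.range' k (c.n - k)).all (fun j => Nat.blt (pc.getD j 0) v.length && matOK 111 (A j) && packOK (A j) &&
      Nat.beq (packRows (A j)) (v.getD (pc.getD j 0) 0) &&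
      (Nat.beq j k || O.all fun o => O.contains (vm o (A j)))) &&
    rowOK 111 u && !O.contains u && rowOK 111 (vm u (A k)) && !O.contains (vm u (A k))

theorem val_pcPlaces (x : List Spor.Ly) (pc : List ℕ) : ∀ l : List ℕ,
    val (fun k => x.getD (pc.getD k 0) 1) l = wG x (pcPlaces pc l)
  | [] => rfl
  | k :: l => by
    rw [Cfsg.Lib.Schur.Prime.val_cons, val_pcPlaces x pc l]
    simp [pcPlaces, wG]

/-- The vectors of a list. -/
def vecSet (O : List ℕ) : Set (Fin 111 → ZMod 5) := vec '' {o | o ∈ O}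

/-- The elements permuting a set of vectors. -/
def fixSet (O : List ℕ) : Subgroup Spor.Ly where
  carrier := {g | (fun v => Matrix.vecMul v (rho111 g).val) '' vecSet O = vecSet O}
  one_mem' := by simp
  mul_mem' := fun {a b} ha hb => by
    show (fun v => Matrix.vecMul v (rho111 (a * b)).val) '' vecSet O = vecSet O
    simp only [Set.mem_setOf_eq] at ha hb
    conv_rhs => rw [← hb, ← ha, Set.image_image]
    simp only [map_mul, Units.val_mul, Matrix.vecMul_vecMul]
  inv_mem' := fun {a} ha => by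
    show (fun v => Matrix.vecMul v (rho111 a⁻¹).val) '' vecSet O = vecSet O
    simp only [Set.mem_setOf_eq] at ha
    conv_lhs => rw [← ha, Set.image_image]
    simp only [Matrix.vecMul_vecMul, ← Units.val_mul, map_inv, mul_inv_cancel, Units.val_one, Matrix.vecMul_one,
      Set.image_id']

theorem mem_fixSet {O : List ℕ} {g : Spor.Ly}
    (h : ∀ v ∈ vecSet O, Matrix.vecMul v (rho111 g).val ∈ vecSet O) : g ∈ fixSet O := by
  refine Set.eq_of_subset_of_ncard_le ?_ ?_ (Set.Finite.image _ (List.finite_toSet O))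
  · rintro _ ⟨v, hv, rfl⟩
    exact h v hv
  · rw [Set.ncard_image_of_injective _ ?_]
    intro v w e
    have := congrArg (fun z => Matrix.vecMul z ((rho111 g)⁻¹).val) e
    simpa [Matrix.vecMul_vecMul, ← Units.val_mul] using this

theorem pcMove_sound {c : Cert} {v pc : List ℕ} {x : List Spor.Ly} (hv : Paired v x) {O : List ℕ} {k : ℕ}
    (hk : k < c.n) (h : pcMove c v pc O k = true) :
    (∀ j, k < j → j < c.n → x.getD (pc.getD j 0) 1 ∈ fixSet O) ∧
      x.getD (pc.getD k 0) 1 ∉ fixSet O ∧ x.getD (pc.getD k 0) 1 ^ 2 ∉ fixSet O := by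
  simp only [pcMove, Bool.and_eq_true, List.all_eq_true, List.mem_range'_1, Nat.blt_eq, Bool.or_eq_true,
    Bool.not_eq_true', List.contains_iff_mem] at h
  obtain ⟨⟨⟨⟨⟨⟨hlen, hrow⟩, hall⟩, h1r⟩, h1⟩, h2r⟩, h2⟩ := h
  have key : ∀ j, k ≤ j → j < c.n → matOK 111 (rowsOf (v.getD (pc.getD j 0) 0)) = true ∧
      (rho111 (x.getD (pc.getD j 0) 1)).val = toMat 111 (rowsOf (v.getD (pc.getD j 0) 0)) := by
    intro j hkj hjn
    obtain ⟨⟨⟨⟨hlt, hm⟩, hp⟩, he⟩, -⟩ := hall j ⟨hkj, by omega⟩
    have hok := hv.2 _ hlt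
    rw [← Nat.eq_of_beq_eq_true he] at hok
    exact ⟨hm, hok.2.symm.trans (pack_small hp).2⟩
  have h0 : O.getD 0 0 ∈ O := by
    rw [List.getD_eq_getElem _ _ hlen]; exact List.getElem_mem hlen
  have hin : vec (O.getD 0 0) ∈ vecSet O := ⟨_, h0, rfl⟩
  obtain ⟨hm, he⟩ := key k le_rfl hk
  refine ⟨fun j hkj hjn => mem_fixSet ?_, fun hf => ?_, fun hf => ?_⟩
  · rintro _ ⟨o, ho, rfl⟩
    obtain ⟨hmj, hej⟩ := key j hkj.le hjn
    obtain ⟨-, hor⟩ := hall j ⟨hkj.le, by omega⟩
    rcases hor with e | e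
    · exact absurd (Nat.eq_of_beq_eq_true e) (by omega)
    · exact ⟨_, e o ho, by rw [hej, ← vec_vm (hrow o ho) hmj]⟩
  · obtain ⟨o, ho, e⟩ := (Set.ext_iff.mp (show _ = vecSet O from hf) _).mp ⟨_, hin, rfl⟩
    simp only at e
    rw [he, ← vec_vm (hrow _ h0) hm] at e
    have := vec_inj (hrow o ho) h1r e
    rw [this] at ho
    rw [List.contains_iff_mem.2 ho] at h1
    exact Bool.noConfusion h1
  · obtain ⟨o, ho, e⟩ := (Set.ext_iff.mp (show _ = vecSet O from hf) _).mp ⟨_, hin, rfl⟩
    simp only at e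
    rw [pow_two, map_mul, Units.val_mul, he, ← Matrix.vecMul_vecMul, ← vec_vm (hrow _ h0) hm,
      ← vec_vm h1r hm] at e
    have := vec_inj (hrow o ho) h2r e
    rw [this] at ho
    rw [List.contains_iff_mem.2 ho] at h2
    exact Bool.noConfusion h2

theorem pow_le_card_sub {c : Cert} (hp : c.p = 3) [Finite Spor.Ly] (y : ℕ → Spor.Ly) (w : ℕ → List ℕ)
    (hw : ∀ k < c.n, (∀ j, k < j → j < c.n → y j ∈ fixSet (w k)) ∧ y k ∉ fixSet (w k) ∧ y k ^ 2 ∉ fixSet (w k)) :
    ∀ d k, k + d = c.n → c.p ^ d ≤ Nat.card (Cfsg.Lib.Schur.Prime.sub c y k) := by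
  intro d
  induction d with
  | zero => intro k _; rw [pow_zero]; exact Nat.card_pos
  | succ d ih =>
    intro k hk
    have ih' := ih (k + 1) (by omega)
    obtain ⟨hfix, hne, hne2⟩ := hw k (by omega)
    set H := Cfsg.Lib.Schur.Prime.sub c y (k + 1) with hH
    have hHle : H ≤ fixSet (w k) := by
      rw [hH, Cfsg.Lib.Schur.Prime.sub, Subgroup.closure_le]
      rintro _ ⟨j, ⟨hj1, hj2⟩, rfl⟩
      exact hfix j hj1 hj2
    have hHk : H ≤ Cfsg.Lib.Schur.Prime.sub c y k :=
      Subgroup.closure_mono (Set.image_mono fun j hj => ⟨Nat.le_of_succ_le hj.1, hj.2⟩)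
    have hyk : y k ∈ Cfsg.Lib.Schur.Prime.sub c y k := Subgroup.subset_closure ⟨k, ⟨le_rfl, by omega⟩, rfl⟩
    let φ : Fin 3 × H → Cfsg.Lib.Schur.Prime.sub c y k := fun q =>
      ⟨y k ^ q.1.val * q.2, mul_mem (pow_mem hyk _) (hHk q.2.2)⟩
    have key : ∀ a b : Fin 3, ∀ g h : H, y k ^ a.val * g = y k ^ b.val * h → a.val < b.val → False := by
      intro a b g h e hab
      have he : y k ^ (b.val - a.val) = (g : Spor.Ly) * (h : Spor.Ly)⁻¹ := by
        rw [← Nat.add_sub_cancel' hab.le, pow_add, mul_assoc] at e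
        rw [eq_mul_inv_iff_mul_eq]
        exact (mul_left_cancel e).symm
      have hm : y k ^ (b.val - a.val) ∈ fixSet (w k) := he ▸ hHle (mul_mem g.2 (inv_mem h.2))
      rcases (show b.val - a.val = 1 ∨ b.val - a.val = 2 by omega) with e1 | e1
      · rw [e1, pow_one] at hm; exact hne hm
      · rw [e1] at hm; exact hne2 hm
    have hinj : Function.Injective φ := by
      rintro ⟨a, g⟩ ⟨b, h⟩ e
      have e' : y k ^ a.val * g = y k ^ b.val * h := congrArg Subtype.val e
      rcases lt_trichotomy a.val b.val with hl | hl | hl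
      · exact (key a b g h e' hl).elim
      · obtain rfl := Fin.ext hl
        rw [Subtype.ext (mul_left_cancel e')]
      · exact (key b a h g e'.symm hl).elim
    have hc := Nat.card_le_card_of_injective φ hinj
    rw [Nat.card_prod, Nat.card_fin] at hc
    calc c.p ^ (d + 1) = 3 * c.p ^ d := by rw [pow_succ', hp]
      _ ≤ 3 * Nat.card H := Nat.mul_le_mul_left _ ih'
      _ ≤ _ := hc

/-- A piece of a program sends listed matrices to listed matrices. -/
def stageOK (prog : List (ℕ × ℕ)) (ins outs : List (List ℕ)) (picks : List ℕ) : Bool :=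
  let r := slpRun prog (slpStart ++ ins.map packRows) true
  r.2 && Nat.beq picks.length outs.length && (List.range outs.length).all fun q =>
    Nat.blt (picks.getD q 0) r.1.length && r.1.getD (picks.getD q 0) 0 == packRows (outs.getD q [])

theorem stage_paired {prog : List (ℕ × ℕ)} {ins outs : List (List ℕ)} {picks : List ℕ}
    (h : stageOK prog ins outs picks = true) (hx : ∃ x, Paired (slpStart ++ ins.map packRows) x) :
    ∃ x, Paired (slpStart ++ outs.map packRows) x := by
  obtain ⟨x, hx⟩ := hx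
  simp only [stageOK, Bool.and_eq_true, List.all_eq_true, List.mem_range, Nat.blt_eq, beq_iff_eq] at h
  obtain ⟨⟨hr, -⟩, hall⟩ := h
  have hrun := slp_paired prog _ _ _ hx hr
  refine ⟨slpStartG ++ (List.range outs.length).map fun q => (slpRunG prog x).getD (picks.getD q 0) 1,
    by simp [slp_start_paired.1], fun i hi => ?_⟩
  rcases Nat.lt_or_ge i slpStart.length with hi' | hi'
  · rw [List.getD_append _ _ _ _ hi', List.getD_append _ _ _ _ (slp_start_paired.1 ▸ hi')]
    exact slp_start_paired.2 i hi'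
  · rw [List.length_append, List.length_map] at hi
    have hq : i - slpStart.length < outs.length := by omega
    obtain ⟨hlt, he⟩ := hall _ hq
    rw [List.getD_append_right _ _ _ _ hi', List.getD_append_right _ _ _ _ (slp_start_paired.1 ▸ hi'),
      ← slp_start_paired.1]
    have := hrun.2 _ hlt
    rw [he] at this
    rw [List.getD_eq_getElem _ _ (by simpa using hq), List.getD_eq_getElem _ _ (by simpa using hq),
      List.getElem_map, List.getElem_map, List.getElem_range]
    rwa [← List.getD_eq_getElem _ [] hq]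

theorem three_not_dvd (c : Cert) (v pc fw : List ℕ) (ws : List (List ℕ)) (X : List Spor.Ly) [Finite Spor.Ly]
    (hinj : Function.Injective rho111) (hpair : Paired v X) (hp : c.p = 3)
    (hc : c.ok = true) (hrules : ∀ j < c.n, pcRules c v pc j = true)
    (hfus : ∀ f < c.fuse.length, pcFuse c v pc fw f = true)
    (hmove : ∀ k < c.n, pcMove c v pc (ws.getD k []) k = true)
    (hfact : (Nat.card Spor.Ly).factorization 3 = c.n)
    {Γ : Type} [Group Γ] [Finite Γ] {σ : Γ →* Spor.Ly} (hσ : Cfsg.IsStemExtension σ) :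
    ¬ 3 ∣ Nat.card σ.ker := by
  set y : ℕ → Spor.Ly := fun k => X.getD (pc.getD k 0) 1 with hy
  have hpp : c.p.Prime := hp ▸ Nat.prime_three
  have hr : ∀ j < c.n, ∀ i ≤ j, val y (c.lhs j i) = val y (c.tail j i) := fun j hj i hi => by
    have h := List.all_eq_true.mp (hrules j hj) i (List.mem_range.mpr (by omega))
    rw [hy, val_pcPlaces, val_pcPlaces]
    exact sameW111_sound hpair hinj h
  have hf : ∀ f ∈ c.fuse, ∃ g, ∀ k < f.1.length,
      g * val y (f.1.getD k []) * g⁻¹ = val y (f.2.1.getD k []) := by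
    intro f hf
    obtain ⟨i, hi, rfl⟩ := List.mem_iff_getElem.mp hf
    refine ⟨X.getD (fw.getD i 0) 1, fun k hk => ?_⟩
    have h := hfus i hi
    simp only [pcFuse] at h
    rw [List.getD_eq_getElem _ _ hi] at h
    have e := sameW111_sound hpair hinj (List.all_eq_true.mp h k (List.mem_range.mpr hk))
    rw [wG_append, ← val_pcPlaces] at e
    rw [hy, mul_inv_eq_iff_eq_mul, val_pcPlaces]
    simpa [wG] using e
  have hshape : c.shapesOK = true := by
    simp only [Cfsg.Lib.Schur.Prime.Cert.ok, Bool.and_eq_true] at hc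
    exact hc.1.2
  have hset : ({i | 0 ≤ i ∧ i < c.n} : Set ℕ) = {i | i < c.n} := by ext; simp
  have hup := Cfsg.Lib.Schur.Prime.card_sub_le c hshape hpp.pos y hr c.n 0 (Nat.zero_add _)
  have hlow := pow_le_card_sub hp y (fun k => ws.getD k [])
    (fun k hk => pcMove_sound hpair hk (hmove k hk)) c.n 0 (Nat.zero_add _)
  have heq := le_antisymm hup hlow
  rw [Cfsg.Lib.Schur.Prime.sub, hset] at heq
  have hmain := Cfsg.Lib.Schur.Prime.Cert.not_dvd c hpp hc hσ y hr hf (by rw [heq, hp, hfact]) heq.symm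
  rwa [hp] at hmain

end Cfsg.Lib.LyPres
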