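import Cfsg.Agent.LyPres.ThreeCert
import Cfsg.Agent.LyPres.ThreeData
import Cfsg.Agent.LyPres.ThreeStage4Data

/-!
The checks of the certificate at the prime three.
-/

set_option autoImplicit false
set_option Elab.async false

namespace Cfsg.Lib.LyPres

/-- The values of the program. -/
def vP3 : List ℕ := slpStart ++ outP3s4.map packRows

theorem certP3_ok : certP3.ok = true := by decide +kernel

theorem rulesP3 : ((List.range 7).all fun j => pcRules certP3 vP3 pcP3 j) = true := by decide +kernel

theorem fuseP3 : ((List.range 2).all fun f => pcFuse certP3 vP3 pcP3 fwP3 f) = true := by decide +kernel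

theorem moveP3_0 : pcMove certP3 vP3 pcP3 (vecP3.getD 0 []) 0 = true := by decide +kernel

theorem moveP3_1 : pcMove certP3 vP3 pcP3 (vecP3.getD 1 []) 1 = true := by decide +kernel

theorem moveP3_2 : pcMove certP3 vP3 pcP3 (vecP3.getD 2 []) 2 = true := by decide +kernel

theorem moveP3_3 : pcMove certP3 vP3 pcP3 (vecP3.getD 3 []) 3 = true := by decide +kernel

theorem moveP3_4 : pcMove certP3 vP3 pcP3 (vecP3.getD 4 []) 4 = true := by decide +kernel

theorem moveP3_5 : pcMove certP3 vP3 pcP3 (vecP3.getD 5 []) 5 = true := by decide +kernel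

theorem moveP3_6 : pcMove certP3 vP3 pcP3 (vecP3.getD 6 []) 6 = true := by decide +kernel

theorem moveP3 : ((List.range 7).all fun k => pcMove certP3 vP3 pcP3 (vecP3.getD k []) k) = true := by
  refine List.all_eq_true.mpr fun k hk => ?_
  rw [List.mem_range] at hk
  interval_cases k
  exacts [moveP3_0, moveP3_1, moveP3_2, moveP3_3, moveP3_4, moveP3_5, moveP3_6]

theorem lenP3 : certP3.fuse.length = 2 := by decide +kernel

theorem nP3 : certP3.n = 7 := by decide +kernel

theorem pP3 : certP3.p = 3 := by decide +kernel

end Cfsg.Lib.LyPres
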