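import Cfsg.Agent.LyPres.Bound
import Cfsg.Agent.LyPres.FrameCheck
import Cfsg.Agent.LyPres.Cov1Check
import Cfsg.Agent.LyPres.Cov6Check
import Cfsg.Agent.LyPres.Cov9Check
import Cfsg.Agent.LyPres.Cov12Check
import Cfsg.Agent.LyPres.OrbK1

/-!
The index of the subgroup on a, b, c, d is at most 8835156.
-/

set_option autoImplicit false
set_option Elab.async false

namespace Cfsg.Lib.LyPres

open Cfsg.Spor

/-- The numbered cosets left by the certificate. -/
def live5 : List ℕ := [0, 1, 6, 9, 12]

theorem frame_start : orbFR.start = frameP ∧ orbFR.gens = gen7.take 4 := by decide +kernel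

theorem frame_reach : ∀ x < 19530, matOK 7 (frAt x) = true ∧
    ∃ s : F, img s (toMat 7 frameP) = toMat 7 (frAt x) := by
  haveI := card_F.1
  intro x hx
  obtain ⟨hok, s, -, hs⟩ := orbFR.reach ⊤ (fun g hg => ⟨fgen g, Subgroup.mem_top _, by
    rw [frame_start.2] at hg ⊢
    have h4 : g < 4 := lt_of_lt_of_le hg (List.length_take_le 4 gen7)
    have := gen7_el g h4
    rw [List.getD_eq_getElem _ _ hg, List.getElem_take, ← List.getD_eq_getElem gen7 []]
    exact this⟩) (by rw [frame_start.1]; decide) orbFR_all x hx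
  rw [frame_start.1] at hs
  exact ⟨hok, s, hs⟩

open Classical in
/-- An element with the frame of a coset. -/
noncomputable def frEl (x : ℕ) : F := if hx : x < 19530 then (frame_reach x hx).2.choose else 1

theorem frEl_ok : ∀ x < 19530, matOK 7 (frAt x) = true ∧
    img (frEl x) (toMat 7 frameP) = toMat 7 (frAt x) := fun x hx =>
  ⟨(frame_reach x hx).1, by rw [frEl, dif_pos hx]; exact (frame_reach x hx).2.choose_spec⟩

theorem frAt_zero : frAt 0 = frameP := by decide +kernel

theorem frEl_zero : frEl 0 ∈ Lsub := lsub_of_fix (by rw [(frEl_ok 0 (by norm_num)).2, frAt_zero])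

/-- The stabiliser of a numbered coset. -/
def stabN (n : ℕ) : Subgroup F where
  carrier := {s | Eqv (crt.v n * toLy s) (crt.v n)}
  one_mem' := by show Eqv _ _; rw [map_one, mul_one]; exact Eqv.refl _
  mul_mem' {a b} (ha : Eqv _ _) (hb : Eqv _ _) := by
    show Eqv _ _
    rw [map_mul, ← mul_assoc]
    exact (ha.mul_right _).trans hb
  inv_mem' {a} (ha : Eqv _ _) := by
    show Eqv _ _
    have := (ha.mul_right (toLy a⁻¹)).symm
    rwa [mul_assoc, ← map_mul, mul_inv_cancel, map_one, mul_one] at this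

theorem stab_gens {N : NodeCov} (hf : N.factsOK live5 = true) {g : ℕ} (hg : g < N.gens.length) :
    ∃ a ∈ stabN N.node, El ((N.gens.map fun k => (crt.fact k).d).getD g []) a := by
  simp only [NodeCov.factsOK, Bool.and_eq_true, List.all_eq_true, Nat.blt_eq, Bool.not_eq_true'] at hf
  obtain ⟨⟨⟨hk, hz⟩, hi⟩, hj⟩ := hf.1 _ (List.getElem_mem hg)
  obtain ⟨s, hs, hE⟩ := stab_fact hk hz (Nat.eq_of_beq_eq_true hi) (Nat.eq_of_beq_eq_true hj)
  exact ⟨s, hE, by rw [List.getD_eq_getElem _ _ (by rw [List.length_map]; exact hg), List.getElem_map]; exact hs⟩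

theorem stab_orbit {N : NodeCov} (O : Orb) (hf : N.factsOK live5 = true) (hg : O.gens = N.gens.map fun k => (crt.fact k).d)
    (h0 : matOK 7 O.start = true) {n : ℕ} (h : O.okRange 0 n = true) (hd : O.colsDistinct n 0 = true) :
    n ≤ Nat.card (stabN N.node) := by
  haveI := card_F.1
  have := O.card_ge (stabN N.node) ⊥ (fun g hlt => by
    rw [hg] at hlt ⊢
    exact stab_gens hf (by rwa [List.length_map] at hlt)) h0 h hd bot_le bot_le
  simpa using this

theorem k1_ok : (List.range 5).all (fun i => tmat (cov1.gens.map fun k => (crt.fact k).d) (k1Words.getD i []) ==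
      m7 (lgW.getD i []) && (k1Words.getD i []).all fun g => Nat.blt g cov1.gens.length) = true ∧
    orbK1.gens = cov1.gens.map (fun k => (crt.fact k).d) ∧ orbK1.start = frameP ∧
    ((List.range 96).map fun m => (orbK1.at' m).1).Nodup := by
  decide +kernel

theorem tmat_mem {T : List (List ℕ)} {S : Subgroup F} {c : ℕ} (hT : ∀ i < c, ∃ a ∈ S, El (T.getD i []) a) :
    ∀ w : List ℕ, (∀ i ∈ w, i < c) → ∃ a ∈ S, El (tmat T w) a
  | [], _ => ⟨1, one_mem S, El.one⟩
  | i :: w, h => by
    obtain ⟨a, ha, hA⟩ := tmat_mem hT w fun j hj => h j (List.mem_cons_of_mem i hj)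
    obtain ⟨b, hb, hB⟩ := hT i (h i List.mem_cons_self)
    exact ⟨b * a, mul_mem hb ha, hB.mul hA⟩

theorem stab_one : 300000 ≤ Nat.card (stabN 1) := by
  classical
  haveI := card_F.1
  obtain ⟨hw, hg, hs, hnd⟩ := k1_ok
  have hN : cov1.node = 1 := by decide +kernel
  have hgens : ∀ g < cov1.gens.length, ∃ a ∈ stabN 1, El ((cov1.gens.map fun k => (crt.fact k).d).getD g []) a :=
    fun g hlt => hN ▸ stab_gens cov1_facts hlt
  have hQ : Qc ≤ stabN 1 := by
    refine (Subgroup.closure_le _).2 ?_
    rintro _ ⟨k, hk, rfl⟩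
    have hi : cSet.idxOf k < 5 := List.idxOf_lt_length_of_mem hk
    have h := List.all_eq_true.1 hw _ (List.mem_range.2 hi)
    simp only [Bool.and_eq_true, beq_iff_eq, List.all_eq_true, Nat.blt_eq] at h
    obtain ⟨a, ha, hA⟩ := tmat_mem hgens _ h.2
    rw [h.1] at hA
    have hk' : wval fgen (lgW.getD (cSet.idxOf k) []) = fgen k := by
      simp only [cSet, List.mem_cons, List.not_mem_nil, or_false] at hk
      rcases hk with rfl | rfl | rfl | rfl | rfl <;> simp [cSet, lgW, wval, List.idxOf, List.findIdx, List.findIdx.go]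
    have hE := El.word (lgW.getD (cSet.idxOf k) []) (by
      simp only [cSet, List.mem_cons, List.not_mem_nil, or_false] at hk
      rcases hk with rfl | rfl | rfl | rfl | rfl <;> decide +kernel)
    rw [hk'] at hE
    rw [SetLike.mem_coe, El.unique hE hA]
    exact ha
  have hr := orbK1.reach (stabN 1) (fun g hlt => by
    rw [hg] at hlt ⊢
    exact hgens g (by rwa [List.length_map] at hlt)) (by rw [hs]; decide) orbK1_all
  have h := orbit_le (stabN 1) Qc hQ (toMat 7 frameP) Qc_le_Fx 96
    (fun k => if hk : k < 96 then (hr k hk).2.choose else 1)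
    (fun k hk => by rw [dif_pos hk]; exact (hr k hk).2.choose_spec.1) fun i hi j hj e => by
      rw [dif_pos hi, dif_pos hj, ← hs, (hr i hi).2.choose_spec.2, (hr j hj).2.choose_spec.2] at e
      have := List.inj_on_of_nodup_map hnd (List.mem_range.2 hi) (List.mem_range.2 hj)
        (toMat_inj (hr i hi).1 (hr j hj).1 e)
      exact this
  exact le_trans (Nat.mul_le_mul (le_refl 96) card_Qc_ge) h

theorem live5_nodes : cov1.node = 1 ∧ cov6.node = 6 ∧ cov9.node = 9 ∧ cov12.node = 12 ∧
    cov6Orb.gens = cov6.gens.map (fun k => (crt.fact k).d) ∧ matOK 7 cov6Orb.start = true ∧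
    cov9Orb.gens = cov9.gens.map (fun k => (crt.fact k).d) ∧ matOK 7 cov9Orb.start = true ∧
    cov12Orb.gens = cov12.gens.map (fun k => (crt.fact k).d) ∧ matOK 7 cov12Orb.start = true := by
  decide +kernel

theorem root_zero : ((crt.fact 0).z && Nat.beq (crt.fact 0).i 0 && Nat.beq (crt.fact 0).j 1 &&
    (crt.fact 0).x == idMat 7) = true := by decide +kernel

theorem closed_five : ∀ n ∈ live5, ∀ a : F, InO live5 (crt.v n * toLy a * zL) := by
  obtain ⟨h1, h6, h9, h12, -⟩ := live5_nodes
  intro n hn a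
  simp only [live5, List.mem_cons, List.not_mem_nil, or_false] at hn
  rcases hn with rfl | rfl | rfl | rfl | rfl
  · have h := root_zero
    simp only [Bool.and_eq_true, beq_iff_eq] at h
    obtain ⟨⟨⟨hz, hi⟩, hj⟩, hx⟩ := h
    obtain ⟨x, y, ha, -, hE, -⟩ := crt_fok 0 (by decide)
    rw [hz, cond_true, Nat.eq_of_beq_eq_true hi, Nat.eq_of_beq_eq_true hj, crt_v0] at hE
    rw [hx] at ha
    rw [El.unique ha El.one, map_one, one_mul, one_mul] at hE
    refine ⟨1, by decide, y, Eqv.trans ?_ hE⟩
    show crt.v 0 * toLy a * zL * zL⁻¹ ∈ KL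
    rw [mul_inv_cancel_right, crt_v0, one_mul]
    exact ⟨a, rfl⟩
  · exact closed_of_good close_all frEl_zero frEl_ok (h1 ▸ covers_good cov1_facts cov1_covers frEl_ok) a
  · exact closed_of_good close_all frEl_zero frEl_ok (h6 ▸ covers_good cov6_facts cov6_covers frEl_ok) a
  · exact closed_of_good close_all frEl_zero frEl_ok (h9 ▸ covers_good cov9_facts cov9_covers frEl_ok) a
  · exact closed_of_good close_all frEl_zero frEl_ok (h12 ▸ covers_good cov12_facts cov12_covers frEl_ok) a

/-- The orders of the stabilisers. -/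
def ord5 : ℕ → ℕ
  | 0 => 5859000000
  | 1 => 300000
  | 6 => 6048
  | 9 => 2880
  | _ => 1008

theorem stab_ord5 : ∀ n ∈ live5, 0 < ord5 n ∧ ord5 n ≤ Nat.card (stabN n) := by
  obtain ⟨h1, h6, h9, h12, g6, s6, g9, s9, g12, s12⟩ := live5_nodes
  intro n hn
  simp only [live5, List.mem_cons, List.not_mem_nil, or_false] at hn
  rcases hn with rfl | rfl | rfl | rfl | rfl
  · refine ⟨by decide, le_of_eq ?_⟩
    have : stabN 0 = ⊤ := by
      rw [eq_top_iff]
      intro s _
      show Eqv (crt.v 0 * toLy s) (crt.v 0)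
      rw [crt_v0, one_mul]
      exact ⟨s, by simp⟩
    rw [this, Subgroup.card_top, card_F_eq, ord5]
  · exact ⟨by decide, stab_one⟩
  · refine ⟨by decide, ?_⟩
    have := stab_orbit cov6Orb cov6_facts g6 s6 cov6Orb_all cov6Orb_distinct
    rw [h6] at this
    exact this
  · refine ⟨by decide, ?_⟩
    have := stab_orbit cov9Orb cov9_facts g9 s9 cov9Orb_all cov9Orb_distinct
    rw [h9] at this
    exact this
  · refine ⟨by decide, ?_⟩
    have := stab_orbit cov12Orb cov12_facts g12 s12 cov12Orb_all cov12Orb_distinct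
    rw [h12] at this
    exact this

theorem index_upper : KL.index ≠ 0 ∧ KL.index ≤ 8835156 := by
  classical
  have h := index_le (live := live5) (by decide) (by decide) closed_five ord5 stabN stab_ord5
    (fun n _ s hs => hs)
  refine ⟨h.1, h.2.trans (le_of_eq ?_)⟩
  decide +kernel

end Cfsg.Lib.LyPres
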