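import Cfsg.Prelude.Def_Spor_Ly

/-!
The relators of the presented Lyons group as words in numbered letters.
-/

set_option autoImplicit false

namespace Cfsg.Lib.LyPres

open Cfsg.Spor

/-- The generators in order. -/
def genList : List Ly.Gen :=
  [.a, .b, .c, .d, .z, .e, .a1, .a2, .a3, .a4, .c1, .c2, .c3, .c4, .c5, .u, .x23, .x24, .x25, .x29, .x47, .x96, .x129, .x162, .x163, .x164, .x165, .x166, .x167, .x168, .x169, .x364, .x365, .x366, .x367, .x368, .x369, .x370, .x371]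

/-- The generator with a number. -/
def genAt (k : ℕ) : Ly.Gen := genList.getD k .a

/-- The value of a word: an even letter is a generator, an odd one the inverse of the preceding one. -/
def wval {G : Type*} [Group G] (im : ℕ → G) (w : List ℕ) : G :=
  (w.map fun l => bif l % 2 == 0 then im (l / 2) else (im (l / 2))⁻¹).prod

/-- The relators as words. -/
def relWords : List (List ℕ) :=
  [[0, 0, 0, 0, 0, 0, 0, 0],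
    [2, 2, 2, 2, 2],
    [0, 2, 0, 2, 0, 2, 0, 2],
    [1, 1, 3, 0, 0, 2],
    [1, 3, 0, 2, 1, 3, 0, 2, 1, 3, 0, 2],
    [20, 5],
    [22, 1, 5, 0],
    [24, 3, 5, 2],
    [26, 2, 5, 3],
    [28, 23, 21, 22, 20],
    [20, 20, 20, 20, 20],
    [28, 28, 28, 28, 28],
    [21, 29, 20, 28],
    [23, 29, 22, 28],
    [25, 29, 24, 28],
    [27, 29, 26, 28],
    [21, 25, 20, 24, 28, 28],
    [21, 27, 20, 26, 29, 29],
    [23, 25, 22, 24, 28],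
    [23, 27, 22, 26],
    [25, 27, 24, 26, 28],
    [1, 22, 0, 20, 20],
    [1, 24, 0, 27, 21, 24, 24],
    [1, 26, 0, 27, 21, 27, 24, 22, 21],
    [1, 28, 0, 29, 29],
    [3, 22, 2, 26, 20, 26, 25, 23],
    [3, 24, 2, 24, 24, 27, 21, 21],
    [3, 28, 2, 29],
    [10, 7, 21, 7, 2, 1, 3, 21, 7, 1, 21, 0, 21, 1, 20, 0, 2, 2],
    [10, 10],
    [11, 20, 10, 20, 3, 25, 3],
    [11, 24, 10, 0, 26, 20, 23, 1, 3, 3],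
    [11, 26, 10, 27, 24, 3, 3],
    [11, 28, 10, 26, 21, 24, 21],
    [10, 0, 0, 10, 26, 29, 21, 1, 2, 1, 3, 3, 1],
    [11, 2, 10, 26, 26, 24, 21],
    [10, 0, 2, 2, 0, 3, 0, 10, 26, 29, 21, 1, 1],
    [10, 22, 10, 23, 10, 22, 27, 0, 24, 0, 0, 0],
    [6, 11, 3, 22, 1, 11, 1, 11, 1, 28, 26, 20, 2, 0, 3, 3, 1],
    [6, 6, 1, 1, 1, 1],
    [3, 7, 2, 6],
    [7, 0, 6, 1, 1, 1],
    [6, 28, 6, 28, 6, 28, 6, 28, 6, 28],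
    [6, 28, 6, 29, 6, 28, 1, 1],
    [12, 1],
    [14, 2, 1, 3],
    [16, 2, 2, 1, 3, 3],
    [18, 3, 3, 1, 2, 2],
    [30, 1, 1],
    [32, 7],
    [34, 6],
    [36, 3, 5, 0, 3, 3, 4, 7, 4, 0, 5, 1, 4, 3, 3, 0, 2, 0, 3, 3],
    [38, 5, 3, 5, 7, 2, 2, 5, 7, 2, 5, 3, 5, 1, 4, 3, 3, 0, 3, 3, 0, 3, 1],
    [40, 6, 4, 3, 0, 4, 0, 6, 4],
    [42, 7, 3],
    [44, 2, 6],
    [46, 1, 3, 4, 1, 2, 4, 3, 0, 2, 0],
    [48, 3, 5, 3, 0, 5, 1, 2, 2],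
    [50, 1, 3, 1, 5, 0, 2, 0],
    [52, 3, 1, 2, 5, 3, 0, 2],
    [54, 4, 2, 2, 5, 1, 3, 5, 2, 0, 3, 3],
    [56, 0, 0, 0],
    [58, 0, 0, 2, 0, 3],
    [60, 0, 2, 2, 1, 3, 3, 1],
    [62, 2, 1, 3, 1, 2, 1, 4, 0, 2, 4, 3, 6, 4, 3, 0, 4, 2, 7, 0],
    [64, 6, 2, 5, 0, 5, 1, 5, 7, 4, 4, 0, 3, 4, 3, 5, 0, 2, 2, 1],
    [66, 5, 3, 5, 7, 2, 2, 5, 7, 3, 5, 3, 3, 5, 2, 0, 2, 2, 0, 2, 1, 3],
    [68, 2, 0, 3, 1, 3, 3, 1, 3, 4, 2, 2, 4, 2, 6, 4, 3, 3, 6, 4, 2, 4],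
    [70, 2, 2, 0, 2, 4, 2, 2, 5, 1, 4, 0, 6, 4, 1, 2, 4, 1, 6, 4, 0],
    [72, 2, 1, 2, 2, 1, 2, 4, 2, 0, 3, 6, 4, 2, 0, 3, 6, 4, 0],
    [74, 0, 3, 0, 2, 2, 0, 5, 0, 2, 1, 6, 4, 0, 5, 3, 5, 1, 6],
    [76, 3, 0, 2, 0, 2, 5, 1, 5, 0, 5, 6, 4, 3, 5, 0, 4],
    [9, 20, 8, 47],
    [9, 22, 8, 49],
    [9, 24, 8, 51],
    [9, 26, 8, 53],
    [9, 28, 8, 55],
    [9, 12, 8, 57],
    [9, 14, 8, 59],
    [9, 16, 8, 61],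
    [8, 8, 31],
    [18, 8, 18, 8, 18, 8, 30],
    [40, 8, 62, 8, 70, 8],
    [9, 34, 9, 72, 8, 32, 8, 38],
    [8, 66, 8, 64, 9, 68, 9, 74],
    [8, 42, 8, 36, 9, 44, 9, 76]]

set_option maxRecDepth 100000 in
theorem extra_eq : Ly.extra = relWords.map (wval fun k => FreeGroup.of (genAt k)) := by
  decide +kernel

end Cfsg.Lib.LyPres
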